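import Cfsg.Prelude.Def_Transfer
import Mathlib

/-!
The commutator pairing of an extraspecial 2-group is non-degenerate.
-/

set_option autoImplicit false
set_option linter.unusedSectionVars false

namespace CfsgLib.Fischer.Extra

open scoped commutatorElement

variable {E : Type*} [Group E] [Finite E] (hE : Cfsg.IsExtraspecial 2 E)

include hE

theorem comm_le : commutator E ≤ Subgroup.center E := hE.1.2.2.le

theorem comm_mem (a b : E) : ⁅a, b⁆ ∈ Subgroup.center E :=
  comm_le hE (Subgroup.commutator_mem_commutator (Subgroup.mem_top a) (Subgroup.mem_top b))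

theorem comm_mul_right (a b c : E) : ⁅a, b * c⁆ = ⁅a, b⁆ * ⁅a, c⁆ := by
  have h : ∀ g, Commute g ⁅a, c⁆ := fun g => Subgroup.mem_center_iff.1 (comm_mem hE a c) g
  calc ⁅a, b * c⁆ = a * b * a⁻¹ * (⁅a, c⁆ * b⁻¹) := by simp only [commutatorElement_def]; group
    _ = a * b * a⁻¹ * (b⁻¹ * ⁅a, c⁆) := by rw [(h b⁻¹).eq]
    _ = _ := by simp only [commutatorElement_def]; group

theorem center_sq (z : Subgroup.center E) : z * z = 1 := by
  have h := pow_card_eq_one' (x := z)
  rwa [hE.2, pow_two] at h

theorem center_cases (z w : Subgroup.center E) (hz : z ≠ 1) (hw : w ≠ 1) : z = w :=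
  ((Nat.card_eq_two_iff' (1 : Subgroup.center E)).1 hE.2).unique hz hw

open Classical in
/-- the sign of a central element -/
noncomputable def sign : Subgroup.center E →* ℂˣ :=
  { toFun := fun z => if z = 1 then 1 else -1
    map_one' := by simp
    map_mul' := fun z w => by
      by_cases hz : z = 1
      · simp [hz]
      by_cases hw : w = 1
      · simp [hw]
      rw [center_cases hE z w hz hw, center_sq hE]; simp [hw] }

theorem sign_injective : Function.Injective (sign hE) := by
  refine (injective_iff_map_eq_one _).2 fun z hz => ?_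
  by_contra h
  simp only [sign, MonoidHom.coe_mk, OneHom.coe_mk, if_neg h] at hz
  have := congrArg (fun u : ℂˣ => (u : ℂ)) hz
  norm_num at this

/-- the pairing with one element -/
noncomputable def pairing (a : E) : E ⧸ Subgroup.center E →* ℂˣ :=
  QuotientGroup.lift _ ((sign hE).comp
    (MonoidHom.mk' (fun b => (⟨⁅a, b⁆, comm_mem hE a b⟩ : Subgroup.center E))
      fun b c => Subtype.ext (comm_mul_right hE a b c))) fun b hb => by
      have : ⁅a, b⁆ = 1 := commutatorElement_eq_one_iff_mul_comm.2 (Subgroup.mem_center_iff.1 hb a)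
      rw [MonoidHom.mem_ker, MonoidHom.comp_apply]
      convert map_one (sign hE)
      exact Subtype.ext this

theorem pairing_mk (a b : E) : pairing hE a (QuotientGroup.mk b) = sign hE ⟨⁅a, b⁆, comm_mem hE a b⟩ := rfl

theorem pairing_surjective (χ : E ⧸ Subgroup.center E →* ℂˣ) : ∃ a, pairing hE a = χ := by
  letI : CommGroup (E ⧸ Subgroup.center E) :=
    { (inferInstance : Group (E ⧸ Subgroup.center E)) with
      mul_comm := fun p q => by
        obtain ⟨x, rfl⟩ := QuotientGroup.mk_surjective p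
        obtain ⟨y, rfl⟩ := QuotientGroup.mk_surjective q
        rw [← QuotientGroup.mk_mul, ← QuotientGroup.mk_mul, QuotientGroup.eq,
          show (x * y)⁻¹ * (y * x) = ⁅y⁻¹, x⁻¹⁆ by simp only [commutatorElement_def]; group]
        exact comm_mem hE _ _ }
  let f : E ⧸ Subgroup.center E → (E ⧸ Subgroup.center E →* ℂˣ) := fun p => pairing hE p.out
  have hf : Function.Injective f := by
    intro p q hpq
    have key : ∀ b, ⁅p.out, b⁆ = ⁅q.out, b⁆ := fun b => congrArg Subtype.val (sign_injective hE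
      (congrArg (fun g : E ⧸ Subgroup.center E →* ℂˣ => g (QuotientGroup.mk b)) hpq))
    rw [← QuotientGroup.out_eq' p, ← QuotientGroup.out_eq' q, QuotientGroup.eq, Subgroup.mem_center_iff]
    intro b
    have k := key b
    simp only [commutatorElement_def] at k
    have k' : p.out * b * p.out⁻¹ = q.out * b * q.out⁻¹ := mul_right_cancel k
    calc b * (p.out⁻¹ * q.out) = p.out⁻¹ * (p.out * b * p.out⁻¹) * q.out := by group
      _ = p.out⁻¹ * q.out * b := by rw [k']; group
  haveI : HasEnoughRootsOfUnity ℂ (Monoid.exponent (E ⧸ Subgroup.center E)) := inferInstance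
  haveI : Finite (E ⧸ Subgroup.center E →* ℂˣ) :=
    Nat.finite_of_card_ne_zero (by
      rw [CommGroup.card_monoidHom_of_hasEnoughRootsOfUnity]; exact Nat.card_pos.ne')
  obtain ⟨p, hp⟩ := ((Nat.bijective_iff_injective_and_card f).2
    ⟨hf, (CommGroup.card_monoidHom_of_hasEnoughRootsOfUnity _ ℂ).symm⟩).2 χ
  exact ⟨p.out, hp⟩

/-- some element centralises a subgroup and moves a given element outside it -/
theorem exists_separate (B : Subgroup E) {x : E} (hx : x ∉ B ⊔ Subgroup.center E) :
    ∃ a, (∀ b ∈ B, Commute a b) ∧ ¬ Commute a x := by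
  letI : CommGroup (E ⧸ Subgroup.center E) :=
    { (inferInstance : Group (E ⧸ Subgroup.center E)) with
      mul_comm := fun p q => by
        obtain ⟨x, rfl⟩ := QuotientGroup.mk_surjective p
        obtain ⟨y, rfl⟩ := QuotientGroup.mk_surjective q
        rw [← QuotientGroup.mk_mul, ← QuotientGroup.mk_mul, QuotientGroup.eq,
          show (x * y)⁻¹ * (y * x) = ⁅y⁻¹, x⁻¹⁆ by simp only [commutatorElement_def]; group]
        exact comm_mem hE _ _ }
  set Bq := B.map (QuotientGroup.mk' (Subgroup.center E))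
  have hne : (QuotientGroup.mk (QuotientGroup.mk x : E ⧸ Subgroup.center E) : (E ⧸ Subgroup.center E) ⧸ Bq) ≠ 1 := by
    intro k
    apply hx
    have k' : x ∈ Bq.comap (QuotientGroup.mk' (Subgroup.center E)) :=
      (QuotientGroup.eq_one_iff (N := Bq) (QuotientGroup.mk x : E ⧸ Subgroup.center E)).1 k
    rwa [Subgroup.comap_map_eq, QuotientGroup.ker_mk'] at k'
  obtain ⟨φ, hφ⟩ := CommGroup.exists_apply_ne_one_of_hasEnoughRootsOfUnity _ ℂ hne
  obtain ⟨a, ha⟩ := pairing_surjective hE (φ.comp (QuotientGroup.mk' Bq))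
  have key : ∀ b, Commute a b ↔ φ (QuotientGroup.mk (QuotientGroup.mk b : E ⧸ Subgroup.center E)) = 1 := by
    intro b
    have e : pairing hE a (QuotientGroup.mk b) = φ (QuotientGroup.mk (QuotientGroup.mk b : E ⧸ Subgroup.center E)) := by
      rw [ha]; rfl
    rw [← e, pairing_mk, map_eq_one_iff _ (sign_injective hE)]
    exact ⟨fun k => Subtype.ext (commutatorElement_eq_one_iff_mul_comm.2 k),
      fun k => commutatorElement_eq_one_iff_mul_comm.1 (congrArg Subtype.val k)⟩
  refine ⟨a, fun b hb => (key b).2 ?_, fun k => hφ ((key x).1 k)⟩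
  have hb' : (QuotientGroup.mk b : E ⧸ Subgroup.center E) ∈ Bq := ⟨b, hb, rfl⟩
  rw [(QuotientGroup.eq_one_iff _).2 hb', map_one]

/-- an automorphism trivial modulo the centre is inner -/
theorem inner_of_central (φ : E ≃* E) (hφ : ∀ x : E, φ x * x⁻¹ ∈ Subgroup.center E) :
    ∃ g : E, ∀ x : E, φ x = g * x * g⁻¹ := by
  let d : E →* Subgroup.center E := MonoidHom.mk' (fun x => ⟨φ x * x⁻¹, hφ x⟩) fun x y => Subtype.ext (by
    show φ (x * y) * (x * y)⁻¹ = φ x * x⁻¹ * (φ y * y⁻¹)
    rw [map_mul, mul_inv_rev, show φ x * φ y * (y⁻¹ * x⁻¹) = φ x * ((φ y * y⁻¹) * x⁻¹) by group,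
      ← Subgroup.mem_center_iff.1 (hφ y) x⁻¹]
    group)
  have hd : Subgroup.center E ≤ d.ker := by
    intro z hz
    refine MonoidHom.mem_ker.2 (Subtype.ext ?_)
    show φ z * z⁻¹ = 1
    rw [mul_inv_eq_one]
    by_cases h1 : z = 1
    · rw [h1, map_one]
    have hz' : φ z ∈ Subgroup.center E := Subgroup.mem_center_iff.2 fun g => by
      obtain ⟨g', rfl⟩ := φ.surjective g
      rw [← map_mul, ← map_mul, Subgroup.mem_center_iff.1 hz g']
    exact congrArg Subtype.val (center_cases hE ⟨φ z, hz'⟩ ⟨z, hz⟩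
      (fun k => h1 (φ.injective ((congrArg Subtype.val k).trans (map_one φ).symm)))
      (fun k => h1 (congrArg Subtype.val k)))
  obtain ⟨g, hg⟩ := pairing_surjective hE (QuotientGroup.lift _ ((sign hE).comp d) fun z hz => by
    rw [MonoidHom.mem_ker, MonoidHom.comp_apply, MonoidHom.mem_ker.1 (hd hz), map_one])
  refine ⟨g, fun x => ?_⟩
  have h1 : sign hE ⟨⁅g, x⁆, comm_mem hE g x⟩ = sign hE (d x) :=
    congrArg (fun f : E ⧸ Subgroup.center E →* ℂˣ => f (QuotientGroup.mk x)) hg
  have h2 : ⁅g, x⁆ = φ x * x⁻¹ := congrArg Subtype.val (sign_injective hE h1)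
  rw [commutatorElement_def] at h2
  exact (mul_right_cancel h2).symm

end CfsgLib.Fischer.Extra
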