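import Cfsg.Prelude.Def_SporadicB

/-!
Sets of 3-transpositions: the braid relation, the commuting criteria for products of two or three
pairwise commuting members, and the symmetric group generated by a path of three members.
-/

set_option autoImplicit false

namespace CfsgLib.Fischer

open Cfsg

variable {G : Type*} [Group G] {D : Set G}

theorem mul_self (h : IsThreeTranspositionSet D) {d : G} (hd : d ∈ D) : d * d = 1 := by
  rw [← pow_two, ← h.1 d hd]; exact pow_orderOf_eq_one d

theorem inv_eq (h : IsThreeTranspositionSet D) {d : G} (hd : d ∈ D) : d⁻¹ = d :=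
  inv_eq_of_mul_eq_one_right (mul_self h hd)

theorem ne_one (h : IsThreeTranspositionSet D) {d : G} (hd : d ∈ D) : d ≠ 1 := by
  intro h1
  have := h.1 d hd
  rw [h1, orderOf_one] at this
  norm_num at this

theorem mul_cancel (h : IsThreeTranspositionSet D) {d : G} (hd : d ∈ D) (x : G) : d * (d * x) = x := by
  rw [← mul_assoc, mul_self h hd, one_mul]

/-- Two members of which one conjugates the other to itself commute. -/
theorem commute_iff_conj (h : IsThreeTranspositionSet D) {d : G} (hd : d ∈ D) (x : G) :
    Commute d x ↔ d * x * d = x := by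
  constructor
  · intro hc; rw [hc.eq, mul_assoc, mul_self h hd, mul_one]
  · intro hc
    calc d * x = d * x * (d * d) := by rw [mul_self h hd, mul_one]
      _ = (d * x * d) * d := by group
      _ = x * d := by rw [hc]

theorem braid (h : IsThreeTranspositionSet D) {a b : G} (ha : a ∈ D) (hb : b ∈ D)
    (hn : ¬ Commute a b) : a * b * a = b * a * b := by
  rcases h.2 a ha b hb with h2 | h3
  · refine absurd ?_ hn
    rw [pow_two, mul_eq_one_iff_eq_inv, mul_inv_rev, inv_eq h ha, inv_eq h hb] at h2
    exact h2
  · have e : (a * b * a) * (b * a * b) = 1 := by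
      rw [← h3]; simp only [pow_succ, pow_zero, one_mul, mul_assoc]
    rw [mul_eq_one_iff_eq_inv] at e
    rw [e]
    simp only [mul_inv_rev, inv_eq h ha, inv_eq h hb, mul_assoc]

theorem not_commute_of_braid (h : IsThreeTranspositionSet D) {a b : G} (ha : a ∈ D) (hne : a ≠ b)
    (hb : a * b * a = b * a * b) : ¬ Commute a b := by
  intro hc
  apply hne
  have e1 : a * b * a = b := (commute_iff_conj h ha b).1 hc
  rw [e1, ← hc.eq] at hb
  have : (1 : G) * b = (a * b) * b := by rwa [one_mul]
  have h1 := mul_right_cancel this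
  calc a = a * (a * b) := by rw [← h1, mul_one]
    _ = b := mul_cancel h ha b

theorem sq_pair (h : IsThreeTranspositionSet D) {a b : G} (ha : a ∈ D) (hb : b ∈ D)
    (hc : Commute a b) : (a * b) * (a * b) = 1 := by
  calc (a * b) * (a * b) = a * (b * a) * b := by group
    _ = a * (a * b) * b := by rw [hc.eq]
    _ = 1 := by rw [mul_cancel h ha, mul_self h hb]

/-- S0436 -/
theorem commute_prod_two (h : IsThreeTranspositionSet D) {a b e : G} (ha : a ∈ D) (hb : b ∈ D)
    (he : e ∈ D) (hab : a ≠ b) (hc : Commute a b) :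
    Commute e (a * b) ↔ (Commute e a ∧ Commute e b) := by
  refine ⟨fun hp => ?_, fun ⟨h1, h2⟩ => h1.mul_right h2⟩
  by_cases h1 : Commute e a
  · refine ⟨h1, ?_⟩
    have := h1.mul_right hp
    rwa [mul_cancel h ha] at this
  by_cases h2 : Commute e b
  · refine ⟨?_, h2⟩
    have := hp.mul_right h2
    rwa [mul_assoc, mul_self h hb, mul_one] at this
  exfalso
  apply hab
  have e0 : e * (a * b) * e = a * b := (commute_iff_conj h he _).1 hp
  have e1 : (a * b) * e * (a * b) = e := by
    calc (a * b) * e * (a * b) = (e * (a * b) * e) * e * (a * b) := by rw [e0]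
      _ = e * (a * b) * (e * e) * (a * b) := by group
      _ = e * ((a * b) * (a * b)) := by rw [mul_self h he]; group
      _ = e := by rw [sq_pair h ha hb hc, mul_one]
  have e2 : b * e * b = a * e * a := by
    have hba : a * b * a = b := (commute_iff_conj h ha b).1 hc
    calc b * e * b = (a * a) * (b * e * (a * b * a)) := by rw [mul_self h ha, one_mul, hba]
      _ = a * (a * b * e * (a * b)) * a := by group
      _ = a * e * a := by rw [e1]
  rw [braid h hb he (fun hh => h2 hh.symm), braid h ha he (fun hh => h1 hh.symm)] at e2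
  exact (mul_left_cancel (mul_right_cancel e2)).symm

/-- S0437 -/
theorem commute_prod_three (h : IsThreeTranspositionSet D) {a b c e : G} (ha : a ∈ D) (hb : b ∈ D)
    (hc : c ∈ D) (he : e ∈ D) (hab : a ≠ b) (hac : a ≠ c) (hbc : b ≠ c)
    (h1 : Commute a b) (h2 : Commute a c) (h3 : Commute b c) :
    Commute e (a * b * c) ↔ (Commute e a ∧ Commute e b ∧ Commute e c) := by
  refine ⟨fun hp => ?_, fun ⟨k1, k2, k3⟩ => (k1.mul_right k2).mul_right k3⟩
  have pc : a * b = (a * b * c) * c := by rw [mul_assoc _ c c, mul_self h hc, mul_one]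
  have pa : b * c = a * (a * b * c) := by rw [mul_assoc a b c, mul_cancel h ha]
  have pb : a * c = b * (a * b * c) := by
    rw [h1.eq, mul_assoc b a c, mul_cancel h hb]
  by_cases ka : Commute e a
  · have : Commute e (b * c) := by rw [pa]; exact ka.mul_right hp
    exact ⟨ka, (commute_prod_two h hb hc he hbc h3).1 this⟩
  by_cases kb : Commute e b
  · have : Commute e (a * c) := by rw [pb]; exact kb.mul_right hp
    have := (commute_prod_two h ha hc he hac h2).1 this
    exact ⟨this.1, kb, this.2⟩
  by_cases kc : Commute e c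
  · have : Commute e (a * b) := by rw [pc]; exact hp.mul_right kc
    have := (commute_prod_two h ha hb he hab h1).1 this
    exact ⟨this.1, this.2, kc⟩
  exfalso
  have nea : ¬ Commute a e := fun k => ka k.symm
  have neb : ¬ Commute b e := fun k => kb k.symm
  have nec : ¬ Commute c e := fun k => kc k.symm
  have e0 : (a * b * c) * e * (a * b * c)⁻¹ = e := by rw [← hp.eq]; group
  simp only [mul_inv_rev, inv_eq h ha, inv_eq h hb, inv_eq h hc] at e0
  -- the three equalities of the W(D4) collapse
  have e1 : b * (c * e * c) * b = a * e * a := by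
    calc b * (c * e * c) * b = (a * a) * (b * (c * e * c) * b) * (a * a) := by
          rw [mul_self h ha, one_mul, mul_one]
      _ = a * (a * b * c * e * (c * (b * a))) * a := by group
      _ = a * e * a := by rw [e0]
  have exbx : e * b * e = b * e * b := (braid h hb he neb).symm
  have e2 : b * (c * e * c) * b = b * e * c * e * b := by
    rw [braid h hc he nec]; group
  have e3 : (e * b * e) * c * (e * b * e) = b * e * c * e * b := by
    rw [exbx]
    calc b * e * b * c * (b * e * b) = b * e * (b * c * b) * e * b := by group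
      _ = _ := by rw [(commute_iff_conj h hb c).1 h3]
  have e4 : e * a * e = b * e * c * e * b := by
    rw [(braid h ha he nea).symm, ← e1, e2]
  have e5 : a = b * (c * e * c) * b := by
    calc a = e * (e * a * e) * e := by
          simp only [mul_assoc, mul_cancel h he]; rw [mul_self h he, mul_one]
      _ = e * (b * e * c * e * b) * e := by rw [e4]
      _ = (e * b * e) * c * (e * b * e) := by group
      _ = b * e * c * e * b := e3
      _ = _ := e2.symm
  rw [e1] at e5
  apply nea
  have h6 : a * e = 1 := by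
    calc a * e = a * e * (a * a) := by rw [mul_self h ha, mul_one]
      _ = (a * e * a) * a := by group
      _ = 1 := by rw [← e5, mul_self h ha]
  have h7 : e = a := by rw [← inv_eq h ha]; exact (inv_eq_of_mul_eq_one_right h6).symm
  rw [h7]

/-- A path of three members generates a symmetric group of degree four. -/
theorem exists_hom_perm_four (h : IsThreeTranspositionSet D) {a b c : G} (ha : a ∈ D) (hb : b ∈ D)
    (hc : c ∈ D) (hac : a ≠ c) (hac' : Commute a c) (hab : ¬ Commute a b) (hbc : ¬ Commute b c) :
    ∃ φ : Equiv.Perm (Fin 4) →* G, Function.Injective φ ∧ φ (Equiv.swap 0 1) = a ∧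
      φ (Equiv.swap 1 2) = b ∧ φ (Equiv.swap 2 3) = c := by
  classical
  set x : Equiv.Perm (Fin 4) × G := (Equiv.swap 0 1, a) with hx
  set y : Equiv.Perm (Fin 4) × G := (Equiv.swap 1 2, b) with hy
  set z : Equiv.Perm (Fin 4) × G := (Equiv.swap 2 3, c) with hz
  have xx : x * x = 1 := Prod.ext (Equiv.swap_mul_self _ _) (mul_self h ha)
  have yy : y * y = 1 := Prod.ext (Equiv.swap_mul_self _ _) (mul_self h hb)
  have zz : z * z = 1 := Prod.ext (Equiv.swap_mul_self _ _) (mul_self h hc)
  have xyx : x * y * x = y * x * y := Prod.ext (show Equiv.swap (0 : Fin 4) 1 * Equiv.swap 1 2 * Equiv.swap 0 1 = Equiv.swap 1 2 * Equiv.swap 0 1 * Equiv.swap 1 2 by decide +kernel) (braid h ha hb hab)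
  have yzy : y * z * y = z * y * z := Prod.ext (show Equiv.swap (1 : Fin 4) 2 * Equiv.swap 2 3 * Equiv.swap 1 2 = Equiv.swap 2 3 * Equiv.swap 1 2 * Equiv.swap 2 3 by decide +kernel) (braid h hb hc hbc)
  have xz : x * z = z * x := Prod.ext (show Equiv.swap (0 : Fin 4) 1 * Equiv.swap 2 3 = Equiv.swap 2 3 * Equiv.swap 0 1 by decide +kernel) hac'.eq
  clear_value x y z
  set K1 : Finset (Equiv.Perm (Fin 4) × G) := {1, x, y, x * y, y * x, x * y * x} with hK1
  set T : Finset (Equiv.Perm (Fin 4) × G) := {1, z, z * y, z * y * x} with hT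
  set S : Finset (Equiv.Perm (Fin 4) × G) := (K1 ×ˢ T).image (fun p => p.1 * p.2) with hS
  clear_value K1 T S
  have K1x : ∀ k ∈ K1, k * x ∈ K1 := by
    intro k hk
    simp only [hK1, Finset.mem_insert, Finset.mem_singleton] at hk ⊢
    rcases hk with rfl | rfl | rfl | rfl | rfl | rfl
    · simp
    · simp [xx]
    · simp
    · simp
    · right; right; left; rw [mul_assoc, xx, mul_one]
    · right; right; right; left; rw [mul_assoc _ x x, xx, mul_one]
  have K1y : ∀ k ∈ K1, k * y ∈ K1 := by
    intro k hk
    simp only [hK1, Finset.mem_insert, Finset.mem_singleton] at hk ⊢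
    rcases hk with rfl | rfl | rfl | rfl | rfl | rfl
    · simp
    · simp
    · simp [yy]
    · right; left; rw [mul_assoc, yy, mul_one]
    · right; right; right; right; right; rw [← xyx]
    · right; right; right; right; left; rw [xyx, mul_assoc _ y y, yy, mul_one]
  have mem : ∀ k ∈ K1, ∀ t ∈ T, k * t ∈ S := fun k hk t ht => hS.symm ▸
    Finset.mem_image.2 ⟨(k, t), Finset.mem_product.2 ⟨hk, ht⟩, rfl⟩
  have hT1 : (1 : Equiv.Perm (Fin 4) × G) ∈ T := by simp [hT]
  have hT2 : z ∈ T := by simp [hT]
  have hT3 : z * y ∈ T := by simp [hT]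
  have hT4 : z * y * x ∈ T := by simp [hT]
  have zyz : z * y * z = y * (z * y) := by rw [← yzy]; group
  have key : ∀ g ∈ ({x, y, z} : Set (Equiv.Perm (Fin 4) × G)), ∀ s ∈ S, s * g ∈ S := by
    intro g hg s hs
    rw [hS] at hs
    obtain ⟨⟨k, t⟩, hkt, rfl⟩ := Finset.mem_image.1 hs
    obtain ⟨hk, ht⟩ := Finset.mem_product.1 hkt
    simp only [hT, Finset.mem_insert, Finset.mem_singleton] at ht
    simp only [Set.mem_insert_iff, Set.mem_singleton_iff] at hg
    show k * t * g ∈ S
    rcases hg with hgx | hgy | hgz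
    · rw [hgx]
      rcases ht with rfl | rfl | rfl | rfl
      · simpa using mem _ (K1x k hk) _ hT1
      · rw [mul_assoc k, ← xz, ← mul_assoc]; exact mem _ (K1x k hk) _ hT2
      · rw [mul_assoc k]; exact mem _ hk _ hT4
      · rw [mul_assoc k, mul_assoc _ x x, xx, mul_one]; exact mem _ hk _ hT3
    · rw [hgy]
      rcases ht with rfl | rfl | rfl | rfl
      · simpa using mem _ (K1y k hk) _ hT1
      · rw [mul_assoc k]; exact mem _ hk _ hT3
      · rw [mul_assoc k, mul_assoc z y y, yy, mul_one]; exact mem _ hk _ hT2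
      · have e : z * y * x * y = x * (z * y * x) := by
          calc z * y * x * y = z * (y * x * y) := by group
            _ = z * (x * y * x) := by rw [xyx]
            _ = (z * x) * y * x := by group
            _ = (x * z) * y * x := by rw [xz]
            _ = _ := by group
        rw [mul_assoc k, e, ← mul_assoc]; exact mem _ (K1x k hk) _ hT4
    · rw [hgz]
      rcases ht with rfl | rfl | rfl | rfl
      · simpa using mem _ hk _ hT2
      · rw [mul_assoc k, zz]; exact mem _ hk _ hT1
      · rw [mul_assoc k, zyz, ← mul_assoc]; exact mem _ (K1y k hk) _ hT3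
      · have e : z * y * x * z = y * (z * y * x) := by
          calc z * y * x * z = z * y * (x * z) := by group
            _ = z * y * (z * x) := by rw [xz]
            _ = (z * y * z) * x := by group
            _ = y * (z * y) * x := by rw [zyz]
            _ = _ := by group
        rw [mul_assoc k, e, ← mul_assoc]; exact mem _ (K1y k hk) _ hT4
  set K : Subgroup (Equiv.Perm (Fin 4) × G) := Subgroup.closure {x, y, z} with hK
  have hinv : ∀ g ∈ ({x, y, z} : Set (Equiv.Perm (Fin 4) × G)), g⁻¹ = g := by
    intro g hg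
    simp only [Set.mem_insert_iff, Set.mem_singleton_iff] at hg
    rcases hg with rfl | rfl | rfl <;> exact inv_eq_of_mul_eq_one_right ‹_›
  have hKS : ∀ g ∈ K, g ∈ S := by
    intro g hg
    rw [hK] at hg
    induction hg using Subgroup.closure_induction_right with
    | one => simpa using mem 1 (by simp [hK1]) 1 hT1
    | mul_right s _ g hg ih => exact key g hg s ih
    | mul_inv_cancel s _ g hg ih => rw [hinv g hg]; exact key g hg s ih
  have hcard : Nat.card K ≤ 24 := by
    calc Nat.card K ≤ Nat.card (S : Set (Equiv.Perm (Fin 4) × G)) :=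
          Nat.card_mono S.finite_toSet hKS
      _ = S.card := Nat.card_eq_finsetCard S
      _ ≤ (K1 ×ˢ T).card := by rw [hS]; exact Finset.card_image_le
      _ = K1.card * T.card := Finset.card_product _ _
      _ ≤ 6 * 4 := by rw [hK1, hT]; exact Nat.mul_le_mul Finset.card_le_six Finset.card_le_four
  haveI : Finite K := Finite.of_injective (fun g : K => (⟨g.1, hKS g.1 g.2⟩ : S))
    (fun g g' hh => Subtype.ext (congrArg (fun u : S => u.1) hh))
  let pr : K →* Equiv.Perm (Fin 4) := (MonoidHom.fst _ _).comp K.subtype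
  have hsurj : Function.Surjective pr := by
    rw [← MonoidHom.range_eq_top, eq_top_iff]
    have hgen : (⊤ : Subgroup (Equiv.Perm (Fin 4))) =
        Subgroup.closure {Equiv.swap 0 1, Equiv.swap 1 2, Equiv.swap 2 3} := by
      symm
      rw [eq_top_iff, ← Equiv.Perm.closure_isSwap, Subgroup.closure_le]
      rintro σ ⟨i, j, hij, rfl⟩
      have hm : ∀ u ∈ ({Equiv.swap 0 1, Equiv.swap 1 2, Equiv.swap 2 3} : Set (Equiv.Perm (Fin 4))),
          u ∈ Subgroup.closure {Equiv.swap 0 1, Equiv.swap 1 2, Equiv.swap 2 3} :=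
        fun u hu => Subgroup.subset_closure hu
      have A := hm (Equiv.swap 0 1) (by simp)
      have B := hm (Equiv.swap 1 2) (by simp)
      have C := hm (Equiv.swap 2 3) (by simp)
      have all : ∀ i j : Fin 4, i ≠ j → ∃ w ∈ [[0], [1], [2], [0,1,0], [1,2,1], [0,1,2,1,0]],
          Equiv.swap i j = (w.map fun k => [Equiv.swap (0:Fin 4) 1, Equiv.swap 1 2, Equiv.swap 2 3].getD k 1).prod := by
        decide +kernel
      obtain ⟨w, hw, hw2⟩ := all i j hij
      rw [SetLike.mem_coe, hw2]
      fin_cases hw <;>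
        simp only [List.map_cons, List.map_nil, List.prod_cons, List.prod_nil, mul_one] <;>
        repeat' (first | exact A | exact B | exact C | apply mul_mem)
    rw [hgen, Subgroup.closure_le]
    rintro σ (rfl | rfl | rfl)
    · exact ⟨⟨x, Subgroup.subset_closure (by simp)⟩, congrArg Prod.fst hx⟩
    · exact ⟨⟨y, Subgroup.subset_closure (by simp)⟩, congrArg Prod.fst hy⟩
    · exact ⟨⟨z, Subgroup.subset_closure (by simp)⟩, congrArg Prod.fst hz⟩
  have hbij : Function.Bijective pr := by
    refine hsurj.bijective_of_nat_card_le ?_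
    rw [Nat.card_perm, Nat.card_fin]
    exact hcard
  let e := MulEquiv.ofBijective pr hbij
  let φ : Equiv.Perm (Fin 4) →* G := ((MonoidHom.snd _ _).comp K.subtype).comp e.symm.toMonoidHom
  have hφ : ∀ (g : Equiv.Perm (Fin 4) × G) (hg : g ∈ K), φ g.1 = g.2 := by
    intro g hg
    have : e.symm g.1 = ⟨g, hg⟩ := by rw [MulEquiv.symm_apply_eq]; rfl
    show (e.symm g.1 : K).1.2 = g.2
    rw [this]
  have fa : φ (Equiv.swap 0 1) = a := by
    have := hφ x (Subgroup.subset_closure (by simp)); rwa [hx] at this
  have fb : φ (Equiv.swap 1 2) = b := by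
    have := hφ y (Subgroup.subset_closure (by simp)); rwa [hy] at this
  have fc : φ (Equiv.swap 2 3) = c := by
    have := hφ z (Subgroup.subset_closure (by simp)); rwa [hz] at this
  refine ⟨φ, ?_, fa, fb, fc⟩
  rw [injective_iff_map_eq_one]
  intro σ hσ
  by_contra hne
  have key : ∀ σ : Equiv.Perm (Fin 4), σ ≠ 1 →
      ∃ τ ∈ [Equiv.swap (0 : Fin 4) 1 * Equiv.swap 2 3, Equiv.swap (0 : Fin 4) 2 * Equiv.swap 1 3],
      ∃ υ ∈ [1, Equiv.swap (0 : Fin 4) 2, Equiv.swap (0 : Fin 4) 3],
      υ * σ * υ⁻¹ = Equiv.swap 0 1 * Equiv.swap 2 3 ∨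
      υ * (σ * τ * σ⁻¹ * τ⁻¹) * υ⁻¹ = Equiv.swap 0 1 * Equiv.swap 2 3 := by
    decide +kernel
  obtain ⟨τ, -, υ, -, h1 | h1⟩ := key σ hne
  all_goals
    have h2 := congrArg φ h1
    simp [hσ, fa, fc] at h2
    exact hac ((inv_eq h ha).symm.trans (inv_eq_of_mul_eq_one_right h2.symm))

end CfsgLib.Fischer
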