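import Cfsg.Prelude.Def_FischerSpaces
import Cfsg.Agent.Spor.Fischer.Basic

/-!
Fischer's theorem that a primitive 3-transposition group acts with rank three on its class.
-/

set_option autoImplicit false

namespace CfsgLib.Fischer

open Cfsg

variable {G : Type*} [Group G] {D : Set G}

/-- the stabiliser of `d` carries `x` to `y` -/
def Sim (d x y : G) : Prop := ∃ h : G, Commute h d ∧ h * x * h⁻¹ = y

theorem sim_refl (d x : G) : Sim d x x := ⟨1, Commute.one_left d, by group⟩

theorem rtg_symm {α : Type*} {R : α → α → Prop} (hR : ∀ a b, R a b → R b a) {a b : α}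
    (h : Relation.ReflTransGen R a b) : Relation.ReflTransGen R b a := by
  induction h with
  | refl => exact Relation.ReflTransGen.refl
  | tail _ h2 ih => exact Relation.ReflTransGen.head (hR _ _ h2) ih

theorem Sim.symm {d x y : G} (h : Sim d x y) : Sim d y x := by
  obtain ⟨g, hg, rfl⟩ := h
  exact ⟨g⁻¹, hg.inv_left, by group⟩

theorem Sim.trans {d x y z : G} (h : Sim d x y) (h' : Sim d y z) : Sim d x z := by
  obtain ⟨g, hg, rfl⟩ := h
  obtain ⟨g', hg', rfl⟩ := h'
  exact ⟨g' * g, hg'.mul_left hg, by group⟩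

theorem commute_conj_iff (g : G) {x y : G} :
    Commute (g * x * g⁻¹) (g * y * g⁻¹) ↔ Commute x y :=
  ⟨fun k => by have := k.map (MulAut.conj g⁻¹).toMonoidHom; simpa [mul_assoc] using this,
    fun k => k.map (MulAut.conj g).toMonoidHom⟩

theorem commute_conj_fixed {g x y : G} (hx : Commute g x) :
    Commute x (g * y * g⁻¹) ↔ Commute x y := by
  conv_lhs => rw [show x = g * x * g⁻¹ by rw [hx.eq]; group]
  exact commute_conj_iff g

theorem invconj (h : IsThreeTranspositionSet D) {a : G} (ha : a ∈ D) (x : G) :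
    a * x * a⁻¹ = a * x * a := by rw [inv_eq h ha]

theorem conj_mem (h : IsThreeTranspositionSet D) (hc : ∀ g : G, ∀ d ∈ D, g * d * g⁻¹ ∈ D) {a b : G}
    (ha : a ∈ D) (hb : b ∈ D) : a * b * a ∈ D := by
  have := hc a b hb; rwa [inv_eq h ha] at this

/-- members commuting with both -/
def common (D : Set G) (a b : G) : Set G := {g | g ∈ D ∧ Commute g a ∧ Commute g b}

theorem common_conj (hc : ∀ g : G, ∀ d ∈ D, g * d * g⁻¹ ∈ D) (g a b : G) :
    common D (g * a * g⁻¹) (g * b * g⁻¹) = (fun x => g * x * g⁻¹) '' common D a b := by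
  ext y
  constructor
  · rintro ⟨hy, h1, h2⟩
    refine ⟨g⁻¹ * y * g, ⟨?_, ?_, ?_⟩, by group⟩
    · simpa using hc g⁻¹ y hy
    · rw [← commute_conj_iff g]; convert h1 using 1; group
    · rw [← commute_conj_iff g]; convert h2 using 1; group
  · rintro ⟨x, ⟨hx, h1, h2⟩, rfl⟩
    exact ⟨hc g x hx, (commute_conj_iff g).2 h1, (commute_conj_iff g).2 h2⟩

theorem ncard_common_conj (hc : ∀ g : G, ∀ d ∈ D, g * d * g⁻¹ ∈ D) (g a b : G) :
    (common D (g * a * g⁻¹) (g * b * g⁻¹)).ncard = (common D a b).ncard := by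
  rw [common_conj hc]
  exact Set.ncard_image_of_injective _ (fun x y hxy => by simpa using hxy)

theorem common_comm (a b : G) : common D a b = common D b a := by
  ext g; simp only [common, Set.mem_setOf_eq]; tauto

theorem ncard_common_sim (hc : ∀ g : G, ∀ d ∈ D, g * d * g⁻¹ ∈ D) {d x y : G} (h : Sim d x y) :
    (common D d x).ncard = (common D d y).ncard := by
  obtain ⟨g, hg, rfl⟩ := h
  conv_rhs => rw [show d = g * d * g⁻¹ by rw [hg.eq]; group]
  rw [ncard_common_conj hc]

theorem common_line (h : IsThreeTranspositionSet D) {a b : G} (ha : a ∈ D) :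
    common D a (a * b * a) = common D a b := by
  ext g
  refine ⟨fun ⟨hg, h1, h2⟩ => ⟨hg, h1, ?_⟩, fun ⟨hg, h1, h2⟩ => ⟨hg, h1, (h1.mul_right h2).mul_right h1⟩⟩
  have := (h1.mul_right h2).mul_right h1
  have e : a * (a * b * a) * a = b := by
    rw [mul_assoc a b a, mul_cancel h ha, mul_assoc b a a, mul_self h ha, mul_one]
  rwa [e] at this

/-- The path lemma. -/
theorem sim_of_commute (h : IsThreeTranspositionSet D) {d a c : G} (hd : d ∈ D) (ha : a ∈ D)
    (hc : c ∈ D) (hac : Commute a c) (had : ¬ Commute d a) (hcd : ¬ Commute d c) : Sim d a c := by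
  by_cases e : a = c
  · exact e ▸ sim_refl d a
  obtain ⟨φ, -, fa, fd, fc⟩ := exists_hom_perm_four h ha hd hc e hac (fun k => had k.symm) hcd
  refine ⟨φ (Equiv.swap 0 3 * Equiv.swap 1 2), ?_, ?_⟩
  · rw [← fd]
    exact (show Commute (Equiv.swap (0 : Fin 4) 3 * Equiv.swap 1 2) (Equiv.swap 1 2) by
      unfold Commute SemiconjBy; decide +kernel).map φ
  · rw [← fa, ← fc, ← map_inv, ← map_mul, ← map_mul]
    congr 1
    decide +kernel

theorem conj_of_nc (h : IsThreeTranspositionSet D) {x y : G} (hx : x ∈ D) (hy : y ∈ D)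
    (hn : ¬ Commute x y) : (x * y * x) * x * (x * y * x)⁻¹ = y := by
  have hb := braid h hx hy hn
  calc (x * y * x) * x * (x * y * x)⁻¹ = (x * y * x) * y⁻¹ * x⁻¹ := by group
    _ = (y * x * y) * y⁻¹ * x⁻¹ := by rw [hb]
    _ = y := by group

/-- If some member commutes with `d` and `x` but not with `y`, then `y` and `x y x` are equivalent. -/
theorem sim_third (h : IsThreeTranspositionSet D) (hc : ∀ g : G, ∀ d ∈ D, g * d * g⁻¹ ∈ D)
    {d x y g : G} (hd : d ∈ D) (hx : x ∈ D) (hy : y ∈ D) (hg : g ∈ D) (hdx : ¬ Commute d x)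
    (hdy : ¬ Commute d y) (hxy : ¬ Commute x y) (hz : ¬ Commute d (x * y * x))
    (hgd : Commute g d) (hgx : Commute g x) (hgy : ¬ Commute g y) : Sim d y (x * y * x) := by
  have hne : g ≠ x := fun e => hdx (e ▸ hgd).symm
  obtain ⟨φ, -, fg, fy, fx⟩ := exists_hom_perm_four h hg hy hx hne hgx hgy (fun k => hxy k.symm)
  set w := g * (x * y * x) * g with hw
  have hzD := conj_mem h hc hx hy
  have hwD : w ∈ D := conj_mem h hc hg hzD
  have hyw : Commute y w := by
    rw [hw, ← fg, ← fy, ← fx, ← map_mul, ← map_mul, ← map_mul, ← map_mul]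
    exact (show Commute (Equiv.swap (1 : Fin 4) 2) (Equiv.swap 0 1 *
      (Equiv.swap 2 3 * Equiv.swap 1 2 * Equiv.swap 2 3) * Equiv.swap 0 1) by
      unfold Commute SemiconjBy; decide +kernel).map φ
  have hdw : ¬ Commute d w := by
    rw [hw, ← invconj h hg]
    exact fun k => hz ((commute_conj_fixed hgd).1 k)
  refine (sim_of_commute h hd hy hwD hyw hdy hdw).trans ⟨g, hgd, ?_⟩
  rw [invconj h hg, hw]
  simp only [mul_assoc, mul_cancel h hg, mul_self h hg, mul_one]

theorem common_subset_or (h : IsThreeTranspositionSet D) (hc : ∀ g : G, ∀ d ∈ D, g * d * g⁻¹ ∈ D)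
    {d x y : G} (hd : d ∈ D) (hx : x ∈ D) (hy : y ∈ D) (hdx : ¬ Commute d x) (hdy : ¬ Commute d y)
    (hns : ¬ Sim d x y) : common D d x ⊆ common D d y ∨ common D d y ⊆ common D d x := by
  by_contra hcon
  rw [not_or, Set.not_subset, Set.not_subset] at hcon
  obtain ⟨⟨g, ⟨hg, hgd, hgx⟩, hgy⟩, g', ⟨hg', hgd', hgy'⟩, hgx'⟩ := hcon
  have hgy2 : ¬ Commute g y := fun k => hgy ⟨hg, hgd, k⟩
  have hgx2 : ¬ Commute g' x := fun k => hgx' ⟨hg', hgd', k⟩
  have hxy : ¬ Commute x y := fun k => hns (sim_of_commute h hd hx hy k hdx hdy)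
  have hz : ¬ Commute d (x * y * x) := fun k => hns ⟨_, k.symm, conj_of_nc h hx hy hxy⟩
  have hyx : ¬ Commute y x := fun k => hxy k.symm
  have hz' : ¬ Commute d (y * x * y) := by rw [← braid h hx hy hxy]; exact hz
  have s1 := sim_third h hc hd hx hy hg hdx hdy hxy hz hgd hgx hgy2
  have s2 := sim_third h hc hd hy hx hg' hdy hdx hyx hz' hgd' hgy' hgx2
  rw [← braid h hx hy hxy] at s2
  exact hns (s2.trans s1.symm)

/-- transitivity of "noncommuting with maximal common centraliser" -/
theorem ncard_common_trans [Finite G] (h : IsThreeTranspositionSet D)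
    (hc : ∀ g : G, ∀ d ∈ D, g * d * g⁻¹ ∈ D) {m : ℕ}
    (hm : ∀ a ∈ D, ∀ b ∈ D, ¬ Commute a b → (common D a b).ncard ≤ m) {a b c : G}
    (ha : a ∈ D) (hb : b ∈ D) (hcD : c ∈ D) (hab : ¬ Commute a b) (hbc : ¬ Commute b c)
    (hac : ¬ Commute a c) (tab : (common D a b).ncard = m) (tbc : (common D b c).ncard = m) :
    (common D a c).ncard = m := by
  have hfD := conj_mem h hc ha hcD
  by_cases hbf : Commute b (a * c * a)
  · have haf : ¬ Commute a (a * c * a) := by
      rw [← invconj h ha]; exact fun k => hac ((commute_conj_fixed (Commute.refl a)).1 k)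
    rw [← common_line h ha, ← ncard_common_sim hc (sim_of_commute h ha hb hfD hbf hab haf), tab]
  by_cases hsub : common D a b ⊆ common D a c
  · exact le_antisymm (hm a ha c hcD hac) (tab ▸ Set.ncard_le_ncard hsub)
  obtain ⟨g, ⟨hg, hga, hgb⟩, hgn⟩ := Set.not_subset.1 hsub
  have hgc : ¬ Commute g c := fun k => hgn ⟨hg, hga, k⟩
  set c' := b * c * b with hc'
  have hc'D : c' ∈ D := conj_mem h hc hb hcD
  have hbc' : ¬ Commute b c' := by
    rw [hc', ← invconj h hb]; exact fun k => hbc ((commute_conj_fixed (Commute.refl b)).1 k)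
  set e := a * b * a with he
  have heD : e ∈ D := conj_mem h hc ha hb
  have hbr : e = b * a * b := braid h ha hb hab
  have hgc' : ¬ Commute g c' := by
    rw [hc', ← invconj h hb]; exact fun k => hgc ((commute_conj_fixed hgb.symm).1 k)
  have hac' : ¬ Commute a c' := by
    intro k
    apply hbf
    have k1 : Commute (b * a * b⁻¹) (b * c' * b⁻¹) := (commute_conj_iff b).2 k
    rw [hc', invconj h hb, invconj h hb, ← braid h ha hb hab] at k1
    simp only [mul_assoc, mul_cancel h hb, mul_self h hb, mul_one] at k1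
    have k2 : Commute (a * e * a⁻¹) (a * c * a⁻¹) := (commute_conj_iff a).2 (by rw [he, mul_assoc]; exact k1)
    rw [invconj h ha, invconj h ha, he] at k2
    simpa only [mul_assoc, mul_cancel h ha, mul_self h ha, mul_one] using k2
  have hz : ¬ Commute b (a * c' * a) := by
    intro k
    apply hac
    have k1 : Commute (a * b * a⁻¹) (a * (a * c' * a) * a⁻¹) := (commute_conj_iff a).2 k
    rw [invconj h ha, invconj h ha, ← he, hbr, hc'] at k1
    simp only [mul_assoc, mul_cancel h ha, mul_self h ha, mul_one] at k1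
    have k2 : Commute (b * a * b⁻¹) (b * c * b⁻¹) := by
      rw [invconj h hb, invconj h hb]; simpa only [mul_assoc] using k1
    exact (commute_conj_iff b).1 k2
  have s := sim_third h hc hb ha hc'D hg (fun k => hab k.symm) hbc' hac' hz hgb hga hgc'
  have eb : e * a * e⁻¹ = b := conj_of_nc h ha hb hab
  have ec : e * c * e⁻¹ = b * (a * c' * a) * b⁻¹ := by
    rw [invconj h heD, invconj h hb, hc', hbr]; simp only [mul_assoc]
  rw [← ncard_common_conj hc e a c, eb, ec,
    show (common D b (b * (a * c' * a) * b⁻¹)).ncard = (common D b (a * c' * a)).ncard from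
      (ncard_common_sim hc ⟨b, Commute.refl b, rfl⟩).symm,
    ← ncard_common_sim hc s, hc', common_line h hb, tbc]

/-- an invariant partition given by an equivalence yields trivial classes -/
theorem class_trivial (hp : IsPrimitiveUnderConj D) (hc : ∀ g : G, ∀ d ∈ D, g * d * g⁻¹ ∈ D)
    (R : G → G → Prop) (hr : ∀ a ∈ D, R a a) (hs : ∀ a b, R a b → R b a)
    (ht : ∀ a b c, R a b → R b c → R a c)
    (hi : ∀ g a b, R a b → R (g * a * g⁻¹) (g * b * g⁻¹)) {d : G} (hd : d ∈ D) :
    (∀ x ∈ D, R d x → x = d) ∨ ∀ x ∈ D, R d x := by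
  have hb : ∀ g : G, (fun x => g * x * g⁻¹) '' {x | x ∈ D ∧ R d x} = {x | x ∈ D ∧ R d x} ∨
      Disjoint ((fun x => g * x * g⁻¹) '' {x | x ∈ D ∧ R d x}) {x | x ∈ D ∧ R d x} := by
    intro g
    by_cases hR : R d (g * d * g⁻¹)
    · left
      ext y
      constructor
      · rintro ⟨x, ⟨hx, hdx⟩, rfl⟩
        exact ⟨hc g x hx, ht _ _ _ hR (hi g _ _ hdx)⟩
      · rintro ⟨hy, hdy⟩
        refine ⟨g⁻¹ * y * g, ⟨by simpa using hc g⁻¹ y hy, ?_⟩, by group⟩
        have := hi g⁻¹ _ _ (ht _ _ _ (hs _ _ hR) hdy)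
        simpa [mul_assoc] using this
    · right
      rw [Set.disjoint_left]
      rintro y ⟨x, ⟨-, hdx⟩, rfl⟩ ⟨-, hdy⟩
      exact hR (ht _ _ _ hdy (hs _ _ (hi g _ _ hdx)))
  rcases hp.2.2 {x | x ∈ D ∧ R d x} (fun x hx => hx.1) hb with h1 | h1
  · exact Or.inl fun x hx hR => h1 ⟨hx, hR⟩ ⟨hd, hr d hd⟩
  · exact Or.inr fun x hx => (h1.symm ▸ hx : x ∈ {x | x ∈ D ∧ R d x}).2

/-- in a primitive group a member is determined by its commuting set -/
theorem eq_of_same_commute (h : IsThreeTranspositionSet D)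
    (hc : ∀ g : G, ∀ d ∈ D, g * d * g⁻¹ ∈ D) (hp : IsPrimitiveUnderConj D) {d f x : G} (hd : d ∈ D)
    (hf : f ∈ D) (hx : x ∈ D) (hdx : ¬ Commute d x) (hsame : ∀ e ∈ D, Commute d e ↔ Commute f e) :
    f = d := by
  rcases class_trivial hp hc (fun a b => ∀ e ∈ D, Commute a e ↔ Commute b e) (fun a _ e _ => Iff.rfl)
    (fun a b hab e he => (hab e he).symm) (fun a b c h1 h2 e he => (h1 e he).trans (h2 e he))
    (fun g a b hab e he => by
      have h1 := hab (g⁻¹ * e * g) (by simpa using hc g⁻¹ e he)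
      rw [← commute_conj_iff g (x := a), ← commute_conj_iff g (x := b)] at h1
      simpa [mul_assoc] using h1) hd with h1 | h1
  · exact h1 f hf hsame
  · exact absurd ((h1 x hx x hx).2 (Commute.refl x)) hdx

/-- the graph of noncommuting members is connected -/
theorem nc_connected (hc : ∀ g : G, ∀ d ∈ D, g * d * g⁻¹ ∈ D) (hp : IsPrimitiveUnderConj D)
    {d x : G} (hd : d ∈ D) (hdx : ¬ Commute d x) (hx : x ∈ D) :
    ∀ y ∈ D, Relation.ReflTransGen (fun a b => a ∈ D ∧ b ∈ D ∧ ¬ Commute a b) d y := by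
  set R := fun a b => a ∈ D ∧ b ∈ D ∧ ¬ Commute a b
  have hR : ∀ a b, R a b → R b a := fun a b hab => ⟨hab.2.1, hab.1, fun k => hab.2.2 k.symm⟩
  rcases class_trivial hp hc (Relation.ReflTransGen R) (fun a _ => Relation.ReflTransGen.refl)
    (fun a b => rtg_symm hR)
    (fun a b c => Relation.ReflTransGen.trans)
    (fun g a b hab => hab.lift (fun u => g * u * g⁻¹) fun u v huv =>
      ⟨hc g u huv.1, hc g v huv.2.1, fun k => huv.2.2 ((commute_conj_iff g).1 k)⟩) hd with h1 | h1
  · have := h1 x hx (Relation.ReflTransGen.single ⟨hd, hx, hdx⟩)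
    exact absurd (Commute.refl d) (this ▸ hdx)
  · exact h1

theorem exists_nc (hD : IsThreeTranspositionGroup D) (hp : IsPrimitiveUnderConj D) {d : G}
    (hd : d ∈ D) : ∃ x ∈ D, ¬ Commute d x := by
  by_contra hcon
  push Not at hcon
  have hall : ∀ g : G, Commute d g := by
    intro g
    have hg : g ∈ Subgroup.closure D := hD.2.2 ▸ Subgroup.mem_top g
    induction hg using Subgroup.closure_induction with
    | mem y hy => exact hcon y hy
    | one => exact Commute.one_right d
    | mul y z _ _ hy hz => exact hy.mul_right hz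
    | inv y _ hy => exact hy.inv_right
  obtain ⟨a, ha, b, hb, hab⟩ := hp.2.1
  obtain ⟨g, hg⟩ := hp.1 d hd a ha
  obtain ⟨g', hg'⟩ := hp.1 d hd b hb
  apply hab
  rw [← hg, ← hg', ← (hall g).eq, ← (hall g').eq]
  group

theorem ncard_commuting_const [Finite G] (hc : ∀ g : G, ∀ d ∈ D, g * d * g⁻¹ ∈ D)
    (hp : IsPrimitiveUnderConj D) {a b : G} (ha : a ∈ D) (hb : b ∈ D) :
    {e | e ∈ D ∧ ¬ Commute a e}.ncard = {e | e ∈ D ∧ ¬ Commute b e}.ncard := by
  obtain ⟨g, rfl⟩ := hp.1 a ha b hb
  rw [← Set.ncard_image_of_injective {e | e ∈ D ∧ ¬ Commute a e}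
    (f := fun e => g * e * g⁻¹) (fun x y hxy => by simpa using hxy)]
  congr 1
  ext y
  constructor
  · rintro ⟨x, ⟨hx, hxa⟩, rfl⟩
    exact ⟨hc g x hx, fun k => hxa ((commute_conj_iff g).1 k)⟩
  · rintro ⟨hy, hya⟩
    refine ⟨g⁻¹ * y * g, ⟨by simpa using hc g⁻¹ y hy, fun k => hya ?_⟩, by group⟩
    have := (commute_conj_iff g).2 k
    simpa [mul_assoc] using this

/-- The stabiliser of a member is transitive on the members not commuting with it. -/
theorem sim_of_nc [Finite G] (hD : IsThreeTranspositionGroup D) (hp : IsPrimitiveUnderConj D)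
    (hw : ∃ a ∈ D, ∃ b ∈ D, a ≠ b ∧ Commute a b) {d x y : G} (hd : d ∈ D) (hx : x ∈ D) (hy : y ∈ D)
    (hdx : ¬ Commute d x) (hdy : ¬ Commute d y) : Sim d x y := by
  classical
  obtain ⟨h, hc, -⟩ := hD
  -- the maximal size of a common centraliser
  obtain ⟨⟨a0, b0⟩, ⟨ha0, hb0, hab0⟩, hmax⟩ :=
    Set.exists_max_image {p : G × G | p.1 ∈ D ∧ p.2 ∈ D ∧ ¬ Commute p.1 p.2}
      (fun p => (common D p.1 p.2).ncard) (Set.toFinite _) ⟨(d, x), hd, hx, hdx⟩
  set m := (common D a0 b0).ncard with hm0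
  have hm : ∀ a ∈ D, ∀ b ∈ D, ¬ Commute a b → (common D a b).ncard ≤ m :=
    fun a ha b hb hn => hmax (a, b) ⟨ha, hb, hn⟩
  set R := fun a b => a ∈ D ∧ b ∈ D ∧ ¬ Commute a b ∧ (common D a b).ncard = m
  have hRs : ∀ a b, R a b → R b a := fun a b hab => ⟨hab.2.1, hab.1, fun k => hab.2.2.1 k.symm, by
    rw [common_comm]; exact hab.2.2.2⟩
  have hconn : ∀ a ∈ D, ∀ b ∈ D, Relation.ReflTransGen R a b := by
    rcases class_trivial hp hc (Relation.ReflTransGen R) (fun a _ => Relation.ReflTransGen.refl)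
      (fun a b => rtg_symm hRs)
      (fun a b c => Relation.ReflTransGen.trans)
      (fun g a b hab => hab.lift (fun u => g * u * g⁻¹) fun u v huv =>
        ⟨hc g u huv.1, hc g v huv.2.1, fun k => huv.2.2.1 ((commute_conj_iff g).1 k),
          (ncard_common_conj hc g u v).trans huv.2.2.2⟩) ha0 with h1 | h1
    · have := h1 b0 hb0 (Relation.ReflTransGen.single ⟨ha0, hb0, hab0, rfl⟩)
      exact absurd (by rw [show b0 = a0 from this]) hab0
    · exact fun a ha b hb =>
        (rtg_symm hRs (h1 a ha)).trans (h1 b hb)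
  have hall : ∀ a ∈ D, ∀ c ∈ D, ¬ Commute a c → (common D a c).ncard = m := by
    intro a ha c hcD
    have key : ∀ c, Relation.ReflTransGen R a c → c = a ∨ Commute a c ∨ (common D a c).ncard = m := by
      intro c hac
      induction hac with
      | refl => exact Or.inl rfl
      | @tail b c _ hbc ih =>
        obtain ⟨hb, hcD, nbc, tbc⟩ := hbc
        by_cases kac : Commute a c
        · exact Or.inr (Or.inl kac)
        refine Or.inr (Or.inr ?_)
        rcases ih with rfl | ih | ih
        · exact tbc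
        · rw [common_comm, ← ncard_common_sim hc (sim_of_commute h hcD hb ha ih.symm
            (fun k => nbc k.symm) (fun k => kac k.symm)), common_comm]
          exact tbc
        · by_cases kab : Commute a b
          · rw [common_comm, ← ncard_common_sim hc (sim_of_commute h hcD hb ha kab.symm
              (fun k => nbc k.symm) (fun k => kac k.symm)), common_comm]
            exact tbc
          · exact ncard_common_trans h hc hm ha hb hcD kab nbc kac ih tbc
    intro hn
    rcases key c (hconn a ha c hcD) with rfl | hk | hk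
    · exact absurd (Commute.refl c) hn
    · exact absurd hk hn
    · exact hk
  by_contra hns
  have heq : ∀ u ∈ D, ∀ v ∈ D, ¬ Commute d u → ¬ Commute d v → ¬ Sim d u v →
      common D d u = common D d v := by
    intro u hu v hv hdu hdv huv
    have e1 := hall d hd u hu hdu
    have e2 := hall d hd v hv hdv
    rcases common_subset_or h hc hd hu hv hdu hdv huv with s | s
    · exact Set.eq_of_subset_of_ncard_le s (by omega)
    · exact (Set.eq_of_subset_of_ncard_le s (by omega)).symm
  have hS : ∀ u ∈ D, ¬ Commute d u → common D d u = common D d x := by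
    intro u hu hdu
    by_cases hux : Sim d u x
    · rw [heq x hx y hy hdx hdy hns]
      exact heq u hu y hy hdu hdy (fun k => hns (hux.symm.trans k))
    · exact heq u hu x hx hdu hdx hux
  have hfull : ∀ f ∈ D, Commute d f → f ≠ d → ∀ u ∈ D, ¬ Commute d u → Commute f u := by
    intro f hf hdf hfd u hu hdu
    by_contra hfu
    apply hfd
    have hsub : {e | e ∈ D ∧ ¬ Commute d e} ⊆ {e | e ∈ D ∧ ¬ Commute f e} := by
      rintro e ⟨he, hde⟩
      refine ⟨he, fun k => hfu ?_⟩
      have : f ∈ common D d e := ⟨hf, hdf.symm, k⟩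
      rw [hS e he hde, ← hS u hu hdu] at this
      exact this.2.2
    have hset := Set.eq_of_subset_of_ncard_le hsub (ncard_commuting_const hc hp hf hd).le
    refine eq_of_same_commute h hc hp hd hf hx hdx fun e he => ?_
    have := Set.ext_iff.1 hset e
    simp only [Set.mem_setOf_eq, he, true_and] at this
    exact not_iff_not.1 this
  obtain ⟨a, ha, b, hb, hne, hab⟩ := hw
  obtain ⟨g, hg⟩ := hp.1 a ha d hd
  set f := g * b * g⁻¹ with hf0
  have hf : f ∈ D := hc g b hb
  have hdf : Commute d f := by rw [← hg]; exact (commute_conj_iff g).2 hab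
  have hfd : f ≠ d := fun e => hne (by rw [← hg, hf0] at e; exact (mul_left_cancel (mul_right_cancel e)).symm)
  have hcl : ∀ z, Relation.ReflTransGen (fun a b => a ∈ D ∧ b ∈ D ∧ ¬ Commute a b) d z →
      z = d ∨ ¬ Commute d z := by
    intro z hz
    induction hz with
    | refl => exact Or.inl rfl
    | @tail u v _ huv ih =>
      by_cases hv : v = d
      · exact Or.inl hv
      refine Or.inr fun hdv => ?_
      rcases ih with rfl | ih
      · exact huv.2.2 hdv
      · exact huv.2.2 (hfull v huv.2.1 hdv hv u huv.1 ih).symm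
  rcases hcl f (nc_connected hc hp hd hdx hx f hf) with e | e
  · exact hfd e
  · exact e hdf

end CfsgLib.Fischer
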