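import Cfsg.Agent.Spor.Fischer.Rank

/-!
In a primitive 3-transposition group the members commuting with a given one form one class of the
subgroup they generate.
-/

set_option autoImplicit false

namespace CfsgLib.Fischer

open Cfsg

variable {G : Type*} [Group G] {D : Set G}

/-- the other members commuting with `d` -/
def Dd (D : Set G) (d : G) : Set G := {y | y ∈ D ∧ y ≠ d ∧ Commute d y}

/-- noncommuting inside `Dd D d` -/
def Rd (D : Set G) (d a b : G) : Prop := a ∈ Dd D d ∧ b ∈ Dd D d ∧ ¬ Commute a b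

theorem rd_symm (d a b : G) (h : Rd D d a b) : Rd D d b a := ⟨h.2.1, h.1, fun k => h.2.2 k.symm⟩

theorem dd_conj (hc : ∀ g : G, ∀ d ∈ D, g * d * g⁻¹ ∈ D) (g d y : G) (hy : y ∈ Dd D d) :
    g * y * g⁻¹ ∈ Dd D (g * d * g⁻¹) :=
  ⟨hc g y hy.1, fun e => hy.2.1 (mul_left_cancel (mul_right_cancel e)), (commute_conj_iff g).2 hy.2.2⟩

theorem rd_conj (hc : ∀ g : G, ∀ d ∈ D, g * d * g⁻¹ ∈ D) (g d a b : G) (h : Rd D d a b) :
    Rd D (g * d * g⁻¹) (g * a * g⁻¹) (g * b * g⁻¹) :=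
  ⟨dd_conj hc g d a h.1, dd_conj hc g d b h.2.1, fun k => h.2.2 ((commute_conj_iff g).1 k)⟩

/-- The members commuting with `d` are connected by noncommuting. -/
theorem dd_connected [Finite G] (hD : IsThreeTranspositionGroup D) (hp : IsPrimitiveUnderConj D)
    (hw : ∃ a ∈ D, ∃ b ∈ D, a ≠ b ∧ Commute a b) {d f g : G} (hd : d ∈ D) (hf : f ∈ Dd D d)
    (hg : g ∈ Dd D d) : Relation.ReflTransGen (Rd D d) f g := by
  classical
  have h := hD.1
  have hc := hD.2.1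
  set comp := fun (d f : G) => {g | g ∈ Dd D d ∧ Relation.ReflTransGen (Rd D d) f g} with hcomp
  obtain ⟨a0, ha0, b0, hb0, hne, hab⟩ := hw
  have hw : ∃ a ∈ D, ∃ b ∈ D, a ≠ b ∧ Commute a b := ⟨a0, ha0, b0, hb0, hne, hab⟩
  obtain ⟨⟨d1, f1⟩, ⟨hd1, hf1⟩, hmax⟩ :=
    Set.exists_max_image {p : G × G | p.1 ∈ D ∧ p.2 ∈ Dd D p.1}
      (fun p => (comp p.1 p.2).ncard) (Set.toFinite _) ⟨(a0, b0), ha0, hb0, hne.symm, hab⟩
  set K := comp d1 f1 with hK
  have hf1K : f1 ∈ K := ⟨hf1, Relation.ReflTransGen.refl⟩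
  have hcompeq : ∀ a ∈ D, a ∉ K → (∀ k ∈ K, Commute a k) → comp a f1 = K := by
    intro a ha haK hak
    have hin : ∀ k ∈ K, k ∈ Dd D a := fun k hk => ⟨hk.1.1, fun e => haK (e ▸ hk), hak k hk⟩
    have hsub : K ⊆ comp a f1 := by
      rintro k ⟨hk1, hk2⟩
      have key : k ∈ K → Relation.ReflTransGen (Rd D a) f1 k := by
        induction hk2 with
        | refl => exact fun _ => Relation.ReflTransGen.refl
        | @tail u v hu huv ih =>
          intro hv
          have huK : u ∈ K := ⟨huv.1, hu⟩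
          exact (ih huv.1 huK).tail ⟨hin u huK, hin v hv, huv.2.2⟩
      exact ⟨hin k ⟨hk1, hk2⟩, key ⟨hk1, hk2⟩⟩
    exact (Set.eq_of_subset_of_ncard_le hsub (hmax (a, f1) ⟨ha, hin f1 hf1K⟩)).symm
  set P := {a | a ∈ D ∧ a ∉ K ∧ ∀ k ∈ K, Commute a k}
  set O := {b | b ∈ D ∧ b ∉ K ∧ ∃ k ∈ K, ¬ Commute b k}
  have hdP : d1 ∈ P := ⟨hd1, fun e => e.1.2.1 rfl, fun k hk => hk.1.2.2⟩
  have hPO : ∀ a ∈ P, ∀ b ∈ O, ¬ Commute a b := by
    rintro a ⟨ha, haK, hak⟩ b ⟨hb, hbK, k, hk, hbk⟩ hab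
    apply hbK
    rw [← hcompeq a ha haK hak] at hk ⊢
    have hbD : b ∈ Dd D a := ⟨hb, fun e => hbk (e ▸ hak k ((hcompeq a ha haK hak) ▸ hk)), hab⟩
    exact ⟨hbD, hk.2.tail ⟨hk.1, hbD, fun e => hbk e.symm⟩⟩
  obtain ⟨b, hb⟩ : O.Nonempty := by
    by_contra hO
    rw [Set.not_nonempty_iff_eq_empty] at hO
    obtain ⟨x, hx, hdx⟩ := exists_nc hD hp hd1
    have key : ∀ z, Relation.ReflTransGen (fun a b => a ∈ D ∧ b ∈ D ∧ ¬ Commute a b) d1 z → z ∈ P := by
      intro z hz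
      induction hz with
      | refl => exact hdP
      | @tail u v _ huv ih =>
        have hvK : v ∉ K := fun hv => huv.2.2 (ih.2.2 v hv)
        refine ⟨huv.2.1, hvK, fun k hk => ?_⟩
        by_contra hvk
        exact (Set.eq_empty_iff_forall_notMem.1 hO v) ⟨huv.2.1, hvK, k, hk, hvk⟩
    exact (key f1 (nc_connected hc hp hd1 hdx hx f1 hf1.1)).2.1 hf1K
  have hPP : ∀ a ∈ P, ∀ e ∈ P, Commute a e := by
    rintro a haP e heP
    by_contra hae
    obtain ⟨ha, haK, hak⟩ := haP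
    obtain ⟨he, -, hek⟩ := heP
    obtain ⟨s, hsa, hse⟩ := sim_of_nc hD hp hw ha he hb.1 hae (hPO a ⟨ha, haK, hak⟩ b hb)
    have hKa := hcompeq a ha haK hak
    have hsa' : s * a * s⁻¹ = a := by rw [hsa.eq]; group
    have him : ∀ k ∈ K, s * k * s⁻¹ ∈ Dd D a ∧ Commute b (s * k * s⁻¹) ∧
        Relation.ReflTransGen (Rd D a) (s * f1 * s⁻¹) (s * k * s⁻¹) := by
      intro k hk
      have hk' : k ∈ comp a f1 := hKa.symm ▸ hk
      refine ⟨hsa' ▸ dd_conj hc s a k hk'.1, ?_, ?_⟩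
      · rw [← hse]; exact (commute_conj_iff s).2 (hek k hk)
      · exact hk'.2.lift (fun u => s * u * s⁻¹) fun u v huv => hsa' ▸ rd_conj hc s a u v huv
    obtain ⟨hf'D, hbf', -⟩ := him f1 hf1K
    by_cases hf'K : s * f1 * s⁻¹ ∈ K
    · have hsub : (fun u => s * u * s⁻¹) '' K ⊆ K := by
        rintro _ ⟨k, hk, rfl⟩
        have h1 : s * f1 * s⁻¹ ∈ comp a f1 := hKa.symm ▸ hf'K
        rw [← hKa]
        exact ⟨(him k hk).1, h1.2.trans (him k hk).2.2⟩
      have heq := Set.eq_of_subset_of_ncard_le hsub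
        (Set.ncard_image_of_injective K (fun x y hxy => by simpa using hxy)).ge
      obtain ⟨k, hk, hbk⟩ := hb.2.2
      rw [← heq] at hk
      obtain ⟨k0, hk0, rfl⟩ := hk
      exact hbk (him k0 hk0).2.1
    · refine hPO _ ⟨hf'D.1, hf'K, fun k hk => ?_⟩ b hb hbf'.symm
      by_contra hfk
      apply hf'K
      rw [← hKa] at hk ⊢
      exact ⟨hf'D, hk.2.tail ⟨hk.1, hf'D, fun e => hfk e.symm⟩⟩
  have hP1 : ∀ a ∈ P, a = d1 := by
    intro a haP
    obtain ⟨x, hx, hdx⟩ := exists_nc hD hp hd1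
    refine eq_of_same_commute h hc hp hd1 haP.1 hx hdx fun e he => ?_
    have key : ∀ p ∈ P, (Commute p e ↔ e ∉ O) := by
      intro p hp'
      refine ⟨fun k hO => hPO p hp' e hO k, fun hO => ?_⟩
      by_cases heK : e ∈ K
      · exact hp'.2.2 e heK
      · refine hPP p hp' e ⟨he, heK, fun k hk => ?_⟩
        by_contra hek
        exact hO ⟨he, heK, k, hk, hek⟩
    rw [key a haP, key d1 hdP]
  have hall : ∀ v ∈ Dd D d1, v ∈ K := by
    intro v hv
    by_contra hvK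
    by_cases hvk : ∀ k ∈ K, Commute v k
    · exact hv.2.1 (hP1 v ⟨hv.1, hvK, hvk⟩)
    · push Not at hvk
      obtain ⟨k, hk, hvk⟩ := hvk
      exact hvK ⟨hv, hk.2.tail ⟨hk.1, hv, fun e => hvk e.symm⟩⟩
  obtain ⟨s, hs⟩ := hp.1 d1 hd1 d hd
  have hback : ∀ u ∈ Dd D d, Relation.ReflTransGen (Rd D d) (s * f1 * s⁻¹) u := by
    intro u hu
    have h1 : s⁻¹ * u * s⁻¹⁻¹ ∈ Dd D (s⁻¹ * d * s⁻¹⁻¹) := dd_conj hc s⁻¹ d u hu
    rw [show s⁻¹ * d * s⁻¹⁻¹ = d1 by rw [← hs]; group] at h1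
    have h2 := (hall _ h1).2.lift (fun u => s * u * s⁻¹) fun a b hab => hs ▸ rd_conj hc s d1 a b hab
    simpa [Function.onFun, mul_assoc] using h2
  exact (rtg_symm (rd_symm d) (hback f hf)).trans (hback g hg)

/-- The subgroup generated by the members commuting with `d` is transitive on them. -/
theorem dd_transitive [Finite G] (hD : IsThreeTranspositionGroup D) (hp : IsPrimitiveUnderConj D)
    (hw : ∃ a ∈ D, ∃ b ∈ D, a ≠ b ∧ Commute a b) {d f g : G} (hd : d ∈ D) (hf : f ∈ Dd D d)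
    (hg : g ∈ Dd D d) : ∃ s ∈ Subgroup.closure (Dd D d), s * f * s⁻¹ = g := by
  have := dd_connected hD hp hw hd hf hg
  clear hg
  induction this with
  | refl => exact ⟨1, one_mem _, by group⟩
  | @tail u v _ huv ih =>
    obtain ⟨s, hs, rfl⟩ := ih
    set u := s * f * s⁻¹
    refine ⟨u * v * u * s, mul_mem (mul_mem (mul_mem (Subgroup.subset_closure huv.1)
      (Subgroup.subset_closure huv.2.1)) (Subgroup.subset_closure huv.1)) hs, ?_⟩
    calc u * v * u * s * f * (u * v * u * s)⁻¹ = (u * v * u) * u * (u * v * u)⁻¹ := by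
          simp only [u]; group
      _ = v := conj_of_nc hD.1 huv.1.1 huv.2.1.1 huv.2.2

theorem closure_dd_commute {d s : G} (hs : s ∈ Subgroup.closure (Dd D d)) : Commute s d := by
  induction hs using Subgroup.closure_induction with
  | mem y hy => exact hy.2.2.symm
  | one => exact Commute.one_left d
  | mul y z _ _ hy hz => exact hy.mul_left hz
  | inv y _ hy => exact hy.inv_left

end CfsgLib.Fischer
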