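import Cfsg.Agent.Spor.Fischer.Basic
import Cfsg.Agent.Base.ZStar.App
import Cfsg.Agent.Solv.CoprimeSylow
import Cfsg.Agent.Perm.Kazarin

/-!
A group generated by a class of 3-transpositions no two of which commute is soluble (uses the
Z* theorem).
-/

set_option autoImplicit false

namespace CfsgLib.Fischer

open Cfsg

universe u

variable {G : Type u} [Group G] [Finite G] {D : Set G}

theorem isolated_of_width_one (hD : IsThreeTranspositionClass D)
    (h1 : ∀ a ∈ D, ∀ b ∈ D, Commute a b → a = b) {d : G} (hd : d ∈ D) : Cfsg.IsIsolated d := by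
  intro g hg
  obtain ⟨e, he, hDe⟩ := hD.2.1
  have hg' : g * d * g⁻¹ ∈ D := by
    rw [hDe] at hd ⊢
    exact IsConj.trans (show IsConj e d from hd) (isConj_iff.2 ⟨g, rfl⟩)
  exact (h1 d hd _ hg' hg).symm

/-- A class of width one generates a soluble group. -/
theorem isSolvable_of_width_one (hZ : CfsgLib.Base.ZStar.Holds.{u})
    (hD : IsThreeTranspositionClass D) (h1 : ∀ a ∈ D, ∀ b ∈ D, Commute a b → a = b) :
    Group.IsSolvable G := by
  classical
  obtain ⟨d, hd, hDd⟩ := hD.2.1
  have h := hD.1
  have hc : ∀ g : G, ∀ x ∈ D, g * x * g⁻¹ ∈ D := fun g x hx => by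
    rw [hDd] at hx ⊢
    exact IsConj.trans (show IsConj d x from hx) (isConj_iff.2 ⟨g, rfl⟩)
  set N := Cfsg.oddCore G with hN
  haveI hNn : N.Normal := CfsgLib.Fus.normal_pPrimeCore 2
  have hcomm : ∀ g : G, d * g * d⁻¹ * g⁻¹ ∈ N :=
    CfsgLib.Base.ZStar.of_isolated hZ (h.1 d hd) (isolated_of_width_one hD h1 hd)
  have hodd : Odd (Nat.card N) := CfsgLib.Base.ZStar.odd_card_oddCore
  set C := Subgroup.centralizer ({d} : Set G) with hC
  have hdC : d ∈ C := Subgroup.mem_centralizer_singleton_iff.2 rfl
  -- the whole group is the product of the odd core and the centraliser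
  have htop : N ⊔ C = ⊤ := by
    rw [eq_top_iff, ← hD.2.2, Subgroup.closure_le]
    intro x hx
    rw [hDd] at hx
    obtain ⟨g, rfl⟩ := isConj_iff.1 (show IsConj d x from hx)
    have e : g * d * g⁻¹ = (d * g * d⁻¹ * g⁻¹)⁻¹ * d := by group
    rw [SetLike.mem_coe, e]
    exact mul_mem (Subgroup.mem_sup_left (inv_mem (hcomm g))) (Subgroup.mem_sup_right hdC)
  have hindex : C.index = C.relIndex N := by
    have h1 := CfsgLib.Solv.card_sup_mul_card_inf C N
    rw [sup_comm, htop, Subgroup.card_top] at h1
    have h2 := Subgroup.card_mul_index C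
    have h3 := (C.subgroupOf N).card_mul_index
    rw [show Nat.card (C.subgroupOf N) = Nat.card ↥(C ⊓ N) from by
      rw [← Subgroup.inf_subgroupOf_right]
      exact Nat.card_congr (Subgroup.subgroupOfEquivOfLe inf_le_right).toEquiv] at h3
    show C.index = (C.subgroupOf N).index
    apply Nat.eq_of_mul_eq_mul_left (Nat.mul_pos (Nat.card_pos (α := C)) (Nat.card_pos (α := (C ⊓ N : Subgroup G))))
    calc Nat.card C * Nat.card (C ⊓ N : Subgroup G) * C.index
        = (Nat.card C * C.index) * Nat.card (C ⊓ N : Subgroup G) := by ring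
      _ = Nat.card C * Nat.card N := by rw [h2, h1]
      _ = _ := by rw [← h3]; ring
  -- the class size is a power of three
  have hprime : ∀ p : ℕ, p.Prime → p ∣ C.relIndex N → p = 3 := by
    intro p hp hdvd
    by_contra h3
    haveI : Fact p.Prime := ⟨hp⟩
    have hpN : p ∣ Nat.card N := hdvd.trans (Subgroup.relIndex_dvd_card C N)
    have hp2 : p ≠ 2 := fun h2 => by
      rw [h2] at hpN
      exact Nat.not_even_iff_odd.2 hodd (even_iff_two_dvd.2 hpN)
    have hp3 : 3 < p := by have := hp.two_le; omega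
    have hA : Subgroup.zpowers d ≤ Subgroup.normalizer (N : Set G) := by
      rw [Subgroup.normalizer_eq_top]; exact le_top
    haveI : IsMulCommutative (Subgroup.zpowers d) := inferInstance
    obtain ⟨P, hP⟩ := CfsgLib.Solv.exists_invariant_sylow (p := p) hA
      (by rw [Nat.card_zpowers, h.1 d hd]; exact Nat.coprime_two_left.2 hodd)
      (Or.inl (Group.isSolvable_of_comm fun a b => mul_comm' a b))
    have hdP : d ∈ Subgroup.normalizer ((P : Subgroup N).map N.subtype : Set G) :=
      hP (Subgroup.mem_zpowers d)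
    have hcent : (P : Subgroup N).map N.subtype ≤ C ⊓ N := by
      intro x hx
      refine ⟨?_, Subgroup.map_subtype_le _ hx⟩
      have hxd := Subgroup.mem_normalizer_iff.1 hdP x |>.1 hx
      have hmem : d * (x * d * x⁻¹) ∈ (P : Subgroup N).map N.subtype := by
        have e : d * (x * d * x⁻¹) = (d * x * d⁻¹) * x⁻¹ := by rw [inv_eq h hd]; group
        rw [e]; exact mul_mem hxd (inv_mem hx)
      obtain ⟨k, hk⟩ := (P.isPGroup'.map N.subtype) ⟨_, hmem⟩
      have hpow := orderOf_dvd_of_pow_eq_one (congrArg Subtype.val hk)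
      have hone : d * (x * d * x⁻¹) = 1 := by
        obtain ⟨j, -, hj⟩ := (Nat.dvd_prime_pow hp).1 hpow
        rcases Nat.eq_zero_or_pos j with rfl | hj0
        · exact orderOf_eq_one_iff.1 (hj.trans (pow_zero p))
        · have hpd : p ∣ orderOf (d * (x * d * x⁻¹)) := by rw [hj]; exact dvd_pow_self p hj0.ne'
          rcases h.2 d hd _ (hc x d hd) with h2 | h3'
          · have := Nat.le_of_dvd (by norm_num) (hpd.trans (orderOf_dvd_of_pow_eq_one h2)); omega
          · have := Nat.le_of_dvd (by norm_num) (hpd.trans (orderOf_dvd_of_pow_eq_one h3')); omega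
      refine Subgroup.mem_centralizer_singleton_iff.2 ?_
      have h5 : x * d * x⁻¹ = d := by
        rw [eq_inv_of_mul_eq_one_right hone, inv_eq h hd]
      exact mul_inv_eq_iff_eq_mul.1 h5
    have hle : (P : Subgroup N) ≤ C.subgroupOf N := by
      intro y hy
      exact (hcent ⟨y, hy, rfl⟩).1
    exact P.not_dvd_index (hdvd.trans (Subgroup.index_dvd_of_le hle))
  obtain ⟨k, hk⟩ : ∃ k, C.relIndex N = 3 ^ k := by
    refine ⟨(C.relIndex N).primeFactorsList.length, Nat.eq_prime_pow_of_unique_prime_dvd ?_ fun {q} hq hqd => hprime q hq hqd⟩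
    exact Subgroup.index_ne_zero_of_finite
  have hsol := CfsgLib.Perm.Kazarin.isSolvable_normalClosure_of_class_pow Nat.prime_three
    (x := d) (k := k) (hindex.trans hk)
  have hnc : Subgroup.normalClosure ({d} : Set G) = ⊤ := by
    rw [eq_top_iff, ← hD.2.2, Subgroup.closure_le]
    intro x hx
    rw [hDd] at hx
    obtain ⟨g, rfl⟩ := isConj_iff.1 (show IsConj d x from hx)
    exact Subgroup.normalClosure_normal.conj_mem d (Subgroup.subset_normalClosure (Set.mem_singleton d)) g
  rw [hnc] at hsol
  exact Group.isSolvable_of_surjective (f := (Subgroup.topEquiv (G := G)).toMonoidHom) (Subgroup.topEquiv.surjective)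

end CfsgLib.Fischer
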