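import Cfsg.Agent.Spor.Fischer.Blocks
import Cfsg.Agent.Spor.Fischer.Local
import Cfsg.Agent.Spor.Fischer.WidthOne

/-!
The rank three property for a class with simple non-abelian derived subgroup.
-/

set_option autoImplicit false

namespace CfsgLib.Fischer

open Cfsg

universe u

theorem exists_two {G : Type*} [Group G] {D : Set G} (hD : IsThreeTranspositionClass D)
    (hna : ∃ x y : commutator G, x * y ≠ y * x) : ∃ a ∈ D, ∃ b ∈ D, a ≠ b := by
  by_contra hcon
  push Not at hcon
  obtain ⟨x, y, hxy⟩ := hna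
  obtain ⟨d, hd, -⟩ := hD.2.1
  have hall : ∀ g : G, Commute d g := fun g => by
    have hg : g ∈ Subgroup.closure D := hD.2.2 ▸ Subgroup.mem_top g
    induction hg using Subgroup.closure_induction with
    | mem z hz => rw [hcon z hz d hd]
    | one => exact Commute.one_right d
    | mul z w _ _ hz hw => exact hz.mul_right hw
    | inv z _ hz => exact hz.inv_right
  have hc : Subgroup.closure D ≤ Subgroup.center G := by
    rw [Subgroup.closure_le]
    intro z hz
    rw [hcon z hz d hd]
    exact Subgroup.mem_center_iff.2 fun g => (hall g).symm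
  rw [hD.2.2] at hc
  exact hxy (Subtype.ext ((Subgroup.mem_center_iff.1 (hc (Subgroup.mem_top (x : G))) (y : G)).symm))

/-- Fischer's rank three theorem. -/
theorem rank_three {G : Type u} [Group G] [Finite G] (hZ : CfsgLib.Base.ZStar.Holds.{u}) {D : Set G}
    (hD : IsThreeTranspositionClass D) (hs : IsSimpleGroup (commutator G))
    (hna : ∃ x y : commutator G, x * y ≠ y * x) {a : G} (ha : a ∈ D) :
    (∃ b ∈ D, b ≠ a ∧ Commute a b) ∧ (∃ c ∈ D, ¬ Commute a c) ∧
      (∀ b ∈ D, ∀ b' ∈ D, b ≠ a → b' ≠ a → Commute a b → Commute a b' →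
        ∃ g : G, Commute g a ∧ g * b * g⁻¹ = b') ∧
      (∀ c ∈ D, ∀ c' ∈ D, ¬ Commute a c → ¬ Commute a c' →
        ∃ g : G, Commute g a ∧ g * c * g⁻¹ = c') := by
  have hG := class_group hD
  have hp := primitive_of_simple hD (exists_two hD hna) hs
  have hw : ∃ a ∈ D, ∃ b ∈ D, a ≠ b ∧ Commute a b := by
    by_contra hcon
    have hsol := isSolvable_of_width_one hZ hD fun x hx y hy hxy =>
      by_contra fun hne => hcon ⟨x, hx, y, hy, hne, hxy⟩
    haveI : IsSimpleGroup (commutator G) := hs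
    haveI : Group.IsSolvable (commutator G) := Group.isSolvable_of_isSolvable_injective (f := (commutator G).subtype) (commutator G).subtype_injective
    obtain ⟨x, y, hxy⟩ := hna
    exact hxy (IsSimpleGroup.comm_iff_isSolvable.2 inferInstance x y)
  refine ⟨?_, exists_nc hG hp ha, fun b hb b' hb' h1 h2 h3 h4 => ?_,
    fun c hc c' hc' h1 h2 => sim_of_nc hG hp hw ha hc hc' h1 h2⟩
  · obtain ⟨x, hx, y, hy, hne, hxy⟩ := hw
    obtain ⟨g, rfl⟩ := hp.1 x hx a ha
    exact ⟨g * y * g⁻¹, hG.2.1 g y hy,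
      fun e => hne (mul_left_cancel (mul_right_cancel e)).symm, (commute_conj_iff g).2 hxy⟩
  · obtain ⟨s, hs1, hs2⟩ := dd_transitive hG hp hw ha ⟨hb, h1, h3⟩ ⟨hb', h2, h4⟩
    exact ⟨s, closure_dd_commute hs1, hs2⟩

end CfsgLib.Fischer
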