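import Cfsg.Agent.Spor.Fischer.Insoluble
import Cfsg.Agent.Base.ZStar.Holds
import Cfsg.Prelude.Def_FischerSpaces
import Mathlib

/-!
Maximal commuting subsets of a set of 3-transpositions and Sylow 2-subgroups.
-/

set_option autoImplicit false
set_option linter.unusedSectionVars false

namespace CfsgLib.Fischer

open Cfsg

universe u

variable {G : Type u} [Group G] [Finite G] {D : Set G}

/-- the members in a 2-subgroup commute -/
theorem commute_of_mem_two (h : IsThreeTranspositionSet D) {T : Subgroup G} (hT : IsPGroup 2 T)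
    {a b : G} (ha : a ∈ D) (hb : b ∈ D) (haT : a ∈ T) (hbT : b ∈ T) : Commute a b := by
  rcases h.2 a ha b hb with k | k
  · rw [pow_two, mul_eq_one_iff_eq_inv, mul_inv_rev, inv_eq h ha, inv_eq h hb] at k
    exact k
  · obtain ⟨i, hi⟩ := hT ⟨a * b, mul_mem haT hbT⟩
    have e : orderOf (a * b) = 1 := Nat.eq_one_of_dvd_coprimes (Nat.Coprime.pow_left i (by norm_num : Nat.Coprime 2 3))
      (orderOf_dvd_of_pow_eq_one (congrArg Subtype.val hi)) (orderOf_dvd_of_pow_eq_one k)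
    have e' : a = b := by
      rw [← inv_eq h hb]; exact eq_inv_of_mul_eq_one_left (orderOf_eq_one_iff.1 e)
    exact e' ▸ Commute.refl a

/-- pairwise commuting members generate a 2-group -/
theorem isPGroup_closure (h : IsThreeTranspositionSet D) {E : Set G} (hE : E ⊆ D)
    (hc : ∀ a ∈ E, ∀ b ∈ E, Commute a b) : IsPGroup 2 (Subgroup.closure E) := by
  have key : ∀ x ∈ Subgroup.closure E, ∀ y ∈ E, Commute x y := by
    intro x hx y hy
    induction hx using Subgroup.closure_induction with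
    | mem z hz => exact hc z hz y hy
    | one => exact Commute.one_left _
    | mul a b _ _ ha hb => exact ha.mul_left hb
    | inv a _ ha => exact ha.inv_left
  rintro ⟨x, hx⟩
  refine ⟨1, Subtype.ext ?_⟩
  show x ^ 2 ^ 1 = 1
  rw [pow_one]
  induction hx using Subgroup.closure_induction_right with
  | one => simp
  | mul_right s hs y hy ih =>
    rw [(key s hs y hy).mul_pow, ih, one_mul, pow_two, mul_self h (hE hy)]
  | mul_inv_cancel s hs y hy ih =>
    rw [inv_eq h (hE hy), (key s hs y hy).mul_pow, ih, one_mul, pow_two, mul_self h (hE hy)]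

/-- a largest commuting subset is the set of members in some Sylow 2-subgroup containing it -/
theorem eq_of_subset_sylow (h : IsThreeTranspositionSet D) {E : Set G}
    (hmax : ∀ E' : Set G, E' ⊆ D → (∀ a ∈ E', ∀ b ∈ E', Commute a b) → E'.ncard ≤ E.ncard)
    (hE : E ⊆ D) {T : Sylow 2 G} (hET : E ⊆ (T : Subgroup G)) : {d | d ∈ D ∧ d ∈ T} = E :=
  (Set.eq_of_subset_of_ncard_le (s := E) (t := {d | d ∈ D ∧ d ∈ T}) (fun x hx => ⟨hE hx, hET hx⟩)
    (hmax {d | d ∈ D ∧ d ∈ T} (fun _ hx => hx.1)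
      fun a ha b hb => commute_of_mem_two (a := a) (b := b) h T.isPGroup' ha.1 hb.1 ha.2 hb.2)).symm

/-- two largest commuting subsets are conjugate by an element centralising given common members -/
theorem exists_conj_fixing (h : IsThreeTranspositionSet D) (hc : ∀ g : G, ∀ d ∈ D, g * d * g⁻¹ ∈ D)
    {E E' F : Set G} (hE : E ⊆ D) (hE' : E' ⊆ D) (hcE : ∀ a ∈ E, ∀ b ∈ E, Commute a b)
    (hcE' : ∀ a ∈ E', ∀ b ∈ E', Commute a b) (hF : F ⊆ E) (hF' : F ⊆ E')
    (hmax : ∀ S : Set G, S ⊆ D → (∀ a ∈ S, ∀ b ∈ S, Commute a b) → S.ncard ≤ E.ncard)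
    (hmax' : ∀ S : Set G, S ⊆ D → (∀ a ∈ S, ∀ b ∈ S, Commute a b) → S.ncard ≤ E'.ncard) :
    ∃ k ∈ Subgroup.centralizer F, (fun x => k * x * k⁻¹) '' E = E' := by
  haveI : Fact (Nat.Prime 2) := ⟨Nat.prime_two⟩
  set K := Subgroup.centralizer F with hK
  have hle : ∀ S : Set G, (∀ a ∈ S, ∀ b ∈ S, Commute a b) → F ⊆ S → Subgroup.closure S ≤ K :=
    fun S hS hFS => (Subgroup.closure_le _).2 fun x hx f hf => hS f (hFS hf) x hx
  obtain ⟨P, hP⟩ := ((isPGroup_closure h hE hcE).comap_of_injective K.subtype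
    K.subtype_injective).exists_le_sylow
  obtain ⟨P', hP'⟩ := ((isPGroup_closure h hE' hcE').comap_of_injective K.subtype
    K.subtype_injective).exists_le_sylow
  obtain ⟨k, hk⟩ := MulAction.exists_smul_eq K P P'
  refine ⟨(k : G), k.2, ?_⟩
  obtain ⟨T, hT⟩ := (P'.isPGroup'.map K.subtype).exists_le_sylow
  have m' : E' ⊆ (T : Subgroup G) := fun x hx =>
    hT ⟨⟨x, hle E' hcE' hF' (Subgroup.subset_closure hx)⟩, hP' (Subgroup.subset_closure hx), rfl⟩
  have m : (fun x => (k : G) * x * (k : G)⁻¹) '' E ⊆ (T : Subgroup G) := by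
    rintro _ ⟨x, hx, rfl⟩
    refine hT ⟨k * ⟨x, hle E hcE hF (Subgroup.subset_closure hx)⟩ * k⁻¹, ?_, rfl⟩
    rw [← hk]
    exact ⟨⟨x, hle E hcE hF (Subgroup.subset_closure hx)⟩, hP (Subgroup.subset_closure hx), rfl⟩
  have hsub : (fun x => (k : G) * x * (k : G)⁻¹) '' E ⊆ D := by
    rintro _ ⟨x, hx, rfl⟩; exact hc k x (hE hx)
  have hcard : ((fun x => (k : G) * x * (k : G)⁻¹) '' E).ncard = E.ncard :=
    Set.ncard_image_of_injective E fun x y hxy => by simpa using hxy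
  rw [← eq_of_subset_sylow h (hcard.symm ▸ hmax) hsub m, eq_of_subset_sylow h hmax' hE' m']

/-- width and the members in a Sylow 2-subgroup -/
theorem ncard_sylow_eq_width (hD : IsThreeTranspositionGroup D) (T : Sylow 2 G) :
    {d : G | d ∈ D ∧ d ∈ T}.ncard = commutingWidth D := by
  haveI : Fact (Nat.Prime 2) := ⟨Nat.prime_two⟩
  obtain ⟨h, hc, -⟩ := hD
  set W := {n : ℕ | ∃ E : Set G, E ⊆ D ∧ E.Finite ∧ (∀ a ∈ E, ∀ b ∈ E, Commute a b) ∧ E.ncard = n}
  have hbdd : BddAbove W := ⟨Nat.card G, fun n ⟨E, _, _, _, hn⟩ => hn ▸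
    Set.ncard_le_card E⟩
  obtain ⟨E, hE, -, hcE, hn⟩ : commutingWidth D ∈ W :=
    Nat.sSup_mem ⟨0, ∅, Set.empty_subset _, Set.finite_empty, by simp, by simp⟩ hbdd
  have hmax : ∀ S : Set G, S ⊆ D → (∀ a ∈ S, ∀ b ∈ S, Commute a b) → S.ncard ≤ E.ncard :=
    fun S h1 h2 => hn.symm ▸ le_csSup hbdd ⟨S, h1, Set.toFinite S, h2, rfl⟩
  obtain ⟨T', hT'⟩ := (isPGroup_closure h hE hcE).exists_le_sylow
  obtain ⟨g, hg⟩ := MulAction.exists_smul_eq G T' T
  rw [← hn, ← eq_of_subset_sylow h hmax hE (fun x hx => hT' (Subgroup.subset_closure hx)),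
    ← Set.ncard_image_of_injective {d | d ∈ D ∧ d ∈ T'} (f := fun x => g * x * g⁻¹)
      (fun x y hxy => by simpa using hxy)]
  congr 1
  subst hg
  ext y
  constructor
  · rintro ⟨hy, ⟨x, hx, rfl⟩⟩
    refine ⟨x, ⟨?_, hx⟩, rfl⟩
    simpa [MulAut.conj_apply, mul_assoc] using hc g⁻¹ _ hy
  · rintro ⟨x, ⟨hx, hxT⟩, rfl⟩
    exact ⟨hc g x hx, x, hxT, rfl⟩

theorem mem_normalizer_of_image {E : Set G} {g : G} (hg : (fun x => g * x * g⁻¹) '' E = E) :
    g ∈ Subgroup.normalizer E := by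
  rw [Subgroup.mem_set_normalizer_iff]
  intro x
  constructor
  · intro hx; rw [← hg]; exact ⟨x, hx, rfl⟩
  · intro hx
    rw [← hg] at hx
    obtain ⟨y, hy, hxy⟩ := hx
    have : y = x := by simpa using hxy
    exact this ▸ hy

/-- the normaliser of a largest commuting subset -/
theorem normalizer_of_max (hsol : ∀ N : Subgroup G, N.Normal → Group.IsSolvable ↥N → N = ⊥)
    (hperf : ⁅commutator G, commutator G⁆ = commutator G) (hD : IsThreeTranspositionClass D) {E : Set G}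
    (hE : E ⊆ D) (hcE : ∀ a ∈ E, ∀ b ∈ E, Commute a b)
    (hmax : ∀ E' : Set G, E' ⊆ D → (∀ a ∈ E', ∀ b ∈ E', Commute a b) → E'.ncard ≤ E.ncard) :
    (∃ P : Sylow 2 G, (P : Subgroup G) ≤ Subgroup.normalizer E) ∧
      ∀ a ∈ E, ∀ b ∈ E, ∀ c ∈ E, ∀ d ∈ E, a ≠ b → c ≠ d →
        ∃ g ∈ Subgroup.normalizer E, g * a * g⁻¹ = c ∧ g * b * g⁻¹ = d := by
  haveI : Fact (Nat.Prime 2) := ⟨Nat.prime_two⟩
  have h := hD.1
  have hc := class_conj_closed hD
  obtain ⟨T, hT⟩ := (isPGroup_closure h hE hcE).exists_le_sylow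
  have heq := eq_of_subset_sylow h hmax hE (fun x hx => hT (Subgroup.subset_closure hx))
  refine ⟨⟨T, fun t ht => mem_normalizer_of_image ?_⟩, ?_⟩
  · refine Set.eq_of_subset_of_ncard_le ?_ (Set.ncard_image_of_injective E fun x y hxy => by simpa using hxy).ge
    rintro _ ⟨x, hx, rfl⟩
    rw [← heq] at hx ⊢
    exact ⟨hc t x hx.1, mul_mem (mul_mem ht hx.2) (inv_mem ht)⟩
  intro a ha b hb c hc0 d hd hab hcd
  obtain ⟨g1, hg1⟩ := class_transitive hD a (hE ha) c (hE hc0)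
  have hb1 : g1 * b * g1⁻¹ ∈ Dd D c := ⟨hc g1 b (hE hb), fun k => hab (by
      rw [← hg1] at k; exact (by simpa using k : b = a).symm),
    hg1 ▸ (commute_conj_iff g1).2 (hcE a ha b hb)⟩
  obtain ⟨s, hs, hsd⟩ := local_class CfsgLib.Base.ZStar.holds hsol hperf hD (hE hc0) hb1
    (show d ∈ Dd D c from ⟨hE hd, Ne.symm hcd, hcE c hc0 d hd⟩)
  have hsc : s * c * s⁻¹ = c := by rw [(closure_dd_commute hs).eq]; group
  set g := s * g1
  have ga : g * a * g⁻¹ = c := by
    rw [show g * a * g⁻¹ = s * (g1 * a * g1⁻¹) * s⁻¹ by simp only [g]; group, hg1, hsc]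
  have gb : g * b * g⁻¹ = d := by
    rw [show g * b * g⁻¹ = s * (g1 * b * g1⁻¹) * s⁻¹ by simp only [g]; group, hsd]
  set E' := (fun x => g * x * g⁻¹) '' E with hE'
  have hcard : E'.ncard = E.ncard := Set.ncard_image_of_injective E fun x y hxy => by simpa using hxy
  obtain ⟨k, hk, hkE⟩ := exists_conj_fixing h hc (E := E') (E' := E) (F := {c, d})
    (by rintro _ ⟨x, hx, rfl⟩; exact hc g x (hE hx)) hE
    (by rintro _ ⟨x, hx, rfl⟩ _ ⟨y, hy, rfl⟩; exact (commute_conj_iff g).2 (hcE x hx y hy)) hcE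
    (by rintro x (rfl | rfl)
        exacts [⟨a, ha, ga⟩, ⟨b, hb, gb⟩])
    (by rintro x (rfl | rfl)
        exacts [hc0, hd]) (fun S h1 h2 => hcard.symm ▸ hmax S h1 h2) hmax
  refine ⟨k * g, mem_normalizer_of_image ?_, ?_, ?_⟩
  · conv_rhs => rw [← hkE, hE', Set.image_image]
    exact Set.image_congr fun x _ => by group
  · rw [show k * g * a * (k * g)⁻¹ = k * (g * a * g⁻¹) * k⁻¹ by group, ga,
      ← hk c (Set.mem_insert _ _)]
    group
  · rw [show k * g * b * (k * g)⁻¹ = k * (g * b * g⁻¹) * k⁻¹ by group, gb,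
      ← hk d (Set.mem_insert_of_mem _ rfl)]
    group

end CfsgLib.Fischer
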