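import Cfsg.Agent.Spor.Fischer.Blocks
import Cfsg.Agent.Spor.Fischer.Local
import Cfsg.Agent.Spor.Fischer.WidthOne

/-!
A 3-transposition class with no soluble normal subgroup and perfect derived subgroup is primitive.
-/

set_option autoImplicit false

namespace CfsgLib.Fischer

open Cfsg

universe u

variable {G : Type u} [Group G] [Finite G] {D : Set G}

theorem isSolvable_of_orders_two_three (F : Subgroup G)
    (h : ∀ f ∈ F, f ^ 2 = 1 ∨ f ^ 3 = 1) : Group.IsSolvable F := by
  have hsupp : ∀ q : ℕ, q.Prime → q ∣ Nat.card F → q = 2 ∨ q = 3 := by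
    intro q hq hqd
    haveI := Fact.mk hq
    obtain ⟨x, hx⟩ := exists_prime_orderOf_dvd_card' q hqd
    rcases h x x.2 with h2 | h3
    · left
      have hd : q ∣ 2 := hx ▸ orderOf_dvd_of_pow_eq_one (Subtype.ext h2)
      exact (Nat.prime_dvd_prime_iff_eq hq Nat.prime_two).1 hd
    · right
      have hd : q ∣ 3 := hx ▸ orderOf_dvd_of_pow_eq_one (Subtype.ext h3)
      exact (Nat.prime_dvd_prime_iff_eq hq Nat.prime_three).1 hd
  have hne : Nat.card F ≠ 0 := Nat.card_pos.ne'
  refine CfsgLib.Char.solvable_of_card_two_primes 2 3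
    ((Nat.card F).factorization 2) ((Nat.card F).factorization 3) Nat.prime_two Nat.prime_three ?_
  refine Nat.eq_of_factorization_eq hne (by positivity) fun q => ?_
  rw [Nat.factorization_mul (by positivity) (by positivity), Finsupp.add_apply,
    Nat.Prime.factorization_pow Nat.prime_two, Nat.Prime.factorization_pow Nat.prime_three]
  by_cases hq : q = 2 ∨ q = 3
  · rcases hq with rfl | rfl <;> simp [Finsupp.single_apply]
  · simp only [not_or] at hq
    rw [Finsupp.single_eq_of_ne hq.1, Finsupp.single_eq_of_ne hq.2, add_zero]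
    by_contra hpos
    have hmem : q ∈ (Nat.card F).factorization.support := Finsupp.mem_support_iff.2 hpos
    rw [Nat.support_factorization, Nat.mem_primeFactors] at hmem
    rcases hsupp q hmem.1 hmem.2.1 with r | r
    · exact hq.1 r
    · exact hq.2 r

theorem eq_bot_of_solvable_normal {F N : Subgroup G} [N.Normal] (hFN : F ≤ N)
    (hFn : ∀ n ∈ N, ∀ f ∈ F, n * f * n⁻¹ ∈ F)
    (hsol : ∀ M : Subgroup G, M.Normal → Group.IsSolvable ↥M → M = ⊥) (hF : Group.IsSolvable F) :
    F = ⊥ := by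
  haveI := hF
  haveI : (F.subgroupOf N).Normal := ⟨fun x hx n => hFn n n.2 x hx⟩
  haveI : Group.IsSolvable (F.subgroupOf N) := Group.isSolvable_of_isSolvable_injective
    (f := (Subgroup.subgroupOfEquivOfLe hFN).toMonoidHom) (Subgroup.subgroupOfEquivOfLe hFN).injective
  have h1 := CfsgLib.Perm.Kazarin.le_rad (G := N) (N := F.subgroupOf N) inferInstance
  have h2 : CfsgLib.Perm.Kazarin.rad G = ⊥ :=
    hsol _ CfsgLib.Perm.Kazarin.rad_spec.1 CfsgLib.Perm.Kazarin.rad_spec.2
  rw [eq_bot_iff, ← h2]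
  intro f hf
  exact CfsgLib.Perm.Kazarin.map_rad_le N ⟨⟨f, hFN hf⟩, h1 hf, rfl⟩

theorem insoluble_two (hD : IsThreeTranspositionClass D)
    (hsol : ∀ M : Subgroup G, M.Normal → Group.IsSolvable ↥M → M = ⊥) :
    ∃ a ∈ D, ∃ b ∈ D, a ≠ b := by
  by_contra hcon
  push Not at hcon
  obtain ⟨d, hd, -⟩ := hD.2.1
  have htop : Subgroup.zpowers d = ⊤ := by
    rw [eq_top_iff, ← hD.2.2, Subgroup.closure_le]
    intro z hz
    rw [hcon z hz d hd]
    exact Subgroup.mem_zpowers d
  have hcomm : Group.IsSolvable (Subgroup.zpowers d) := Group.isSolvable_of_comm fun a b => mul_comm' a b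
  rw [htop] at hcomm
  have h1 := hsol ⊤ inferInstance hcomm
  have h2 : d ∈ (⊥ : Subgroup G) := h1 ▸ Subgroup.mem_top d
  exact ne_one hD.1 hd (Subgroup.mem_bot.1 h2)

/-- no soluble normal subgroup and perfect derived subgroup imply primitivity -/
theorem primitive_of_insoluble (hZ : CfsgLib.Base.ZStar.Holds.{u})
    (hsol : ∀ M : Subgroup G, M.Normal → Group.IsSolvable ↥M → M = ⊥)
    (hperf : ⁅commutator G, commutator G⁆ = commutator G) (hD : IsThreeTranspositionClass D) :
    IsPrimitiveUnderConj D := by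
  classical
  refine primitive_of_part hD (insoluble_two hD hsol) fun R hR a ha b hb hab hne => ?_
  have h := hD.1
  have hc := class_conj_closed hD
  set N := partKernel D R hR hc with hN
  haveI hNn : N.Normal := partKernel_normal hR hc
  set S : Set G := {g | ∃ x ∈ D, ∃ y ∈ D, R x y ∧ g = x * y}
  set N0 := Subgroup.closure S
  have hN0N : N0 ≤ N := by
    rw [Subgroup.closure_le]
    rintro _ ⟨x, hx, y, hy, hxy, rfl⟩
    exact mul_mem_partKernel hR h hc hx hy hxy
  haveI hN0 : N0.Normal := by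
    refine ⟨fun n hn g => ?_⟩
    induction hn using Subgroup.closure_induction with
    | mem z hz =>
      obtain ⟨x, hx, y, hy, hxy, rfl⟩ := hz
      exact Subgroup.subset_closure ⟨_, hc g x hx, _, hc g y hy, hR.conj g x y hxy, by group⟩
    | one => simp
    | mul z w _ _ hz hw =>
      rw [show g * (z * w) * g⁻¹ = (g * z * g⁻¹) * (g * w * g⁻¹) by group]; exact mul_mem hz hw
    | inv z _ hz => rw [show g * z⁻¹ * g⁻¹ = (g * z * g⁻¹)⁻¹ by group]; exact inv_mem hz
  have habN0 : a * b ∈ N0 := Subgroup.subset_closure ⟨a, ha, b, hb, hab, rfl⟩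
  have hN0ne : N0 ≠ ⊥ := fun e => hne (by
    rw [e, Subgroup.mem_bot] at habN0
    rw [← inv_eq h ha]; exact (inv_eq_of_mul_eq_one_right habN0))
  -- a minimal normal subgroup of `N0`
  set fam : Set (Subgroup G) := {F | F ≤ N0 ∧ F ≠ ⊥ ∧ ∀ n ∈ N0, ∀ f ∈ F, n * f * n⁻¹ ∈ F}
  obtain ⟨F, ⟨hFN0, hFne, hFn⟩, hmin⟩ := (Set.toFinite fam).exists_minimal
    ⟨N0, le_rfl, hN0ne, fun n _ f hf => hN0.conj_mem f hf n⟩
  have hminF : ∀ F' : Subgroup G, F' ≤ F → (∀ n ∈ N0, ∀ f ∈ F', n * f * n⁻¹ ∈ F') → F' ≠ ⊥ → F' = F :=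
    fun F' h1 h2 h3 => le_antisymm h1 (hmin ⟨h1.trans hFN0, h3, h2⟩ h1)
  have hFsol : ¬ Group.IsSolvable F := fun k => hFne (eq_bot_of_solvable_normal hFN0 hFn hsol k)
  have hFD : ∀ d ∈ D, ∀ f ∈ F, d * f * d⁻¹ ∈ F := by
    intro d hd
    set F' := F.map (MulAut.conj d).toMonoidHom with hF'
    have hF'n : ∀ n ∈ N0, ∀ f ∈ F', n * f * n⁻¹ ∈ F' := by
      rintro n hn _ ⟨f, hf, rfl⟩
      refine ⟨(d⁻¹ * n * d) * f * (d⁻¹ * n * d)⁻¹, hFn _ ?_ f hf, ?_⟩
      · simpa using hN0.conj_mem n hn d⁻¹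
      · simp only [MulEquiv.coe_toMonoidHom, MulAut.conj_apply]; group
    by_cases hint : F ⊓ F' = ⊥
    · exfalso
      apply hFsol
      refine isSolvable_of_orders_two_three F fun f hf => ?_
      have hf' : d * f * d⁻¹ ∈ F' := ⟨f, hf, rfl⟩
      have hcom : Commute (d * f * d⁻¹) f := by
        have k1 : (d * f * d⁻¹) * f * (d * f * d⁻¹)⁻¹ * f⁻¹ ∈ F ⊓ F' := by
          refine ⟨F.mul_mem (hFn _ ?_ f hf) (F.inv_mem hf), ?_⟩
          · exact hN0.conj_mem f (hFN0 hf) d
          · have := hF'n f (hFN0 hf) _ (inv_mem hf')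
            rw [show (d * f * d⁻¹) * f * (d * f * d⁻¹)⁻¹ * f⁻¹
              = (d * f * d⁻¹) * (f * (d * f * d⁻¹)⁻¹ * f⁻¹) by group]
            exact mul_mem hf' this
        rw [hint, Subgroup.mem_bot, mul_inv_eq_one, mul_inv_eq_iff_eq_mul] at k1
        exact k1
      have hprod : d * (f * d * f⁻¹) = (d * f * d⁻¹) * f⁻¹ := by rw [inv_eq h hd]; group
      have key : ∀ k : ℕ, (d * (f * d * f⁻¹)) ^ k = 1 → f ^ k = 1 := by
        intro k hk
        rw [hprod, (hcom.inv_right).mul_pow, inv_pow, mul_inv_eq_one] at hk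
        have k1 : f ^ k ∈ F ⊓ F' := ⟨pow_mem hf k, hk ▸ pow_mem hf' k⟩
        rwa [hint, Subgroup.mem_bot] at k1
      rcases h.2 d hd _ (hc f d hd) with k2 | k3
      · exact Or.inl (key 2 k2)
      · exact Or.inr (key 3 k3)
    · have e1 : F ⊓ F' = F := hminF _ inf_le_left
        (fun n hn f hf => ⟨hFn n hn f hf.1, hF'n n hn f hf.2⟩) hint
      intro f hf
      have h1 : d * f * d⁻¹ ∈ F' := ⟨f, hf, rfl⟩
      have hcard : Nat.card F' = Nat.card F :=
        (Nat.card_congr (F.equivMapOfInjective _ (MulAut.conj d).injective).toEquiv).symm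
      have heq : F = F' := Subgroup.eq_of_le_of_card_ge (inf_eq_left.1 e1) hcard.le
      rw [heq]; exact h1
  have hFG : ∀ g : G, ∀ f ∈ F, g * f * g⁻¹ ∈ F := by
    intro g
    have hg : g ∈ Subgroup.closure D := hD.2.2 ▸ Subgroup.mem_top g
    induction hg using Subgroup.closure_induction_right with
    | one => simp
    | mul_right s _ x hx ih =>
      intro f hf
      rw [show s * x * f * (s * x)⁻¹ = s * (x * f * x⁻¹) * s⁻¹ by group]
      exact ih _ (hFD x hx f hf)
    | mul_inv_cancel s _ x hx ih =>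
      intro f hf
      rw [inv_eq h hx, show s * x * f * (s * x)⁻¹ = s * (x * f * x⁻¹) * s⁻¹ by group]
      exact ih _ (hFD x hx f hf)
  -- the subgroups belonging to the parts
  set K : G → Subgroup G := fun x => Subgroup.closure {g | ∃ y ∈ D, ∃ w ∈ D, R x y ∧ R x w ∧ g = y * w}
  have hKN0 : ∀ x, K x ≤ N0 := by
    intro x
    rw [Subgroup.closure_le]
    rintro _ ⟨y, hy, w, hw, hxy, hxw, rfl⟩
    exact Subgroup.subset_closure ⟨y, hy, w, hw, hR.trans _ _ _ (hR.symm _ _ hxy) hxw, rfl⟩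
  have hKconj : ∀ g x, ∀ k ∈ K x, g * k * g⁻¹ ∈ K (g * x * g⁻¹) := by
    intro g x k hk
    induction hk using Subgroup.closure_induction with
    | mem z hz =>
      obtain ⟨y, hy, w, hw, hxy, hxw, rfl⟩ := hz
      exact Subgroup.subset_closure ⟨_, hc g y hy, _, hc g w hw, hR.conj g x y hxy, hR.conj g x w hxw,
        by group⟩
    | one => simp
    | mul z w _ _ hz hw =>
      rw [show g * (z * w) * g⁻¹ = (g * z * g⁻¹) * (g * w * g⁻¹) by group]; exact mul_mem hz hw
    | inv z _ hz => rw [show g * z⁻¹ * g⁻¹ = (g * z * g⁻¹)⁻¹ by group]; exact inv_mem hz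
  have hKeq : ∀ x y, R x y → K x = K y := by
    intro x y hxy
    apply le_antisymm <;> rw [Subgroup.closure_le] <;> rintro _ ⟨u, hu, w, hw, h1, h2, rfl⟩
    · exact Subgroup.subset_closure ⟨u, hu, w, hw, hR.trans _ _ _ (hR.symm _ _ hxy) h1,
        hR.trans _ _ _ (hR.symm _ _ hxy) h2, rfl⟩
    · exact Subgroup.subset_closure ⟨u, hu, w, hw, hR.trans _ _ _ hxy h1,
        hR.trans _ _ _ hxy h2, rfl⟩
  obtain ⟨x0, hx0, hFx0⟩ : ∃ x ∈ D, F ⊓ K x ≠ ⊥ := by
    by_contra hcon
    push Not at hcon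
    apply hFsol
    have hcent : ∀ z ∈ S, ∀ f ∈ F, Commute z f := by
      rintro _ ⟨x, hx, y, hy, hxy, rfl⟩ f hf
      have hxyK : x * y ∈ K x := Subgroup.subset_closure ⟨x, hx, y, hy, hR.refl x, hxy, rfl⟩
      have k1 : x * y * f * (x * y)⁻¹ * f⁻¹ ∈ F ⊓ K x := by
        refine ⟨F.mul_mem (hFG _ f hf) (F.inv_mem hf), ?_⟩
        have := hKconj f x _ (inv_mem hxyK)
        rw [hKeq _ _ (hN0N (hFN0 hf) x hx)] at this
        rw [show x * y * f * (x * y)⁻¹ * f⁻¹ = (x * y) * (f * (x * y)⁻¹ * f⁻¹) by group]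
        exact mul_mem hxyK this
      rw [hcon x hx, Subgroup.mem_bot, mul_inv_eq_one, mul_inv_eq_iff_eq_mul] at k1
      exact k1
    refine Group.isSolvable_of_comm fun u v => Subtype.ext ?_
    have hu : (u : G) ∈ N0 := hFN0 u.2
    show (u : G) * v = v * u
    exact (Subgroup.closure_induction (p := fun z _ => Commute z (v : G))
      (fun z hz => hcent z hz v v.2) (Commute.one_left _) (fun _ _ _ _ h1 h2 => h1.mul_left h2)
      (fun _ _ h1 => h1.inv_left) hu).eq
  have hFK : ∀ y ∈ D, F ≤ K y := by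
    have h0 : F ≤ K x0 := by
      have := hminF (F ⊓ K x0) inf_le_left (fun n hn f hf => ⟨hFn n hn f hf.1, by
        have := hKconj n x0 f hf.2; rwa [hKeq _ _ (hN0N hn x0 hx0)] at this⟩) hFx0
      exact inf_eq_left.1 this
    intro y hy f hf
    obtain ⟨g, rfl⟩ := class_transitive hD x0 hx0 y hy
    have := hKconj g x0 _ (h0 (hFG g⁻¹ f hf))
    rw [show g * (g⁻¹ * f * g⁻¹⁻¹) * g⁻¹ = f by group] at this
    exact this
  -- different parts do not commute
  have hnc : ∀ x ∈ D, ∀ y ∈ D, ¬ R x y → ¬ Commute x y := by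
    intro x hx y hy hxy hcxy
    have hall : ∀ u ∈ D, R x u → ∀ w ∈ D, R y w → Commute u w := by
      intro u hu hxu w hw hyw
      by_contra hnc'
      apply hxy
      have e1 : x * y * x = y := (commute_iff_conj h hx y).1 hcxy
      have a1 : R (x * w * x) w := by
        have := hR.conj x y w hyw
        rw [inv_eq h hx, e1] at this
        exact hR.trans _ _ _ (hR.symm _ _ this) hyw
      have a2 : R (u * w * u) w := hR.trans _ _ _ (hR.symm _ _ (hR.action h hx hu hw hxu)) a1
      rw [braid h hu hw hnc'] at a2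
      have a3 := hR.conj w _ _ a2
      rw [inv_eq h hw] at a3
      simp only [mul_assoc, mul_cancel h hw, mul_self h hw, mul_one, one_mul] at a3
      exact hR.trans _ _ _ hxu (hR.trans _ _ _ a3 (hR.symm _ _ hyw))
    apply hFsol
    refine Group.isSolvable_of_comm fun u v => Subtype.ext ?_
    show (u : G) * v = v * u
    have hu := hFK x hx u.2
    have hv := hFK y hy v.2
    exact (Subgroup.closure_induction (p := fun z _ => Commute z (v : G))
      (fun z hz0 => by
        obtain ⟨p, hp, q, hq, hxp, hxq, hz⟩ := hz0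
        refine Subgroup.closure_induction (p := fun s _ => Commute z s) (fun s hs0 => ?_)
          (Commute.one_right _) (fun _ _ _ _ h1 h2 => h1.mul_right h2) (fun _ _ h1 => h1.inv_right) hv
        obtain ⟨p', hp', q', hq', hyp, hyq, hs⟩ := hs0
        rw [hz, hs]
        exact ((hall p hp hxp p' hp' hyp).mul_right (hall p hp hxp q' hq' hyq)).mul_left
          ((hall q hq hxq p' hp' hyp).mul_right (hall q hq hxq q' hq' hyq)))
      (Commute.one_left _) (fun _ _ _ _ h1 h2 => h1.mul_left h2) (fun _ _ h1 => h1.inv_left) hu).eq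
  -- the quotient has width one
  by_cases hdN : a ∈ N
  · intro g _
    have hDN : Subgroup.closure D ≤ N := by
      rw [Subgroup.closure_le]
      intro x hx
      obtain ⟨u, rfl⟩ := class_transitive hD a ha x hx
      exact hNn.conj_mem a hdN u
    exact hDN (hD.2.2 ▸ Subgroup.mem_top g)
  have hDN : ∀ x ∈ D, x ∉ N := by
    intro x hx hxN
    obtain ⟨u, hu⟩ := class_transitive hD x hx a ha
    exact hdN (hu ▸ hNn.conj_mem x hxN u)
  let π := QuotientGroup.mk' N
  have hord : ∀ x ∈ D, orderOf (π x) = 2 := by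
    intro x hx
    refine orderOf_eq_prime ?_ fun k => hDN x hx ((QuotientGroup.eq_one_iff x).1 k)
    rw [← map_pow, pow_two, mul_self h hx, map_one]
  have hDbar : IsThreeTranspositionClass (π '' D) := by
    refine ⟨⟨?_, ?_⟩, ?_, ?_⟩
    · rintro _ ⟨x, hx, rfl⟩; exact hord x hx
    · rintro _ ⟨x, hx, rfl⟩ _ ⟨y, hy, rfl⟩
      rcases h.2 x hx y hy with k | k
      · exact Or.inl (by rw [← map_mul, ← map_pow, k, map_one])
      · exact Or.inr (by rw [← map_mul, ← map_pow, k, map_one])
    · obtain ⟨d, hd, hDd⟩ := hD.2.1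
      refine ⟨π d, ⟨d, hd, rfl⟩, ?_⟩
      ext q
      constructor
      · rintro ⟨x, hx, rfl⟩
        rw [hDd] at hx
        exact π.map_isConj (show IsConj d x from hx)
      · intro hq
        obtain ⟨c, hc'⟩ := isConj_iff.1 (show IsConj (π d) q from hq)
        obtain ⟨g, rfl⟩ := QuotientGroup.mk'_surjective N c
        exact ⟨g * d * g⁻¹, hc g d hd, by rw [map_mul, map_mul, map_inv, hc']⟩
    · rw [← MonoidHom.map_closure, hD.2.2, Subgroup.map_top_of_surjective _ (QuotientGroup.mk'_surjective N)]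
  have hwid : ∀ p ∈ π '' D, ∀ q ∈ π '' D, Commute p q → p = q := by
    rintro _ ⟨x, hx, rfl⟩ _ ⟨y, hy, rfl⟩ hpq
    by_cases hxy : R x y
    · have := mul_mem_partKernel hR h hc hx hy hxy
      rw [← QuotientGroup.eq_one_iff, QuotientGroup.mk_mul] at this
      show π x = π y
      rw [← inv_eq h hy, map_inv]
      exact eq_inv_of_mul_eq_one_left this
    · have hn := hnc x hx y hy hxy
      have h3 : (π x * π y) ^ 3 = 1 := by
        rcases h.2 x hx y hy with k | k
        · refine absurd ?_ hn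
          rw [pow_two, mul_eq_one_iff_eq_inv, mul_inv_rev, inv_eq h hx, inv_eq h hy] at k
          exact k
        · rw [← map_mul, ← map_pow, k, map_one]
      have h2 : (π x * π y) ^ 2 = 1 := by
        rw [hpq.mul_pow, ← map_pow, ← map_pow, pow_two, pow_two, mul_self h hx, mul_self h hy,
          map_one, one_mul]
      have h1 : π x * π y = 1 := by
        calc π x * π y = (π x * π y) ^ 3 * ((π x * π y) ^ 2)⁻¹ := by group
          _ = 1 := by rw [h2, h3, inv_one, one_mul]
      rw [← inv_eq h hy, map_inv]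
      exact eq_inv_of_mul_eq_one_left h1
  haveI := isSolvable_of_width_one hZ hDbar hwid
  have hmap : (commutator G).map π = ⊥ := by
    have hp : ⁅(commutator G).map π, (commutator G).map π⁆ = (commutator G).map π := by
      rw [← Subgroup.map_commutator, hperf]
    haveI : Group.IsSolvable ((commutator G).map π) := Group.isSolvable_of_isSolvable_injective
      (f := ((commutator G).map π).subtype) (Subgroup.subtype_injective _)
    by_contra hne'
    have := Group.IsSolvable.commutator_lt_of_ne_bot (G := G ⧸ N) hne'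
    rw [hp] at this
    exact lt_irrefl _ this
  intro g hg
  rw [← QuotientGroup.eq_one_iff, ← Subgroup.mem_bot, ← hmap]
  exact ⟨g, hg, rfl⟩

/-- The members commuting with `x` form one class of the subgroup they generate. -/
theorem local_class (hZ : CfsgLib.Base.ZStar.Holds.{u})
    (hsol : ∀ M : Subgroup G, M.Normal → Group.IsSolvable ↥M → M = ⊥)
    (hperf : ⁅commutator G, commutator G⁆ = commutator G) (hD : IsThreeTranspositionClass D)
    {x : G} (hx : x ∈ D) {y y' : G} (hy : y ∈ Dd D x) (hy' : y' ∈ Dd D x) :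
    ∃ g ∈ Subgroup.closure (Dd D x), g * y * g⁻¹ = y' :=
  dd_transitive (class_group hD) (primitive_of_insoluble hZ hsol hperf hD)
    ⟨x, hx, y, hy.1, hy.2.1.symm, hy.2.2⟩ hx hy hy'

end CfsgLib.Fischer
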