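import Cfsg.Agent.Spor.Fischer.Sections
import Cfsg.Agent.Spor.Fischer.Sylow
import Cfsg.Agent.Base.ZStar.Holds
import Mathlib

/-!
The two classes attached to a member: equal commuting sets and the 2-core, equal punctured
commuting sets and the 3-core.
-/

set_option autoImplicit false
set_option linter.unusedSectionVars false

namespace CfsgLib.Fischer

open Cfsg

universe u

variable {G : Type u} [Group G] [Finite G] {D : Set G}

theorem eq_one_of_coprime_pow {x : G} {a b : ℕ} (hab : Nat.Coprime a b) (ha : x ^ a = 1) (hb : x ^ b = 1) :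
    x = 1 :=
  orderOf_eq_one_iff.1 (Nat.eq_one_of_dvd_coprimes hab (orderOf_dvd_of_pow_eq_one ha)
    (orderOf_dvd_of_pow_eq_one hb))

theorem pow_three_of_nc (h : IsThreeTranspositionSet D) {a b : G} (ha : a ∈ D) (hb : b ∈ D)
    (hn : ¬ Commute a b) : (a * b) ^ 3 = 1 := by
  rcases h.2 a ha b hb with k | k
  · rw [pow_two, mul_eq_one_iff_eq_inv, mul_inv_rev, inv_eq h ha, inv_eq h hb] at k
    exact absurd k hn
  · exact k

theorem exists_nc_class (hD : IsThreeTranspositionClass D) (hD2 : ∃ a ∈ D, ∃ b ∈ D, a ≠ b) {d : G}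
    (hd : d ∈ D) : ∃ x ∈ D, ¬ Commute d x := by
  by_contra hcon
  push Not at hcon
  obtain ⟨a, ha, b, hb, hab⟩ := hD2
  have hall : ∀ g : G, Commute d g := by
    intro g
    have hg : g ∈ Subgroup.closure D := hD.2.2 ▸ Subgroup.mem_top g
    induction hg using Subgroup.closure_induction with
    | mem y hy => exact hcon y hy
    | one => exact Commute.one_right d
    | mul y z _ _ hy hz => exact hy.mul_right hz
    | inv y _ hy => exact hy.inv_right
  apply hab
  obtain ⟨g, hg⟩ := class_transitive hD d hd a ha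
  obtain ⟨g', hg'⟩ := class_transitive hD d hd b hb
  rw [← hg, ← hg', ← (hall g).eq, ← (hall g').eq]
  group

/-- a difference in the 2-core gives one commuting set -/
theorem same_of_mem_pCore (h : IsThreeTranspositionSet D) {d v e : G}
    (hd : d ∈ D) (hv : v ∈ D) (he : e ∈ D) (hdv : d * v ∈ pCore 2 G) (hed : Commute e d) :
    Commute e v := by
  haveI := CfsgLib.Solv.pCore_normal (G := G) (p := 2)
  by_contra hn
  have h1 : e * (d * v) * e⁻¹ * (d * v)⁻¹ ∈ pCore 2 G :=
    mul_mem ((inferInstance : (pCore 2 G).Normal).conj_mem _ hdv e) (inv_mem hdv)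
  rw [show e * (d * v) * e⁻¹ * (d * v)⁻¹ = (e * d) * (v * e⁻¹ * v⁻¹) * d⁻¹ by group, hed.eq] at h1
  have h2 : e * v * (e * v) ∈ pCore 2 G := by
    have := (inferInstance : (pCore 2 G).Normal).conj_mem _ h1 d⁻¹
    rw [inv_eq h he, inv_eq h hv] at this
    simpa [mul_assoc, inv_eq h hd, mul_cancel h hd, mul_self h hd] using this
  obtain ⟨k, hk⟩ := CfsgLib.Solv.pCore_isPGroup (G := G) (p := 2) ⟨_, h2⟩
  have h3 : (e * v * (e * v)) ^ 3 = 1 := by
    rw [← pow_two, ← pow_mul, mul_comm, pow_mul, pow_three_of_nc h he hv hn, one_pow]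
  have h4 := eq_one_of_coprime_pow (Nat.Coprime.pow_left k (by norm_num : Nat.Coprime 2 3))
    (congrArg Subtype.val hk) h3
  apply hn
  rw [mul_eq_one_iff_eq_inv, mul_inv_rev, inv_eq h he, inv_eq h hv] at h4
  exact h4

theorem two_classes (hD : IsThreeTranspositionClass D) (hD2 : ∃ a ∈ D, ∃ b ∈ D, a ≠ b) {d : G}
    (hd : d ∈ D) :
    {v : G | v ∈ D ∧ ∀ e ∈ D, Commute v e ↔ Commute d e} = {v : G | v ∈ D ∧ d⁻¹ * v ∈ pCore 2 G} ∧
      {v : G | v ∈ D ∧ ∀ e ∈ D, Commute v e ↔ Commute d e} =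
        {v : G | ∃ g ∈ pCore 2 G, v = g * d * g⁻¹} := by
  haveI := CfsgLib.Solv.pCore_normal (G := G) (p := 2)
  have h := hD.1
  have hc := class_conj_closed hD
  have fwd : ∀ a ∈ D, ∀ b ∈ D, (∀ e ∈ D, Commute a e ↔ Commute b e) → b * a ∈ pCore 2 G :=
    fun a ha b hb hs => mul_mem_pCore h hc hb ha fun e he =>
      ⟨fun k => ((hs e he).2 k.symm).symm, fun k => ((hs e he).1 k.symm).symm⟩
  have bwd : ∀ v ∈ D, d * v ∈ pCore 2 G → ∀ e ∈ D, Commute v e ↔ Commute d e := by
    intro v hv hdv e he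
    have hvd : v * d ∈ pCore 2 G := by
      have := inv_mem hdv
      rwa [mul_inv_rev, inv_eq h hd, inv_eq h hv] at this
    exact ⟨fun k => (same_of_mem_pCore h hv hd he hvd k.symm).symm,
      fun k => (same_of_mem_pCore h hd hv he hdv k.symm).symm⟩
  constructor
  · ext v
    constructor
    · rintro ⟨hv, hs⟩; exact ⟨hv, (inv_eq h hd).symm ▸ fwd v hv d hd hs⟩
    · rintro ⟨hv, hdv⟩; exact ⟨hv, bwd v hv ((inv_eq h hd) ▸ hdv)⟩
  · ext v
    constructor
    · rintro ⟨hv, hs⟩
      by_cases hne : d = v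
      · exact ⟨1, one_mem _, by rw [← hne]; group⟩
      obtain ⟨x, hx, hdx⟩ := exists_nc_class hD hD2 hd
      obtain ⟨φ, -, fd, fx, fv⟩ := exists_hom_perm_four h hd hx hv hne ((hs v hv).1 (Commute.refl v))
        hdx (fun k => hdx ((hs x hx).1 k.symm))
      have hdv : d * v ∈ pCore 2 G := fwd v hv d hd hs
      have h13 := (inferInstance : (pCore 2 G).Normal).conj_mem _ hdv x
      rw [← fd, ← fv, ← fx, ← map_inv, ← map_mul, ← map_mul, ← map_mul,
        show Equiv.swap (1 : Fin 4) 2 * (Equiv.swap 0 1 * Equiv.swap 2 3) * (Equiv.swap 1 2)⁻¹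
          = Equiv.swap 0 2 * Equiv.swap 1 3 by decide +kernel] at h13
      refine ⟨_, h13, ?_⟩
      rw [← fd, ← fv, ← map_inv, ← map_mul, ← map_mul]
      congr 1
      decide +kernel
    · rintro ⟨g, hg, rfl⟩
      refine ⟨hc g d hd, bwd _ (hc g d hd) ?_⟩
      rw [show d * (g * d * g⁻¹) = (d * g * d⁻¹) * g⁻¹ * ((g * d * d) * g⁻¹) by group,
        mul_assoc g d d, mul_self h hd, mul_one, mul_inv_cancel, mul_one]
      exact mul_mem ((inferInstance : (pCore 2 G).Normal).conj_mem _ hg d) (inv_mem hg)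

/-- the punctured commuting sets -/
def SamePunct (D : Set G) (a b : G) : Prop :=
  {y : G | y ∈ D ∧ y ≠ a ∧ Commute a y} = {y : G | y ∈ D ∧ y ≠ b ∧ Commute b y}

theorem samePunct_nc {a b : G} (hb : b ∈ D) (hne : a ≠ b) (hs : SamePunct D a b) : ¬ Commute a b := by
  intro k
  have : b ∈ {y : G | y ∈ D ∧ y ≠ a ∧ Commute a y} := ⟨hb, Ne.symm hne, k⟩
  rw [hs] at this
  exact this.2.1 rfl

theorem samePunct_part (hc : ∀ g : G, ∀ x ∈ D, g * x * g⁻¹ ∈ D) : Part D (SamePunct D) := by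
  refine ⟨fun _ => rfl, fun a b k => k.symm, fun a b c k k' => k.trans k', fun g a b k => ?_⟩
  have key : ∀ a y : G, y ∈ {y : G | y ∈ D ∧ y ≠ g * a * g⁻¹ ∧ Commute (g * a * g⁻¹) y} ↔
      g⁻¹ * y * g ∈ {y : G | y ∈ D ∧ y ≠ a ∧ Commute a y} := by
    intro a y
    constructor
    · rintro ⟨hy, hne, hcm⟩
      refine ⟨by simpa using hc g⁻¹ y hy, fun e => hne (by rw [← e]; group), ?_⟩
      have := (commute_conj_iff g⁻¹).2 hcm
      simpa [mul_assoc] using this
    · rintro ⟨hy, hne, hcm⟩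
      refine ⟨?_, fun e => hne (by rw [e]; group), ?_⟩
      · have := hc g _ hy; simpa [mul_assoc] using this
      · have := (commute_conj_iff g).2 hcm
        simpa [mul_assoc] using this
  ext y
  rw [key, key, show {y : G | y ∈ D ∧ y ≠ a ∧ Commute a y} = _ from k]

/-- products of members in one class lie in the 3-core of the subgroup they generate -/
theorem three_group_of_width_one {A : Set G} (h : IsThreeTranspositionSet A) (hA : SelfClosed A)
    (h1 : ∀ a ∈ A, ∀ b ∈ A, Commute a b → a = b) :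
    IsPGroup 3 (Subgroup.closure {g : G | ∃ a ∈ A, ∃ b ∈ A, g = a * b}) := by
  by_cases hne : A.Nonempty
  swap
  · rw [Set.not_nonempty_iff_eq_empty] at hne
    rw [show {g : G | ∃ a ∈ A, ∃ b ∈ A, g = a * b} = ∅ by ext g; simp [hne], Subgroup.closure_empty]
    exact IsPGroup.of_bot
  obtain ⟨d, hd⟩ := hne
  set H := Subgroup.closure A
  have hdH : d ∈ H := Subgroup.subset_closure hd
  have hsub : ∀ a ∈ conjugatesOf (⟨d, hdH⟩ : H), (a : G) ∈ A := by
    intro a ha
    obtain ⟨g, rfl⟩ := isConj_iff.1 (show IsConj (⟨d, hdH⟩ : H) a from ha)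
    exact conj_mem_closure h hA g.2 d hd
  have hall : ∀ a ∈ A, ∀ ha : a ∈ H, (⟨a, ha⟩ : H) ∈ conjugatesOf (⟨d, hdH⟩ : H) := by
    intro a ha hah
    by_cases e : d = a
    · subst e; exact mem_conjugatesOf_self
    refine isConj_iff.2 ⟨⟨d * a * d, mul_mem (mul_mem hdH hah) hdH⟩, Subtype.ext ?_⟩
    exact conj_of_nc h hd ha fun k => e (h1 d hd a ha k)
  have hp := CfsgLib.Base.ZStar.prod_mem_pCore CfsgLib.Base.ZStar.holds Nat.prime_three (by norm_num)
    (⟨d, hdH⟩ : H) (by rw [← Subgroup.orderOf_coe]; exact h.1 d hd) fun a ha b hb => by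
      by_cases e : (a : G) = b
      · refine ⟨0, ?_⟩
        rw [show a = b from Subtype.ext e, pow_zero, orderOf_eq_one_iff]
        exact Subtype.ext (mul_self h (hsub b hb))
      · obtain ⟨i, -, hi⟩ := (Nat.dvd_prime_pow Nat.prime_three).1
          (show orderOf (a * b) ∣ 3 ^ 1 by
            rw [pow_one]
            exact orderOf_dvd_of_pow_eq_one (Subtype.ext (pow_three_of_nc h (hsub a ha) (hsub b hb)
              fun k => e (h1 _ (hsub a ha) _ (hsub b hb) k))))
        exact ⟨i, hi⟩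
  refine ((CfsgLib.Solv.pCore_isPGroup (G := H) (p := 3)).map H.subtype).to_le ?_
  rw [Subgroup.closure_le]
  rintro _ ⟨a, ha, b, hb, rfl⟩
  exact ⟨_, hp _ (hall a ha (Subgroup.subset_closure ha)) _ (hall b hb (Subgroup.subset_closure hb)), rfl⟩

theorem mul_mem_pCore_three (h : IsThreeTranspositionSet D) (hc : ∀ g : G, ∀ x ∈ D, g * x * g⁻¹ ∈ D)
    {u v : G} (hu : u ∈ D) (hv : v ∈ D) (hs : SamePunct D u v) : u * v ∈ pCore 3 G := by
  classical
  have hR := samePunct_part hc
  set M := Subgroup.closure {g : G | ∃ p ∈ D, ∃ q ∈ D, SamePunct D p q ∧ g = p * q} with hM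
  have hMN : M ≤ partKernel D (SamePunct D) hR hc := by
    rw [hM, Subgroup.closure_le]
    rintro _ ⟨p, hp, q, hq, hpq, rfl⟩
    exact mul_mem_partKernel hR h hc hp hq hpq
  haveI hMn : M.Normal := by
    refine ⟨fun k hk g => ?_⟩
    induction hk using Subgroup.closure_induction with
    | mem z hz =>
      obtain ⟨p, hp, q, hq, hpq, rfl⟩ := hz
      exact Subgroup.subset_closure ⟨_, hc g p hp, _, hc g q hq, hR.conj g p q hpq, by group⟩
    | one => simp
    | mul z w _ _ hz hw =>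
      rw [show g * (z * w) * g⁻¹ = (g * z * g⁻¹) * (g * w * g⁻¹) by group]; exact mul_mem hz hw
    | inv z _ hz => rw [show g * z⁻¹ * g⁻¹ = (g * z * g⁻¹)⁻¹ by group]; exact inv_mem hz
  haveI : Fact (Nat.Prime 3) := ⟨Nat.prime_three⟩
  have hle : M ≤ (pCore 3 M).map M.subtype := by
    conv_lhs => rw [hM]
    rw [Subgroup.closure_le]
    rintro _ ⟨p, hp, q, hq, hpq, rfl⟩
    set A : Set G := {w | w ∈ D ∧ SamePunct D p w}
    set V := Subgroup.closure {g : G | ∃ a ∈ A, ∃ b ∈ A, g = a * b}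
    have h3 : IsPGroup 3 V := by
      refine three_group_of_width_one (three_mono h fun w hw => hw.1) (fun a ha b hb => ?_) ?_
      · refine ⟨by have := hc a b hb.1; rwa [inv_eq h ha.1] at this, ?_⟩
        have h1 := hR.conj a a b (hR.trans _ _ _ (hR.symm _ _ ha.2) hb.2)
        rw [mul_inv_cancel_right, inv_eq h ha.1] at h1
        exact hR.trans _ _ _ ha.2 h1
      · intro a ha b hb k
        by_contra hne
        exact samePunct_nc hb.1 hne (hR.trans _ _ _ (hR.symm _ _ ha.2) hb.2) k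
    have hmemM : p * q ∈ M := Subgroup.subset_closure ⟨p, hp, q, hq, hpq, rfl⟩
    haveI : (V.subgroupOf M).Normal := by
      refine ⟨fun z hz m => ?_⟩
      obtain ⟨z, hzM⟩ := z
      show (m : G) * z * (m : G)⁻¹ ∈ V
      have hma : SamePunct D ((m : G) * p * (m : G)⁻¹) p := hMN m.2 p hp
      have hA : ∀ w ∈ A, (m : G) * w * (m : G)⁻¹ ∈ A := fun w hw =>
        ⟨hc m w hw.1, hR.trans _ _ _ (hR.symm _ _ hma) (hR.conj m _ _ hw.2)⟩
      have hz' : z ∈ V := hz
      clear hz hzM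
      induction hz' using Subgroup.closure_induction with
      | mem y hy =>
        obtain ⟨a, ha, b, hb, rfl⟩ := hy
        exact Subgroup.subset_closure ⟨_, hA a ha, _, hA b hb, by group⟩
      | one => simp
      | mul y w _ _ hy hw =>
        rw [show (m : G) * (y * w) * (m : G)⁻¹ = ((m : G) * y * (m : G)⁻¹) * (m * w * (m : G)⁻¹) by group]
        exact mul_mem hy hw
      | inv y _ hy =>
        rw [show (m : G) * y⁻¹ * (m : G)⁻¹ = ((m : G) * y * (m : G)⁻¹)⁻¹ by group]; exact inv_mem hy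
    have hle' := CfsgLib.Solv.le_pCore (p := 3) (N := V.subgroupOf M)
      (h3.comap_of_injective _ M.subtype_injective)
    exact ⟨⟨p * q, hmemM⟩, hle' (show p * q ∈ V from
      Subgroup.subset_closure ⟨p, ⟨hp, rfl⟩, q, ⟨hq, hpq⟩, rfl⟩), rfl⟩
  have h3 : IsPGroup 3 M := ((CfsgLib.Solv.pCore_isPGroup (G := M) (p := 3)).map M.subtype).to_le hle
  exact CfsgLib.Solv.le_pCore h3 (Subgroup.subset_closure ⟨u, hu, v, hv, hs, rfl⟩)

theorem punct_subset_of_mem_pCore (h : IsThreeTranspositionSet D) {d w e : G}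
    (hd : d ∈ D) (hw : w ∈ D) (he : e ∈ D) (hdw : d * w ∈ pCore 3 G) (hed : Commute d e) (hne : e ≠ d) :
    e ≠ w ∧ Commute w e := by
  haveI := CfsgLib.Solv.pCore_normal (G := G) (p := 3)
  have small : ∀ a ∈ D, ∀ b ∈ D, Commute a b → a * b ∈ pCore 3 G → a = b := by
    intro a ha b hb k hm
    obtain ⟨i, hi⟩ := CfsgLib.Solv.pCore_isPGroup (G := G) (p := 3) ⟨_, hm⟩
    have := eq_one_of_coprime_pow (Nat.Coprime.pow_right i (by norm_num : Nat.Coprime 2 3))
      (by rw [pow_two]; exact sq_pair h ha hb k) (congrArg Subtype.val hi)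
    rw [← inv_eq h hb]; exact eq_inv_of_mul_eq_one_left this
  have hew : e ≠ w := by
    rintro rfl
    exact hne (small d hd e hw hed hdw).symm
  refine ⟨hew, ?_⟩
  by_contra hn
  have h1 : e * (d * w) * e⁻¹ * (d * w)⁻¹ ∈ pCore 3 G :=
    mul_mem ((inferInstance : (pCore 3 G).Normal).conj_mem _ hdw e) (inv_mem hdw)
  rw [show e * (d * w) * e⁻¹ * (d * w)⁻¹ = (e * d) * (w * e⁻¹ * w⁻¹) * d⁻¹ by group, ← hed.eq] at h1
  have h2 : e * w * (e * w) ∈ pCore 3 G := by
    have := (inferInstance : (pCore 3 G).Normal).conj_mem _ h1 d⁻¹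
    rw [inv_eq h he, inv_eq h hw] at this
    simpa [mul_assoc, inv_eq h hd, mul_cancel h hd, mul_self h hd] using this
  have hew3 := pow_three_of_nc h he hw (fun k => hn k.symm)
  have h3 : e * w ∈ pCore 3 G := by
    have e4 : e * w = (e * w * (e * w)) * (e * w * (e * w)) := by
      calc e * w = (e * w) ^ 3 * (e * w) := by rw [hew3, one_mul]
        _ = _ := by rw [pow_succ, pow_two]; group
    rw [e4]; exact mul_mem h2 h2
  apply hne
  refine small e he d hd hed.symm ?_
  have e5 : e * d = (e * w) * (d * w)⁻¹ := by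
    rw [mul_inv_rev, inv_eq h hw, inv_eq h hd, ← mul_assoc, mul_assoc e w w, mul_self h hw, mul_one]
  rw [e5]; exact mul_mem h3 (inv_mem hdw)

theorem three_classes (hD : IsThreeTranspositionClass D) {d : G} (hd : d ∈ D) :
    {w : G | w ∈ D ∧ SamePunct D d w} = {w : G | w ∈ D ∧ d⁻¹ * w ∈ pCore 3 G} ∧
      {w : G | w ∈ D ∧ SamePunct D d w} = {w : G | ∃ g ∈ pCore 3 G, w = g * d * g⁻¹} := by
  haveI := CfsgLib.Solv.pCore_normal (G := G) (p := 3)
  have h := hD.1
  have hc := class_conj_closed hD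
  have bwd : ∀ w ∈ D, d * w ∈ pCore 3 G → SamePunct D d w := by
    intro w hw hdw
    have hwd : w * d ∈ pCore 3 G := by
      have := inv_mem hdw
      rwa [mul_inv_rev, inv_eq h hd, inv_eq h hw] at this
    ext e
    constructor
    · rintro ⟨he, hne, k⟩
      exact ⟨he, punct_subset_of_mem_pCore h hd hw he hdw k hne⟩
    · rintro ⟨he, hne, k⟩
      exact ⟨he, punct_subset_of_mem_pCore h hw hd he hwd k hne⟩
  constructor
  · ext w
    constructor
    · rintro ⟨hw, hs⟩; exact ⟨hw, (inv_eq h hd).symm ▸ mul_mem_pCore_three h hc hd hw hs⟩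
    · rintro ⟨hw, hdw⟩; exact ⟨hw, bwd w hw ((inv_eq h hd) ▸ hdw)⟩
  · ext w
    constructor
    · rintro ⟨hw, hs⟩
      by_cases e : d = w
      · exact ⟨1, one_mem _, by rw [← e]; group⟩
      refine ⟨d * w, mul_mem_pCore_three h hc hd hw hs, ?_⟩
      have hb := braid h hw hd (fun k => samePunct_nc hw e hs k.symm)
      rw [mul_inv_rev, inv_eq h hw, inv_eq h hd,
        show d * w * d * (w * d) = d * (w * d * w) * d by group, hb]
      simp only [mul_assoc, mul_cancel h hd]
      rw [mul_self h hd, mul_one]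
    · rintro ⟨g, hg, rfl⟩
      refine ⟨hc g d hd, bwd _ (hc g d hd) ?_⟩
      rw [show d * (g * d * g⁻¹) = (d * g * d⁻¹) * g⁻¹ * ((g * d * d) * g⁻¹) by group,
        mul_assoc g d d, mul_self h hd, mul_one, mul_inv_cancel, mul_one]
      exact mul_mem ((inferInstance : (pCore 3 G).Normal).conj_mem _ hg d) (inv_mem hg)

/-- width one -/
theorem width_one_iff (hD : IsThreeTranspositionGroup D) {d : G} (hd : d ∈ D) :
    commutingWidth D = 1 ↔ Subgroup.zpowers d ⊔ pCore 3 G = ⊤ := by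
  classical
  haveI := CfsgLib.Solv.pCore_normal (G := G) (p := 3)
  obtain ⟨h, hc, hgen⟩ := hD
  have hbdd : BddAbove {n : ℕ | ∃ E : Set G, E ⊆ D ∧ E.Finite ∧ (∀ a ∈ E, ∀ b ∈ E, Commute a b) ∧ E.ncard = n} :=
    ⟨Nat.card G, fun n ⟨E, _, _, _, hn⟩ => hn ▸ Set.ncard_le_card E⟩
  have hw1 : commutingWidth D = 1 ↔ ∀ a ∈ D, ∀ b ∈ D, Commute a b → a = b := by
    constructor
    · intro hw a ha b hb k
      by_contra hne
      have h2 : 2 ≤ commutingWidth D := by
        refine le_csSup hbdd ⟨{a, b}, ?_, Set.toFinite _, ?_, Set.ncard_pair hne⟩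
        · rintro x (rfl | rfl)
          exacts [ha, hb]
        · rintro x (rfl | rfl) y (rfl | rfl)
          exacts [Commute.refl _, k, k.symm, Commute.refl _]
      omega
    · intro h1
      refine le_antisymm (csSup_le ?_ ?_) (le_csSup hbdd ⟨{d}, by simpa using hd, Set.toFinite _, by simp, by simp⟩)
      · exact ⟨1, {d}, by simpa using hd, Set.toFinite _, by simp, by simp⟩
      · rintro n ⟨E, hE, -, hcE, rfl⟩
        exact (Set.ncard_le_one (Set.toFinite E)).2 fun a ha b hb => h1 a (hE ha) b (hE hb) (hcE a ha b hb)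
  rw [hw1]
  constructor
  · intro h1
    rw [eq_top_iff, ← hgen, Subgroup.closure_le]
    intro x hx
    have hprod : IsPGroup 3 (Subgroup.closure {g : G | ∃ a ∈ D, ∃ b ∈ D, g = a * b}) :=
      three_group_of_width_one h (selfClosed_of_conj h hc) h1
    haveI : (Subgroup.closure {g : G | ∃ a ∈ D, ∃ b ∈ D, g = a * b}).Normal := by
      refine ⟨fun k hk g => ?_⟩
      induction hk using Subgroup.closure_induction with
      | mem z hz =>
        obtain ⟨a, ha, b, hb, rfl⟩ := hz
        exact Subgroup.subset_closure ⟨_, hc g a ha, _, hc g b hb, by group⟩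
      | one => simp
      | mul z w _ _ hz hw =>
        rw [show g * (z * w) * g⁻¹ = (g * z * g⁻¹) * (g * w * g⁻¹) by group]; exact mul_mem hz hw
      | inv z _ hz => rw [show g * z⁻¹ * g⁻¹ = (g * z * g⁻¹)⁻¹ by group]; exact inv_mem hz
    rw [SetLike.mem_coe, show x = d * (d * x) by rw [mul_cancel h hd]]
    exact mul_mem (Subgroup.mem_sup_left (Subgroup.mem_zpowers d))
      (Subgroup.mem_sup_right (CfsgLib.Solv.le_pCore hprod (Subgroup.subset_closure ⟨d, hd, x, hx, rfl⟩)))
  · intro htop a ha b hb k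
    have hmem : ∀ x ∈ D, d * x ∈ pCore 3 G := by
      intro x hx
      have h1 : x ∈ ((Subgroup.zpowers d ⊔ pCore 3 G : Subgroup G) : Set G) := by rw [htop]; trivial
      rw [Subgroup.mul_normal] at h1
      obtain ⟨p, hp, q, hq, rfl⟩ := Set.mem_mul.1 h1
      obtain ⟨i, rfl⟩ := Subgroup.mem_zpowers_iff.1 hp
      rcases Int.even_or_odd i with ⟨j, rfl⟩ | ⟨j, rfl⟩
      · exfalso
        rw [← two_mul, zpow_mul, zpow_ofNat, pow_two, mul_self h hd, one_zpow, one_mul] at hx
        obtain ⟨i, hi⟩ := CfsgLib.Solv.pCore_isPGroup (G := G) (p := 3) ⟨q, hq⟩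
        exact ne_one h hx (eq_one_of_coprime_pow (Nat.Coprime.pow_right i (by norm_num : Nat.Coprime 2 3))
          (by rw [pow_two]; exact mul_self h hx) (congrArg Subtype.val hi))
      · rw [zpow_add, zpow_mul, zpow_ofNat, pow_two, mul_self h hd, one_zpow, one_mul, zpow_one,
          mul_cancel h hd]
        exact hq
    have hab : a * b ∈ pCore 3 G := by
      have := mul_mem (inv_mem (hmem a ha)) (hmem b hb)
      rwa [mul_inv_rev, inv_eq h hd, inv_eq h ha, mul_assoc, mul_cancel h hd] at this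
    obtain ⟨i, hi⟩ := CfsgLib.Solv.pCore_isPGroup (G := G) (p := 3) ⟨_, hab⟩
    have := eq_one_of_coprime_pow (Nat.Coprime.pow_right i (by norm_num : Nat.Coprime 2 3))
      (by rw [pow_two]; exact sq_pair h ha hb k) (congrArg Subtype.val hi)
    rw [← inv_eq h hb]; exact eq_inv_of_mul_eq_one_left this

end CfsgLib.Fischer
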