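import Cfsg.Agent.Spor.Fischer.Classes
import Cfsg.Agent.Spor.Fischer.Local
import Cfsg.Agent.Inv.Component
import Cfsg.Agent.S5347
import Cfsg.Prelude.Def_CaseTheorems
import Mathlib

/-!
The structure of a group generated by a class of 3-transpositions: the trichotomy, the layer,
primitivity and connectedness of the commuting graph.
-/

set_option autoImplicit false
set_option linter.unusedSectionVars false

namespace CfsgLib.Fischer

open Cfsg

universe u

variable {G : Type u} [Group G] [Finite G] {D : Set G}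

theorem eq_of_commute_product (h : IsThreeTranspositionSet D) {a b : G} (hb : b ∈ D)
    (k : a * b = 1) : a = b := by
  rw [← inv_eq h hb]; exact eq_inv_of_mul_eq_one_left k

/-- a class whose commuting members are equal up to 3-group: solubility bound on commutators -/
theorem commutator_le_center_of_forall (hD : IsThreeTranspositionClass D) {N : Subgroup G} [N.Normal]
    {d : G} (hd : d ∈ D) (hN : ∀ n ∈ N, Commute d n) : N ≤ Subgroup.center G := by
  intro n hn
  rw [Subgroup.mem_center_iff]
  intro g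
  have hall : ∀ e ∈ D, Commute e n := by
    intro e he
    obtain ⟨u, rfl⟩ := class_transitive hD d hd e he
    have := (commute_conj_iff u).2 (hN _ (Subgroup.Normal.conj_mem' inferInstance n hn u))
    simpa [mul_assoc] using this
  have hg : g ∈ Subgroup.closure D := hD.2.2 ▸ Subgroup.mem_top g
  have : Commute g n := by
    induction hg using Subgroup.closure_induction with
    | mem y hy => exact hall y hy
    | one => exact Commute.one_left n
    | mul y z _ _ hy hz => exact hy.mul_left hz
    | inv y _ hy => exact hy.inv_left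
  exact this.eq

/-- distinct members with one commuting set -/
theorem exists_twin_two (hD : IsThreeTranspositionClass D) (hD2 : ∃ a ∈ D, ∃ b ∈ D, a ≠ b)
    (h : ¬ pCore 2 G ≤ Subgroup.center G) {d : G} (hd : d ∈ D) :
    ∃ v ∈ D, v ≠ d ∧ (∀ e ∈ D, Commute v e ↔ Commute d e) ∧ d⁻¹ * v ∈ pCore 2 G := by
  haveI := CfsgLib.Solv.pCore_normal (G := G) (p := 2)
  obtain ⟨n, hn, hdn⟩ : ∃ n ∈ pCore 2 G, ¬ Commute d n := by
    by_contra hcon
    push Not at hcon
    exact h (commutator_le_center_of_forall hD hd hcon)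
  have hne : n * d * n⁻¹ ≠ d := fun k => hdn (mul_inv_eq_iff_eq_mul.1 k).symm
  obtain ⟨e1, e2⟩ := two_classes hD hD2 hd
  have hmem : n * d * n⁻¹ ∈ {v : G | ∃ g ∈ pCore 2 G, v = g * d * g⁻¹} := ⟨n, hn, rfl⟩
  have hmem2 := hmem
  rw [← e2] at hmem
  rw [← e2, e1] at hmem2
  exact ⟨_, hmem.1, hne, hmem.2, hmem2.2⟩

/-- distinct members with one punctured commuting set -/
theorem exists_twin_three (hD : IsThreeTranspositionClass D)
    (h : ¬ pCore 3 G ≤ Subgroup.center G) {d : G} (hd : d ∈ D) :
    ∃ w ∈ D, w ≠ d ∧ SamePunct D d w ∧ d⁻¹ * w ∈ pCore 3 G := by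
  haveI := CfsgLib.Solv.pCore_normal (G := G) (p := 3)
  obtain ⟨n, hn, hdn⟩ : ∃ n ∈ pCore 3 G, ¬ Commute d n := by
    by_contra hcon
    push Not at hcon
    exact h (commutator_le_center_of_forall hD hd hcon)
  have hne : n * d * n⁻¹ ≠ d := fun k => hdn (mul_inv_eq_iff_eq_mul.1 k).symm
  obtain ⟨e1, e2⟩ := three_classes hD hd
  have hmem : n * d * n⁻¹ ∈ {v : G | ∃ g ∈ pCore 3 G, v = g * d * g⁻¹} := ⟨n, hn, rfl⟩
  have hmem2 := hmem
  rw [← e2] at hmem
  rw [← e2, e1] at hmem2
  exact ⟨_, hmem.1, hne, hmem.2, hmem2.2⟩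

theorem not_both (hD : IsThreeTranspositionClass D) (hD2 : ∃ a ∈ D, ∃ b ∈ D, a ≠ b) :
    pCore 2 G ≤ Subgroup.center G ∨ pCore 3 G ≤ Subgroup.center G := by
  by_contra hcon
  rw [not_or] at hcon
  obtain ⟨d, hd, -⟩ := hD.2.1
  obtain ⟨v, hv, hvd, hsv, -⟩ := exists_twin_two hD hD2 hcon.1 hd
  obtain ⟨w, hw, hwd, hsw, -⟩ := exists_twin_three hD hcon.2 hd
  have hdv : Commute d v := ((hsv v hv).1 (Commute.refl v))
  have h1 : v ∈ {y : G | y ∈ D ∧ y ≠ d ∧ Commute d y} := ⟨hv, hvd, hdv⟩
  rw [show {y : G | y ∈ D ∧ y ≠ d ∧ Commute d y} = _ from hsw] at h1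
  exact samePunct_nc hw (Ne.symm hwd) hsw ((hsv w hw).1 h1.2.2.symm)

theorem not_isSolvable_top (hD : IsThreeTranspositionClass D) {L : Subgroup G} (hL : IsQuasisimple L) :
    ¬ Group.IsSolvable L := CfsgLib.Inv.quasisimple_not_solvable hL

/-- every member normalises every component -/
theorem component_normal (hD : IsThreeTranspositionClass D) {K : Subgroup G} (hK : IsComponent K) :
    K.Normal := by
  have h := hD.1
  have hc := class_conj_closed hD
  have hfix : ∀ d ∈ D, ∀ k ∈ K, d * k * d⁻¹ ∈ K := by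
    intro d hd
    by_contra hcon
    push Not at hcon
    obtain ⟨k0, hk0, hk0'⟩ := hcon
    set K' := K.map (MulAut.conj d).toMonoidHom
    have hne : K ≠ K' := fun e => hk0' (by rw [e]; exact ⟨k0, hk0, rfl⟩)
    have hK' : IsComponent K' := CfsgLib.Inv.isComponent_conj hK d
    have hcomm : ∀ a ∈ K, ∀ b ∈ K', a * b = b * a := fun a ha b hb =>
      (Subgroup.mem_centralizer_iff.1 ((Subgroup.commutator_eq_bot_iff_le_centralizer.1
        (CfsgLib.Inv.components_commute hK hK' hne)) ha) b hb).symm
    have key : ∀ k : K, k ^ 2 ∈ Subgroup.center K ∨ k ^ 3 ∈ Subgroup.center K := by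
      intro k
      have hk' : d * (k : G) * d⁻¹ ∈ K' := ⟨k, k.2, rfl⟩
      have hprod : d * ((k : G) * d * (k : G)⁻¹) = (d * k * d⁻¹) * (k : G)⁻¹ := by rw [inv_eq h hd]; group
      have hcen : ∀ n : ℕ, (d * ((k : G) * d * (k : G)⁻¹)) ^ n = 1 → k ^ n ∈ Subgroup.center K := by
        intro n hn
        rw [hprod, (show Commute (d * (k : G) * d⁻¹) (k : G)⁻¹ from (hcomm _ k.2 _ hk').symm |> fun e =>
          Commute.inv_right e).mul_pow, inv_pow, mul_inv_eq_one] at hn
        have hmem : (k : G) ^ n ∈ K' := hn ▸ pow_mem hk' n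
        exact Subgroup.mem_center_iff.2 fun g => Subtype.ext (hcomm g g.2 _ hmem)
      rcases h.2 d hd _ (hc k d hd) with k2 | k3
      · exact Or.inl (hcen 2 k2)
      · exact Or.inr (hcen 3 k3)
    apply CfsgLib.Inv.component_not_solvable hK
    have hq : Group.IsSolvable (⊤ : Subgroup (K ⧸ Subgroup.center K)) :=
      isSolvable_of_orders_two_three _ fun f _ => by
        obtain ⟨k, rfl⟩ := QuotientGroup.mk_surjective f
        rcases key k with k2 | k3
        · exact Or.inl (by rw [← QuotientGroup.mk_pow]; exact (QuotientGroup.eq_one_iff _).2 k2)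
        · exact Or.inr (by rw [← QuotientGroup.mk_pow]; exact (QuotientGroup.eq_one_iff _).2 k3)
    haveI := hq
    haveI : Group.IsSolvable (K ⧸ Subgroup.center K) :=
      Group.isSolvable_of_surjective (f := (Subgroup.topEquiv (G := K ⧸ Subgroup.center K)).toMonoidHom)
        Subgroup.topEquiv.surjective
    haveI : Group.IsSolvable (Subgroup.center K) :=
      Group.isSolvable_of_comm fun a b => Subtype.ext (Subgroup.mem_center_iff.1 b.2 (a : K))
    exact Group.isSolvable_of_ker_le_range (Subgroup.center K).subtype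
      (QuotientGroup.mk' (Subgroup.center K)) (by rw [QuotientGroup.ker_mk', Subgroup.range_subtype])
  refine ⟨fun n hn g => ?_⟩
  have hg : g ∈ Subgroup.closure D := hD.2.2 ▸ Subgroup.mem_top g
  revert n
  induction hg using Subgroup.closure_induction_right with
  | one => simp
  | mul_right s _ x hx ih =>
    intro n hn
    rw [show s * x * n * (s * x)⁻¹ = s * (x * n * x⁻¹) * s⁻¹ by group]
    exact ih _ (hfix x hx n hn)
  | mul_inv_cancel s _ x hx ih =>
    intro n hn
    rw [inv_eq h hx, show s * x * n * (s * x)⁻¹ = s * (x * n * x⁻¹) * s⁻¹ by group]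
    exact ih _ (hfix x hx n hn)

/-- the products of two members of one orbit fill the component -/
theorem component_le_orbit_products (hD : IsThreeTranspositionClass D) {K : Subgroup G}
    (hK : IsComponent K) {d : G} (hd : d ∈ D) :
    K ≤ Subgroup.closure {g : G | ∃ a ∈ {x | ∃ k ∈ K, x = k * d * k⁻¹},
      ∃ b ∈ {x | ∃ k ∈ K, x = k * d * k⁻¹}, g = a * b} := by
  have h := hD.1
  have hc := class_conj_closed hD
  haveI hKn := component_normal hD hK
  set O := {x | ∃ k ∈ K, x = k * d * k⁻¹}
  have hO3 : IsThreeTranspositionSet O := three_mono h (by rintro _ ⟨k, -, rfl⟩; exact hc k d hd)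
  have hnsol := CfsgLib.Inv.component_not_solvable hK
  set M := Subgroup.closure {g : G | ∃ a ∈ O, ∃ b ∈ O, g = a * b}
  have hMK : M ≤ K := by
    rw [Subgroup.closure_le]
    rintro _ ⟨_, ⟨k, hk, rfl⟩, _, ⟨l, hl, rfl⟩, rfl⟩
    have e : k * d * k⁻¹ * (l * d * l⁻¹) = k * (d * (k⁻¹ * l) * d⁻¹) * l⁻¹ := by
      rw [inv_eq h hd]; group
    rw [SetLike.mem_coe, e]
    exact mul_mem (mul_mem hk (hKn.conj_mem _ (mul_mem (inv_mem hk) hl) d)) (inv_mem hl)
  haveI : (M.subgroupOf K).Normal := by
    refine ⟨fun z hz g => ?_⟩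
    obtain ⟨z, hzK⟩ := z
    show (g : G) * z * (g : G)⁻¹ ∈ M
    have hz' : z ∈ M := hz
    clear hz hzK
    induction hz' using Subgroup.closure_induction with
    | mem y hy =>
      obtain ⟨_, ⟨k, hk, rfl⟩, _, ⟨l, hl, rfl⟩, rfl⟩ := hy
      exact Subgroup.subset_closure ⟨_, ⟨g * k, mul_mem g.2 hk, rfl⟩, _, ⟨g * l, mul_mem g.2 hl, rfl⟩,
        by group⟩
    | one => simp
    | mul y w _ _ hy hw =>
      rw [show (g : G) * (y * w) * (g : G)⁻¹ = ((g : G) * y * (g : G)⁻¹) * (g * w * (g : G)⁻¹) by group]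
      exact mul_mem hy hw
    | inv y _ hy =>
      rw [show (g : G) * y⁻¹ * (g : G)⁻¹ = ((g : G) * y * (g : G)⁻¹)⁻¹ by group]; exact inv_mem hy
  rcases CfsgLib.Inv.quasisimple_normal hK.2 (M.subgroupOf K) with hz | ht
  · exfalso
    -- then `d` centralises the component
    have hdd : d ∈ O := ⟨1, one_mem _, by group⟩
    have hdk : ∀ k : K, (d * (k : G) * d⁻¹ * (k : G)⁻¹) ∈ M := fun k => by
      rw [show d * (k : G) * d⁻¹ * (k : G)⁻¹ = d * ((k : G) * d⁻¹ * (k : G)⁻¹) by group, inv_eq h hd]
      exact Subgroup.subset_closure ⟨d, hdd, _, ⟨k, k.2, rfl⟩, rfl⟩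
    let f : K →* Subgroup.center K := MonoidHom.mk'
      (fun k => ⟨⟨d * (k : G) * d⁻¹ * (k : G)⁻¹, hMK (hdk k)⟩, hz (hdk k)⟩)
      fun k l => by
        refine Subtype.ext (Subtype.ext ?_)
        have e := congrArg Subtype.val
          (Subgroup.mem_center_iff.1 (hz (x := ⟨_, hMK (hdk l)⟩) (hdk l)) k⁻¹)
        simp only [Subgroup.coe_mul, Subgroup.coe_inv] at e ⊢
        calc d * ((k : G) * l) * d⁻¹ * ((k : G) * l)⁻¹
            = (d * k * d⁻¹) * ((d * l * d⁻¹ * (l : G)⁻¹) * (k : G)⁻¹) := by group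
          _ = (d * k * d⁻¹ * (k : G)⁻¹) * (d * l * d⁻¹ * (l : G)⁻¹) := by rw [← e]; group
    haveI : IsMulCommutative (Subgroup.center K) := ⟨⟨fun a b => Subtype.ext (Subgroup.mem_center_iff.1 b.2 (a : K))⟩⟩
    have hf : f = 1 := by
      have hle : commutator K ≤ f.ker := by
        rw [commutator_def, Subgroup.commutator_le]
        intro a _ b _
        rw [MonoidHom.mem_ker, map_commutatorElement]
        exact commutatorElement_eq_one_iff_mul_comm.2 (mul_comm' _ _)
      rw [hK.2.1.commutator_eq_top, top_le_iff] at hle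
      exact MonoidHom.ker_eq_top_iff.1 hle
    apply hnsol
    haveI := hKn
    have hzG : K ≤ Subgroup.center G := commutator_le_center_of_forall hD hd fun n hn => by
      have h1 : d * n * d⁻¹ * n⁻¹ = 1 := by
        have := congrArg (fun x : Subgroup.center K => ((x : K) : G))
          (DFunLike.congr_fun hf (⟨n, hn⟩ : K))
        simpa [f] using this
      rw [mul_inv_eq_one, mul_inv_eq_iff_eq_mul] at h1
      exact h1
    exact Group.isSolvable_of_comm fun a b => Subtype.ext (Subgroup.mem_center_iff.1 (hzG b.2) a)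
  · exact Subgroup.subgroupOf_eq_top.1 ht

/-- the orbit of a member under a component has a commuting and a noncommuting pair through it -/
theorem orbit_pairs (hD : IsThreeTranspositionClass D) {K : Subgroup G}
    (hK : IsComponent K) {d : G} (hd : d ∈ D) :
    (∃ k ∈ K, ¬ Commute d (k * d * k⁻¹)) ∧ ∃ l ∈ K, l * d * l⁻¹ ≠ d ∧ Commute d (l * d * l⁻¹) := by
  have h := hD.1
  have hc := class_conj_closed hD
  haveI hKn := component_normal hD hK
  set O := {x | ∃ k ∈ K, x = k * d * k⁻¹}
  have hO3 : IsThreeTranspositionSet O := three_mono h (by rintro _ ⟨k, -, rfl⟩; exact hc k d hd)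
  have hnsol := CfsgLib.Inv.component_not_solvable hK
  set M := Subgroup.closure {g : G | ∃ a ∈ O, ∃ b ∈ O, g = a * b}
  have hMK : M ≤ K := by
    rw [Subgroup.closure_le]
    rintro _ ⟨_, ⟨k, hk, rfl⟩, _, ⟨l, hl, rfl⟩, rfl⟩
    have e : k * d * k⁻¹ * (l * d * l⁻¹) = k * (d * (k⁻¹ * l) * d⁻¹) * l⁻¹ := by
      rw [inv_eq h hd]; group
    rw [SetLike.mem_coe, e]
    exact mul_mem (mul_mem hk (hKn.conj_mem _ (mul_mem (inv_mem hk) hl) d)) (inv_mem hl)
  have hfull : K ≤ M := component_le_orbit_products hD hK hd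
  constructor
  · by_contra hcon
    push Not at hcon
    have hall : ∀ a ∈ O, ∀ b ∈ O, Commute a b := by
      rintro _ ⟨k, hk, rfl⟩ _ ⟨l, hl, rfl⟩
      have := (commute_conj_iff k).2 (hcon _ (mul_mem (inv_mem hk) hl))
      rwa [show k * (k⁻¹ * l * d * (k⁻¹ * l)⁻¹) * k⁻¹ = l * d * l⁻¹ by group] at this
    apply hnsol
    have hOle : M ≤ Subgroup.closure O := by
      rw [Subgroup.closure_le]
      rintro _ ⟨a, ha, b, hb, rfl⟩
      exact mul_mem (Subgroup.subset_closure ha) (Subgroup.subset_closure hb)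
    haveI := Subgroup.isMulCommutative_closure (k := O) fun a ha b hb => hall a ha b hb
    exact Group.isSolvable_of_comm fun a b => Subtype.ext (by
      have h1 := mul_comm' (⟨a, hOle (hfull a.2)⟩ : Subgroup.closure O) ⟨b, hOle (hfull b.2)⟩
      have h2 : (a : G) * b = b * a := congrArg (fun x : Subgroup.closure O => (x : G)) h1
      exact h2)
  · by_contra hcon
    push Not at hcon
    apply hnsol
    have hw1 : ∀ a ∈ O, ∀ b ∈ O, Commute a b → a = b := by
      rintro _ ⟨k, hk, rfl⟩ _ ⟨l, hl, rfl⟩ hkl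
      by_contra hne
      refine hcon _ (mul_mem (inv_mem hk) hl) (fun e => hne ?_) ?_
      · have e' := congrArg (fun x => k * x * k⁻¹) e
        simp only [mul_inv_rev, inv_inv] at e'
        rw [← e']; group
      · have := (commute_conj_iff k⁻¹).2 hkl
        simpa [mul_assoc] using this
    have hself : SelfClosed O := by
      rintro _ ⟨k, hk, rfl⟩ _ ⟨l, hl, rfl⟩
      refine ⟨k * (d * (k⁻¹ * l) * d⁻¹), mul_mem hk (hKn.conj_mem _ (mul_mem (inv_mem hk) hl) d), ?_⟩
      rw [inv_eq h hd]; group
      simp only [zpow_neg, zpow_one, inv_eq h hd]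
    haveI : Fact (Nat.Prime 3) := ⟨Nat.prime_three⟩
    haveI := ((three_group_of_width_one hO3 hself hw1).to_le hfull).isNilpotent
    infer_instance

/-- a component forces central small cores -/
theorem cores_central_of_component (hD : IsThreeTranspositionClass D) (hD2 : ∃ a ∈ D, ∃ b ∈ D, a ≠ b)
    {K : Subgroup G} (hK : IsComponent K) :
    pCore 2 G ≤ Subgroup.center G ∧ pCore 3 G ≤ Subgroup.center G := by
  have h := hD.1
  have hc := class_conj_closed hD
  obtain ⟨d, hd, -⟩ := hD.2.1
  obtain ⟨⟨k, hk, hnc⟩, ⟨l, hl, hle, hlc⟩⟩ := orbit_pairs hD hK hd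
  have hcomm : ∀ (p : ℕ), p.Prime → ∀ a ∈ K, ∀ v ∈ pCore p G, Commute a v := by
    intro p hp a ha v hv
    haveI := Fact.mk hp
    haveI := CfsgLib.Solv.pCore_normal (G := G) (p := p)
    haveI := (CfsgLib.Solv.pCore_isPGroup G p).isNilpotent
    have := Subgroup.commutator_eq_bot_iff_le_centralizer.1
      (CfsgLib.Inv.component_commute_solvable hK (inferInstance : (pCore p G).Normal).isSubnormal inferInstance)
    exact (Subgroup.mem_centralizer_iff.1 (this ha) v hv).symm
  constructor
  · by_contra hcon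
    obtain ⟨d', hd', hne, hs, hmem⟩ := exists_twin_two hD hD2 hcon hd
    set v := d⁻¹ * d'
    set e := k * d * k⁻¹ with he
    have hd'v : d' = d * v := by simp only [v]; group
    have hdd' : Commute d d' := (hs d' hd').1 (Commute.refl d')
    have hdv : Commute d v := (Commute.refl d).inv_right.mul_right hdd'
    have hev : Commute e v := by
      have := (commute_conj_iff k).2 hdv
      rwa [show k * v * k⁻¹ = v by rw [(hcomm 2 Nat.prime_two k hk v hmem).eq, mul_inv_cancel_right]] at this
    have hne' : ¬ Commute d' e := fun c => hnc ((hs e (hc k d hd)).1 c)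
    have h3 : (d' * e) ^ 3 = 1 := pow_three_of_nc h hd' (hc k d hd) hne'
    rw [show d' * e = v * (d * e) by rw [hd'v, hdv.eq, mul_assoc],
      (hdv.symm.mul_right hev.symm).mul_pow, pow_three_of_nc h hd (hc k d hd) hnc, mul_one] at h3
    have h2 : v ^ 2 = 1 := by
      rw [pow_two]; simp only [v, inv_eq h hd]
      exact sq_pair h hd hd' hdd'
    apply hne
    have hv1 : v = 1 := by
      calc v = v ^ 3 * (v ^ 2)⁻¹ := by group
        _ = 1 := by rw [h3, h2, inv_one, one_mul]
    rw [hd'v, hv1, mul_one]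
  · by_contra hcon
    obtain ⟨w, hw, hne, hs, hmem⟩ := exists_twin_three hD hcon hd
    set v := d⁻¹ * w
    set u := l * d * l⁻¹
    have hu : u ∈ {y : G | y ∈ D ∧ y ≠ d ∧ Commute d y} := ⟨hc l d hd, hle, hlc⟩
    rw [show {y : G | y ∈ D ∧ y ≠ d ∧ Commute d y} = _ from hs] at hu
    have huv : Commute u v := hlc.symm.inv_right.mul_right hu.2.2.symm
    have hdv : Commute d v := by
      have e : l⁻¹ * v * l⁻¹⁻¹ = v := by
        rw [((hcomm 3 Nat.prime_three l hl v hmem).inv_left).eq]; group
      have := (commute_conj_iff l⁻¹).2 huv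
      rw [e] at this
      simpa [u, mul_assoc] using this
    refine samePunct_nc hw (Ne.symm hne) hs ?_
    have := (Commute.refl d).mul_right hdv
    rwa [show d * v = w by simp only [v]; group] at this

theorem component_unique (hD : IsThreeTranspositionClass D) {K L : Subgroup G} (hK : IsComponent K)
    (hL : IsComponent L) : K = L := by
  by_contra hne
  have h := hD.1
  have hc := class_conj_closed hD
  haveI := component_normal hD hK
  haveI := component_normal hD hL
  obtain ⟨d, hd, -⟩ := hD.2.1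
  obtain ⟨⟨k, hk, hnc⟩, -⟩ := orbit_pairs hD hK hd
  obtain ⟨-, ⟨l, hl, hle, hlc⟩⟩ := orbit_pairs hD hL hd
  set e := k * d * k⁻¹ with he
  set f := l * d * l⁻¹ with hf
  have hxK : d * e ∈ K := by
    rw [he, show d * (k * d * k⁻¹) = (d * k * d⁻¹) * k⁻¹ by rw [inv_eq h hd]; group]
    exact mul_mem ((inferInstance : K.Normal).conj_mem k hk d) (inv_mem hk)
  have hyL : d * f ∈ L := by
    rw [hf, show d * (l * d * l⁻¹) = (d * l * d⁻¹) * l⁻¹ by rw [inv_eq h hd]; group]
    exact mul_mem ((inferInstance : L.Normal).conj_mem l hl d) (inv_mem hl)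
  have hKL : ∀ a ∈ K, ∀ b ∈ L, Commute a b := fun a ha b hb =>
    (Subgroup.mem_centralizer_iff.1 ((Subgroup.commutator_eq_bot_iff_le_centralizer.1
      (CfsgLib.Inv.components_commute hK hL hne)) ha) b hb).symm
  have hy2 : (d * f) ^ 2 = 1 := by
    rw [pow_two]; exact sq_pair h hd (hc l d hd) hlc
  have hprod : d * (k * l * d * (k * l)⁻¹) = (d * e) * (d * f) := by
    calc d * (k * l * d * (k * l)⁻¹) = d * k * (l * d * l⁻¹) * k⁻¹ := by group
      _ = d * k * (d * (d * f)) * k⁻¹ := by rw [mul_cancel h hd]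
      _ = d * k * d * (d * f * k⁻¹) := by group
      _ = d * k * d * (k⁻¹ * (d * f)) := by rw [((hKL k hk _ hyL).inv_left).eq]
      _ = _ := by rw [he]; group
  have hxy : Commute (d * e) (d * f) := hKL _ hxK _ hyL
  rcases h.2 d hd _ (hc (k * l) d hd) with k2 | k3
  · rw [hprod, hxy.mul_pow, hy2, mul_one] at k2
    apply hnc
    rw [pow_two, mul_eq_one_iff_eq_inv, mul_inv_rev, inv_eq h hd, inv_eq h (hc k d hd)] at k2
    exact k2
  · rw [hprod, hxy.mul_pow, pow_three_of_nc h hd (hc k d hd) hnc, one_mul] at k3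
    have hy1 : d * f = 1 := by
      calc d * f = (d * f) ^ 3 * ((d * f) ^ 2)⁻¹ := by group
        _ = 1 := by rw [k3, hy2, inv_one, one_mul]
    exact hle (eq_of_commute_product h (hc l d hd) hy1).symm

theorem pCore_large (hD : IsThreeTranspositionClass D) {p : ℕ} (hp : p.Prime) (hp3 : 3 < p) :
    pCore p G ≤ Subgroup.center G := by
  haveI := Fact.mk hp
  haveI := CfsgLib.Solv.pCore_normal (G := G) (p := p)
  obtain ⟨d, hd, -⟩ := hD.2.1
  exact commutator_le_center_of_forall hD hd (Cfsg.Agent.S5347.result (class_group hD) hp hp3 _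
    (CfsgLib.Solv.pCore_isPGroup G p) hd (by rw [Subgroup.normalizer_eq_top]; trivial))

theorem fitting_eq_center (hD : IsThreeTranspositionClass D) (h2 : pCore 2 G ≤ Subgroup.center G)
    (h3 : pCore 3 G ≤ Subgroup.center G) : fittingSubgroup G = Subgroup.center G := by
  refine le_antisymm ?_ CfsgLib.Solv.center_le_fittingSubgroup
  rw [CfsgLib.Solv.fittingSubgroup_eq_iSup_pCore]
  refine iSup_le fun q => ?_
  rcases lt_or_ge 3 (q : ℕ) with hq | hq
  · exact pCore_large hD q.2 hq
  · have := q.2.two_le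
    rcases (by omega : (q : ℕ) = 2 ∨ (q : ℕ) = 3) with e | e <;> rw [e] <;> assumption

theorem exists_component (hD : IsThreeTranspositionClass D) (hD2 : ∃ a ∈ D, ∃ b ∈ D, a ≠ b)
    (h2 : pCore 2 G ≤ Subgroup.center G) (h3 : pCore 3 G ≤ Subgroup.center G) :
    ∃ K : Subgroup G, IsComponent K := by
  by_contra hcon
  push Not at hcon
  have hF : generalizedFittingSubgroup G = Subgroup.center G := by
    rw [generalizedFittingSubgroup, CfsgLib.Inv.layer_eq_bot_iff.2 hcon, bot_sup_eq,
      fitting_eq_center hD h2 h3]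
  obtain ⟨a, ha, b, hb, hab⟩ := hD2
  obtain ⟨g, hg⟩ := class_transitive hD a ha b hb
  have hgc : g ∈ Subgroup.center G := by
    rw [← hF]
    refine CfsgLib.Inv.centralizer_genFitting_le fun x hx => ?_
    rw [hF] at hx
    exact (Subgroup.mem_center_iff.1 hx g).symm
  apply hab
  rw [← hg, ← Subgroup.mem_center_iff.1 hgc a]; group

theorem trichotomy (hD : IsThreeTranspositionClass D) (hD2 : ∃ a ∈ D, ∃ b ∈ D, a ≠ b) :
    (∀ p : ℕ, p.Prime → 3 < p → pCore p G ≤ Subgroup.center G) ∧
      ((¬ pCore 2 G ≤ Subgroup.center G ∧ pCore 3 G ≤ Subgroup.center G ∧ layer G = ⊥) ∨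
        (pCore 2 G ≤ Subgroup.center G ∧ ¬ pCore 3 G ≤ Subgroup.center G ∧ layer G = ⊥) ∨
        (pCore 2 G ≤ Subgroup.center G ∧ pCore 3 G ≤ Subgroup.center G ∧ layer G ≠ ⊥)) := by
  refine ⟨fun p hp hp3 => pCore_large hD hp hp3, ?_⟩
  by_cases hlay : layer G = ⊥
  · by_cases h2 : pCore 2 G ≤ Subgroup.center G
    · refine Or.inr (Or.inl ⟨h2, fun h3 => ?_, hlay⟩)
      obtain ⟨K, hK⟩ := exists_component hD hD2 h2 h3
      exact CfsgLib.Inv.layer_eq_bot_iff.1 hlay K hK
    · exact Or.inl ⟨h2, (not_both hD hD2).resolve_left h2, hlay⟩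
  · obtain ⟨K, hK⟩ : ∃ K : Subgroup G, IsComponent K := by
      by_contra hcon
      push Not at hcon
      exact hlay (CfsgLib.Inv.layer_eq_bot_iff.2 hcon)
    exact Or.inr (Or.inr ⟨(cores_central_of_component hD hD2 hK).1,
      (cores_central_of_component hD hD2 hK).2, hlay⟩)

/-- commuting members are equal modulo the component -/
theorem mem_of_commute (hD : IsThreeTranspositionClass D) {L : Subgroup G} (hL : IsComponent L)
    {a b : G} (ha : a ∈ D) (hb : b ∈ D) (hab : Commute a b) : a * b ∈ L := by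
  have h := hD.1
  have hc := class_conj_closed hD
  haveI := component_normal hD hL
  by_contra hno
  set R := fun x y : G => x⁻¹ * y ∈ L
  have hR : Part D R := by
    refine ⟨fun x => by simp [R], fun x y k => ?_, fun x y w k k' => ?_, fun g x y k => ?_⟩
    · simpa [R] using inv_mem k
    · simpa [R, mul_assoc] using mul_mem k k'
    · have := (inferInstance : L.Normal).conj_mem _ k g
      simpa [R, mul_assoc] using this
  have hxy : ¬ R a b := by simpa [R, inv_eq h ha] using hno
  have hall : ∀ u ∈ D, R a u → ∀ w ∈ D, R b w → Commute u w := by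
    intro u hu hxu w hw hyw
    by_contra hnc'
    apply hxy
    have e1 : a * b * a = b := (commute_iff_conj h ha b).1 hab
    have a1 : R (a * w * a) w := by
      have := hR.conj a b w hyw
      rw [inv_eq h ha, e1] at this
      exact hR.trans _ _ _ (hR.symm _ _ this) hyw
    have a2 : R (u * w * u) w := hR.trans _ _ _ (hR.symm _ _ (hR.action h ha hu hw hxu)) a1
    rw [braid h hu hw hnc'] at a2
    have a3 := hR.conj w _ _ a2
    rw [inv_eq h hw] at a3
    simp only [mul_assoc, mul_cancel h hw, mul_self h hw, mul_one, one_mul] at a3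
    exact hR.trans _ _ _ hxu (hR.trans _ _ _ a3 (hR.symm _ _ hyw))
  have hblock : ∀ x ∈ D, ∀ k ∈ L, R x (k * x * k⁻¹) := fun x _ k hk => by
    show x⁻¹ * (k * x * k⁻¹) ∈ L
    rw [show x⁻¹ * (k * x * k⁻¹) = (x⁻¹ * k * x⁻¹⁻¹) * k⁻¹ by group]
    exact mul_mem ((inferInstance : L.Normal).conj_mem k hk x⁻¹) (inv_mem hk)
  apply CfsgLib.Inv.component_not_solvable hL
  -- `b` centralises the component
  have hzG : L ≤ Subgroup.center G := commutator_le_center_of_forall hD hb fun n hn => by
    have hn' := component_le_orbit_products hD hL ha hn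
    clear hn
    induction hn' using Subgroup.closure_induction with
    | mem y hy =>
      obtain ⟨_, ⟨k, hk, rfl⟩, _, ⟨l, hl, rfl⟩, rfl⟩ := hy
      exact (hall _ (hc k a ha) (hblock a ha k hk) b hb (hR.refl b)).symm.mul_right
        (hall _ (hc l a ha) (hblock a ha l hl) b hb (hR.refl b)).symm
    | one => exact Commute.one_right b
    | mul y z _ _ hy hz => exact hy.mul_right hz
    | inv y _ hy => exact hy.inv_right
  exact Group.isSolvable_of_comm fun x y => Subtype.ext (Subgroup.mem_center_iff.1 (hzG y.2) x)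

theorem genFitting_eq (hD : IsThreeTranspositionClass D) (h2 : pCore 2 G ≤ Subgroup.center G)
    (h3 : pCore 3 G ≤ Subgroup.center G) {L : Subgroup G} (hL : IsComponent L) :
    generalizedFittingSubgroup G = L ⊔ Subgroup.center G := by
  have : layer G = L := le_antisymm (sSup_le fun K hK => (component_unique hD hK hL).le)
    (CfsgLib.Inv.component_le_layer hL)
  rw [generalizedFittingSubgroup, this, fitting_eq_center hD h2 h3]

/-- modulo the component the image of the class has width one -/
theorem width_one_mod_component (hD : IsThreeTranspositionClass D) {L : Subgroup G} (hL : IsComponent L)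
    {a b : G} (ha : a ∈ D) (hb : b ∈ D) (hab : a * b * a⁻¹ * b⁻¹ ∈ L) : a⁻¹ * b ∈ L := by
  have h := hD.1
  rw [inv_eq h ha] at hab ⊢
  rw [inv_eq h hb] at hab
  by_cases hc : Commute a b
  · exact mem_of_commute hD hL ha hb hc
  · have e : a * b = (a * b) ^ 3 * ((a * b) ^ 2)⁻¹ := by group
    rw [e, pow_three_of_nc h ha hb hc, one_mul, pow_two]
    refine inv_mem ?_
    rwa [← mul_assoc]

theorem centralizer_component_le_center (hD : IsThreeTranspositionClass D)
    (h2 : pCore 2 G ≤ Subgroup.center G) (h3 : pCore 3 G ≤ Subgroup.center G) {L : Subgroup G}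
    [L.Normal] (hF : generalizedFittingSubgroup G = L ⊔ Subgroup.center G) :
    Subgroup.centralizer (L : Set G) ≤ Subgroup.center G := by
  set C := Subgroup.centralizer (L : Set G)
  have hcen : L ⊔ Subgroup.center G ≤ Subgroup.centralizer (C : Set G) :=
    sup_le (fun l hl => Subgroup.mem_centralizer_iff.2 fun c hc =>
      (Subgroup.mem_centralizer_iff.1 hc l hl).symm) (Subgroup.center_le_centralizer _)
  have hCF : C ≤ generalizedFittingSubgroup G := le_trans (fun c hc =>
    Subgroup.mem_centralizer_iff.2 fun x hx =>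
      (Subgroup.mem_centralizer_iff.1 (hcen (hF ▸ hx)) c hc).symm)
    CfsgLib.Inv.centralizer_genFitting_le
  haveI : IsMulCommutative C := ⟨⟨fun a b => Subtype.ext
    (Subgroup.mem_centralizer_iff.1 (hcen (hF ▸ hCF b.2)) a a.2)⟩⟩
  rw [← fitting_eq_center hD h2 h3]
  refine CfsgLib.Solv.le_fittingSubgroup ?_
  letI : CommGroup C := { (inferInstance : Group C) with mul_comm := mul_comm' }
  infer_instance

theorem commutator_le_of_index (L : Subgroup G) [L.Normal] (hi : L.index ≤ 2) : commutator G ≤ L := by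
  apply Subgroup.Normal.quotient_commutative_iff_commutator_le.1
  refine ⟨⟨fun a b => ?_⟩⟩
  have hcard : Nat.card (G ⧸ L) ≤ 2 := hi
  haveI := Fintype.ofFinite (G ⧸ L)
  by_cases ha : a = 1
  · simp [ha]
  by_cases hb : b = 1
  · simp [hb]
  by_cases hab : a = b
  · rw [hab]
  · exfalso
    classical
    have : ({1, a, b} : Finset (G ⧸ L)).card = 3 :=
      Finset.card_eq_three.2 ⟨1, a, b, Ne.symm ha, Ne.symm hb, hab, rfl⟩
    have h2 := Finset.card_le_univ ({1, a, b} : Finset (G ⧸ L))
    rw [Nat.card_eq_fintype_card] at hcard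
    omega

theorem primitive_of_index (hD : IsThreeTranspositionClass D) (hD2 : ∃ a ∈ D, ∃ b ∈ D, a ≠ b)
    (h2 : pCore 2 G ≤ Subgroup.center G) (h3 : pCore 3 G ≤ Subgroup.center G) (L : Subgroup G)
    [L.Normal] (hL : IsQuasisimple L)
    (hF : generalizedFittingSubgroup G = L ⊔ Subgroup.center G) (hi : L.index ≤ 2) :
    IsPrimitiveUnderConj D := by
  have h := hD.1
  refine primitive_of_part hD hD2 fun R hR a ha b hb hab hne => ?_
  set N := partKernel D R hR (class_conj_closed hD)
  haveI : N.Normal := partKernel_normal hR (class_conj_closed hD)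
  rcases CfsgLib.Inv.component_le_or_commute (K := L) ⟨(inferInstance : L.Normal).isSubnormal, hL⟩ N
    with hN | hN
  · exact (commutator_le_of_index L hi).trans hN
  exfalso
  rw [Subgroup.commutator_comm, Subgroup.commutator_eq_bot_iff_le_centralizer] at hN
  have hz := Subgroup.mem_center_iff.1 (centralizer_component_le_center hD h2 h3 hF
    (hN (mul_mem_partKernel hR h (class_conj_closed hD) ha hb hab)))
  have hcab : Commute a b := by
    refine (commute_iff_conj h ha b).2 ?_
    have := hz a
    rw [mul_cancel h ha] at this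
    exact this.symm
  obtain ⟨x, hx, hax⟩ := exists_nc_class hD hD2 ha
  exact hax ((commute_prod_two h ha hb hx hne hcab).1 (hz x)).1.symm

theorem index_le_two_of_coset (hD : IsThreeTranspositionClass D) (L : Subgroup G) [L.Normal] {d : G}
    (hd : d ∈ D) (hall : ∀ x ∈ D, d * x ∈ L) : L.index ≤ 2 := by
  have h := hD.1
  have hGL : ∀ g : G, g ∈ L ∨ d * g ∈ L := by
    intro g
    have hg : g ∈ Subgroup.closure D := hD.2.2 ▸ Subgroup.mem_top g
    have hstep : ∀ s, (s ∈ L ∨ d * s ∈ L) → ∀ x ∈ D, s * x ∈ L ∨ d * (s * x) ∈ L := by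
      intro s hs x hx
      rcases hs with hs | hs
      · refine Or.inr ?_
        have := (inferInstance : L.Normal).conj_mem s hs d
        rw [inv_eq h hd] at this
        rw [show d * (s * x) = (d * s * d) * (d * x) by simp only [mul_assoc, mul_cancel h hd]]
        exact mul_mem this (hall x hx)
      · refine Or.inl ?_
        rw [show s * x = d * (d * s) * d * (d * x) by simp only [mul_assoc, mul_cancel h hd]]
        have := (inferInstance : L.Normal).conj_mem (d * s) hs d
        rw [inv_eq h hd] at this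
        exact mul_mem this (hall x hx)
    induction hg using Subgroup.closure_induction_right with
    | one => exact Or.inl (one_mem L)
    | mul_right s _ x hx ih => exact hstep s ih x hx
    | mul_inv_cancel s _ x hx ih => rw [inv_eq h hx]; exact hstep s ih x hx
  have hsurj : Function.Surjective (fun i : Fin 2 => if i = 0 then (1 : G ⧸ L) else QuotientGroup.mk d) := by
    intro q
    obtain ⟨g, rfl⟩ := QuotientGroup.mk_surjective q
    rcases hGL g with hg | hg
    · exact ⟨0, by simpa using ((QuotientGroup.eq_one_iff g).2 hg).symm⟩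
    · refine ⟨1, ?_⟩
      simp only [Fin.one_eq_zero_iff, OfNat.ofNat_ne_one, ↓reduceIte]
      exact QuotientGroup.eq.2 (by rwa [inv_eq h hd])
  have h1 : Nat.card (G ⧸ L) ≤ Nat.card (Fin 2) := Nat.card_le_card_of_surjective _ hsurj
  rw [Nat.card_fin] at h1
  exact h1

theorem index_of_connected (hD : IsThreeTranspositionClass D) (L : Subgroup G) [L.Normal]
    (hL : IsQuasisimple L) (hconn : (commutingGraph D).Connected) : L.index ≤ 2 := by
  have h := hD.1
  obtain ⟨d, hd, -⟩ := hD.2.1
  refine index_le_two_of_coset hD L hd fun x hx => ?_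
  have hstep : ∀ u v : D, (commutingGraph D).Walk u v → (u : G) * v ∈ L := by
    intro u v p
    induction p with
    | nil => rw [mul_self h (Subtype.coe_prop _)]; exact one_mem L
    | @cons u w v huw p ih =>
      have hc : Commute (u : G) w := by
        rcases (SimpleGraph.fromRel_adj _ u w).1 huw with ⟨-, k | k⟩
        exacts [k, k.symm]
      have := mul_mem (mem_of_commute hD ⟨(inferInstance : L.Normal).isSubnormal, hL⟩ u.2 w.2 hc) ih
      rwa [mul_assoc, mul_cancel h w.2] at this
  obtain ⟨p⟩ := hconn.preconnected ⟨d, hd⟩ ⟨x, hx⟩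
  exact hstep _ _ p

theorem class_of_primitive (hD : IsThreeTranspositionGroup D) (hp : IsPrimitiveUnderConj D) :
    IsThreeTranspositionClass D := by
  obtain ⟨a, ha, -⟩ := hp.2.1
  refine ⟨hD.1, ⟨a, ha, Set.ext fun x => ⟨fun hx => ?_, fun hx => ?_⟩⟩, hD.2.2⟩
  · exact isConj_iff.2 (hp.1 a ha x hx)
  · obtain ⟨g, rfl⟩ := isConj_iff.1 (show IsConj a x from hx)
    exact hD.2.1 g a ha

theorem cores_central_of_primitive (hD : IsThreeTranspositionGroup D) (hp : IsPrimitiveUnderConj D)
    (hw : ∃ a ∈ D, ∃ b ∈ D, a ≠ b ∧ Commute a b) :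
    pCore 2 G ≤ Subgroup.center G ∧ pCore 3 G ≤ Subgroup.center G := by
  have hC := class_of_primitive hD hp
  obtain ⟨a, ha, b, hb, hne, hab⟩ := hw
  obtain ⟨x, hx, hax⟩ := exists_nc hD hp ha
  constructor
  · by_contra hcon
    obtain ⟨v, hv, hva, hs, -⟩ := exists_twin_two hC ⟨a, ha, b, hb, hne⟩ hcon ha
    exact hva (eq_of_same_commute hD.1 hD.2.1 hp ha hv hx hax fun e he => (hs e he).symm)
  · by_contra hcon
    obtain ⟨w, hw', hwa, hs, -⟩ := exists_twin_three hC hcon ha
    have hP := samePunct_part (D := D) hD.2.1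
    rcases class_trivial hp hD.2.1 (SamePunct D) (fun u _ => hP.refl u) hP.symm hP.trans hP.conj ha
      with h1 | h1
    · exact hwa (h1 w hw' hs)
    · exact samePunct_nc hb hne (h1 b hb) hab

theorem connected_of_primitive (hD : IsThreeTranspositionGroup D) (hp : IsPrimitiveUnderConj D)
    (hw : ∃ a ∈ D, ∃ b ∈ D, a ≠ b ∧ Commute a b) : (commutingGraph D).Connected := by
  have hc := hD.2.1
  set R := fun a b => a ∈ D ∧ b ∈ D ∧ Commute a b
  have hR : ∀ a b, R a b → R b a := fun a b k => ⟨k.2.1, k.1, k.2.2.symm⟩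
  obtain ⟨a, ha, b, hb, hne, hab⟩ := hw
  have hall : ∀ x ∈ D, Relation.ReflTransGen R a x := by
    rcases class_trivial hp hc (Relation.ReflTransGen R) (fun u _ => Relation.ReflTransGen.refl)
      (fun u v => rtg_symm hR) (fun u v w => Relation.ReflTransGen.trans)
      (fun g u v huv => huv.lift (fun x => g * x * g⁻¹) fun x y hxy =>
        ⟨hc g x hxy.1, hc g y hxy.2.1, (commute_conj_iff g).2 hxy.2.2⟩) ha with h1 | h1
    · exact absurd (h1 b hb (Relation.ReflTransGen.single ⟨ha, hb, hab⟩)).symm hne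
    · exact h1
  have hreach : ∀ x, Relation.ReflTransGen R a x → ∀ hx : x ∈ D,
      (commutingGraph D).Reachable ⟨a, ha⟩ ⟨x, hx⟩ := by
    intro x hx
    induction hx with
    | refl => exact fun _ => SimpleGraph.Reachable.refl _
    | @tail u v _ huv ih =>
      intro hv
      by_cases e : u = v
      · subst e; exact ih hv
      · exact (ih huv.1).trans (SimpleGraph.Adj.reachable ((SimpleGraph.fromRel_adj _ _ _).2
          ⟨fun k => e (congrArg Subtype.val k), Or.inl huv.2.2⟩))
  haveI : Nonempty D := ⟨⟨a, ha⟩⟩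
  exact ⟨fun u v => (hreach u (hall u u.2) u.2).symm.trans (hreach v (hall v v.2) v.2)⟩

theorem primitive_structure (hD : IsThreeTranspositionGroup D) (hp : IsPrimitiveUnderConj D)
    (hw : ∃ a ∈ D, ∃ b ∈ D, a ≠ b ∧ Commute a b) :
    ∃ L : Subgroup G, L.Normal ∧ IsQuasisimple L ∧ L.index ≤ 2 ∧
      generalizedFittingSubgroup G = L ⊔ Subgroup.center G := by
  have hC := class_of_primitive hD hp
  obtain ⟨h2, h3⟩ := cores_central_of_primitive hD hp hw
  obtain ⟨L, hL⟩ := exists_component hC hp.2.1 h2 h3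
  haveI := component_normal hC hL
  exact ⟨L, inferInstance, hL.2, index_of_connected hC L hL.2 (connected_of_primitive hD hp hw),
    genFitting_eq hC h2 h3 hL⟩

/-- a member not commuting with `d` and the members commuting with `d` generate everything -/
theorem closure_maximal (hD : IsThreeTranspositionGroup D) (hp : IsPrimitiveUnderConj D)
    (hw : ∃ a ∈ D, ∃ b ∈ D, a ≠ b ∧ Commute a b) {d x : G} (hd : d ∈ D) (hx : x ∈ D)
    (hdx : ¬ Commute d x) {H : Subgroup G} (hK : ∀ y ∈ D, Commute d y → y ∈ H) (hxH : x ∈ H) :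
    H = ⊤ := by
  classical
  have h := hD.1
  have hc := hD.2.1
  have hdH : d ∈ H := hK d hd (Commute.refl d)
  set A := {y | y ∈ D ∧ ¬ Commute d y}
  -- closed under commuting inside the members not commuting with `d`
  have hcl : ∀ a ∈ A, a ∈ H → ∀ b ∈ A, Commute a b → b ∈ H := by
    rintro a ⟨ha, hda⟩ haH b ⟨hb, hdb⟩ hab
    by_cases e : a = b
    · exact e ▸ haH
    obtain ⟨φ, -, fa, fd, fb⟩ := exists_hom_perm_four h ha hd hb e hab (fun k => hda k.symm) hdb
    set s := d * a * d
    have hsD : s ∈ D := conj_mem h hc hd ha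
    have hsH : s ∈ H := mul_mem (mul_mem hdH haH) hdH
    have hcom : Commute d (s * b * s) := by
      show Commute d (d * a * d * b * (d * a * d))
      rw [← fa, ← fd, ← fb]
      simp only [← map_mul]
      exact (show Commute (Equiv.swap (1 : Fin 4) 2) (Equiv.swap 1 2 * Equiv.swap 0 1 * Equiv.swap 1 2 *
        Equiv.swap 2 3 * (Equiv.swap 1 2 * Equiv.swap 0 1 * Equiv.swap 1 2)) by
        unfold Commute SemiconjBy; decide +kernel).map φ
    have := hK _ (conj_mem h hc hsD hb) hcom
    have h2 := mul_mem (mul_mem hsH this) hsH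
    simpa only [mul_assoc, mul_cancel h hsD, mul_self h hsD, mul_one] using h2
  have hall : ∀ y ∈ A, y ∈ H := by
    by_contra hcon
    push Not at hcon
    obtain ⟨y0, hy0, hy0H⟩ := hcon
    -- across the partition the common centralisers agree
    have hcross : ∀ a ∈ A, a ∈ H → ∀ b ∈ A, b ∉ H → common D d a = common D d b := by
      intro a haA haH b hbA hbH
      obtain ⟨ha, hda⟩ := haA
      obtain ⟨hb, hdb⟩ := hbA
      have hcard : (common D d a).ncard = (common D d b).ncard :=
        ncard_common_sim hc (sim_of_nc hD hp hw hd ha hb hda hdb)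
      refine (Set.eq_of_subset_of_ncard_le ?_ hcard.le).symm
      rintro g ⟨hg, hgd, hgb⟩
      by_contra hgn
      have hga : ¬ Commute g a := fun k => hgn ⟨hg, hgd, k⟩
      have hab : ¬ Commute a b := fun k => hbH (hcl a ⟨ha, hda⟩ haH b ⟨hb, hdb⟩ k)
      have hzD : a * b * a ∈ D := conj_mem h hc ha hb
      have hgH : g ∈ H := hK g hg hgd.symm
      apply hbH
      have hzH : a * b * a ∈ H := by
        by_cases hdz : Commute d (a * b * a)
        · exact hK _ hzD hdz
        have hgne : g ≠ b := fun e => hdb (e ▸ hgd).symm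
        obtain ⟨φ, -, fg, fa, fb⟩ := exists_hom_perm_four h hg ha hb hgne hgb hga hab
        have hwA : g * (a * b * a) * g ∈ A := by
          refine ⟨conj_mem h hc hg hzD, fun k => hdz ?_⟩
          rw [← invconj h hg] at k
          exact (commute_conj_fixed hgd).1 k
        have hcom : Commute a (g * (a * b * a) * g) := by
          rw [← fg, ← fa, ← fb]
          simp only [← map_mul]
          exact (show Commute (Equiv.swap (1 : Fin 4) 2) (Equiv.swap 0 1 *
            (Equiv.swap 1 2 * Equiv.swap 2 3 * Equiv.swap 1 2) * Equiv.swap 0 1) by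
            unfold Commute SemiconjBy; decide +kernel).map φ
        have h2 := mul_mem (mul_mem hgH (hcl a ⟨ha, hda⟩ haH _ hwA hcom)) hgH
        simpa only [mul_assoc, mul_cancel h hg, mul_self h hg, mul_one] using h2
      have h3 := mul_mem (mul_mem haH hzH) haH
      simpa only [mul_assoc, mul_cancel h ha, mul_self h ha, mul_one] using h3
    have hconst : ∀ u ∈ A, common D d u = common D d x := by
      intro u hu
      by_cases huH : u ∈ H
      · rw [hcross u hu huH y0 hy0 hy0H, ← hcross x ⟨hx, hdx⟩ hxH y0 hy0 hy0H]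
      · exact (hcross x ⟨hx, hdx⟩ hxH u hu huH).symm
    -- hence the other members commuting with `d` commute with all the rest
    have hfull : ∀ f ∈ D, Commute d f → f ≠ d → ∀ u ∈ A, Commute f u := by
      intro f hf hdf hfd u hu
      by_contra hfu
      apply hfd
      have hsub : {e | e ∈ D ∧ ¬ Commute d e} ⊆ {e | e ∈ D ∧ ¬ Commute f e} := by
        rintro e ⟨he, hde⟩
        refine ⟨he, fun k => hfu ?_⟩
        have : f ∈ common D d e := ⟨hf, hdf.symm, k⟩
        rw [hconst e ⟨he, hde⟩, ← hconst u hu] at this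
        exact this.2.2
      have hset := Set.eq_of_subset_of_ncard_le hsub (ncard_commuting_const hc hp hf hd).le
      refine eq_of_same_commute h hc hp hd hf hx hdx fun e he => ?_
      have := Set.ext_iff.1 hset e
      simp only [Set.mem_setOf_eq, he, true_and] at this
      exact not_iff_not.1 this
    obtain ⟨a, ha, b, hb, hne, hab⟩ := hw
    obtain ⟨g, hg⟩ := hp.1 a ha d hd
    set f := g * b * g⁻¹ with hf0
    have hdf : Commute d f := by rw [← hg]; exact (commute_conj_iff g).2 hab
    have hfd : f ≠ d := fun e => hne (by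
      rw [← hg, hf0] at e; exact (mul_left_cancel (mul_right_cancel e)).symm)
    have hcl2 : ∀ z, Relation.ReflTransGen (fun a b => a ∈ D ∧ b ∈ D ∧ ¬ Commute a b) d z →
        z = d ∨ ¬ Commute d z := by
      intro z hz
      induction hz with
      | refl => exact Or.inl rfl
      | @tail u v _ huv ih =>
        by_cases hv : v = d
        · exact Or.inl hv
        refine Or.inr fun hdv => ?_
        rcases ih with rfl | ih
        · exact huv.2.2 hdv
        · exact huv.2.2 (hfull v huv.2.1 hdv hv u ⟨huv.1, ih⟩).symm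
    rcases hcl2 f (nc_connected hc hp hd hdx hx f (hc g b hb)) with e | e
    · exact hfd e
    · exact e hdf
  rw [eq_top_iff, ← hD.2.2, Subgroup.closure_le]
  intro y hy
  by_cases hdy : Commute d y
  · exact hK y hy hdy
  · exact hall y ⟨hy, hdy⟩

end CfsgLib.Fischer
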