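import Cfsg.Agent.Spor.Fischer.Classes
import Cfsg.Agent.Perm.MinClass
import Mathlib

/-!
A class of 3-transpositions which is a 3-group extended by an involution modulo a normal 2-group:
some Sylow 3-subgroup is normalised by a given member.
-/

set_option autoImplicit false
set_option linter.unusedSectionVars false

namespace CfsgLib.Fischer

open Cfsg
open scoped Pointwise

universe u

variable {G : Type u} [Group G] [Finite G]

theorem closure_eq_bot_of_central {D : Set G} (hD : IsThreeTranspositionClass D) {d : G} (hd : d ∈ D)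
    (h : ∀ x ∈ D, Commute d x) : ∀ g : G, Commute d g := by
  intro g
  have hg : g ∈ Subgroup.closure D := hD.2.2 ▸ Subgroup.mem_top g
  induction hg using Subgroup.closure_induction with
  | mem y hy => exact h y hy
  | one => exact Commute.one_right d
  | mul y z _ _ hy hz => exact hy.mul_right hz
  | inv y _ hy => exact hy.inv_right

/-- a normal subgroup which is a 3-group over a normal 2-group `O` -/
structure ThreeOver (O K : Subgroup G) : Prop where
  two : IsPGroup 2 O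
  le : O ≤ K
  three : ∀ x ∈ K, ∃ j : ℕ, x ^ 3 ^ j ∈ O

theorem ThreeOver.dvd {O K : Subgroup G} [O.Normal] (h : ThreeOver O K) :
    ∃ m : ℕ, O.relIndex K = 3 ^ m := by
  haveI : (O.subgroupOf K).Normal := Subgroup.normal_subgroupOf
  haveI : Fact (Nat.Prime 3) := ⟨Nat.prime_three⟩
  have hp : IsPGroup 3 (K ⧸ O.subgroupOf K) := fun q => by
    obtain ⟨x, rfl⟩ := QuotientGroup.mk_surjective q
    obtain ⟨j, hj⟩ := h.three x x.2
    exact ⟨j, by rw [← QuotientGroup.mk_pow, QuotientGroup.eq_one_iff]; exact hj⟩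
  obtain ⟨m, hm⟩ := IsPGroup.iff_card.1 hp
  exact ⟨m, hm⟩

/-- a Sylow 3-subgroup lies in and fills the 3-part -/
theorem ThreeOver.sylow {O K : Subgroup G} [O.Normal] [K.Normal] (h : ThreeOver O K) {d : G}
    (hd : d * d = 1) (hgen : K ⊔ Subgroup.zpowers d = ⊤) (P : Sylow 3 G) :
    (P : Subgroup G) ≤ K ∧ K ≤ (P : Subgroup G) ⊔ O := by
  haveI : Fact (Nat.Prime 3) := ⟨Nat.prime_three⟩
  have hP : (P : Subgroup G) ≤ K := by
    intro x hx
    obtain ⟨j, hj⟩ := P.isPGroup' ⟨x, hx⟩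
    have hx3 : x ^ 3 ^ j = 1 := congrArg Subtype.val hj
    have hxm : x ∈ K ⊔ Subgroup.zpowers d := hgen ▸ Subgroup.mem_top x
    rw [Subgroup.mem_sup_of_normal_left] at hxm
    obtain ⟨k, hk, z, hz, rfl⟩ := hxm
    have hd2 : z ^ 2 = 1 := by
      obtain ⟨i, rfl⟩ := hz
      rw [← zpow_natCast, ← zpow_mul, mul_comm, zpow_mul, zpow_natCast, pow_two, hd, one_zpow]
    have hq2 : (QuotientGroup.mk (k * z) : G ⧸ K) ^ 2 = 1 := by
      rw [QuotientGroup.mk_mul, (QuotientGroup.eq_one_iff k).2 hk, one_mul, ← QuotientGroup.mk_pow, hd2]; rfl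
    have hq3 : (QuotientGroup.mk (k * z) : G ⧸ K) ^ 3 ^ j = 1 := by
      rw [← QuotientGroup.mk_pow, hx3]; rfl
    exact (QuotientGroup.eq_one_iff _).1 (eq_one_of_coprime_pow
      (Nat.Coprime.pow_right j (by norm_num)) hq2 hq3)
  refine ⟨hP, ?_⟩
  set J := (P : Subgroup G) ⊔ O
  obtain ⟨m, hm⟩ := h.dvd
  have h1 : J.relIndex K ∣ 3 ^ m := hm ▸ Subgroup.relIndex_dvd_of_le_left K le_sup_right
  have h2 : J.relIndex K ∣ (P : Subgroup G).index :=
    ((Subgroup.relIndex_dvd_of_le_left K le_sup_left).trans ⟨K.index, (Subgroup.relIndex_mul_index hP).symm⟩)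
  have hcop : Nat.Coprime (3 ^ m) (P : Subgroup G).index :=
    Nat.Coprime.pow_left m ((Nat.Prime.coprime_iff_not_dvd Nat.prime_three).2 P.not_dvd_index)
  exact Subgroup.relIndex_eq_one.1 (Nat.eq_one_of_dvd_coprimes hcop h1 h2)

theorem conj_sylow_le {M : Subgroup G} [M.Normal] (P P' : Sylow 3 G)
    (h : (P' : Subgroup G) ≤ (P : Subgroup G) ⊔ M) :
    ∃ n ∈ M, ∀ x, x ∈ P' ↔ n⁻¹ * x * n ∈ P := by
  haveI : Fact (Nat.Prime 3) := ⟨Nat.prime_three⟩
  obtain ⟨g, hg⟩ := MulAction.exists_smul_eq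
    ((P : Subgroup G) ⊔ M : Subgroup G) (P.subtype le_sup_left) (P'.subtype h)
  have hg' : (g : G) ∈ (P : Subgroup G) ⊔ M := g.2
  rw [Subgroup.mem_sup_of_normal_right] at hg'
  obtain ⟨p, hp, n, hn, hpn⟩ := hg'
  refine ⟨p * n * p⁻¹, (inferInstance : M.Normal).conj_mem n hn p, fun x => ?_⟩
  have hg'' : g • P.subtype (le_sup_left (b := M)) = P'.subtype h := hg
  rw [Sylow.smul_subtype] at hg''
  have hs : g • P = P' := Sylow.subtype_injective hg''
  have hs' : ((g : G) • P : Sylow 3 G) = P' := hs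
  rw [← hs']
  show x ∈ (((g : G) • P : Sylow 3 G) : Subgroup G) ↔ _
  rw [Sylow.coe_subgroup_smul, ← SetLike.mem_coe]
  rw [SetLike.mem_coe, Subgroup.mem_pointwise_smul_iff_inv_smul_mem, MulAut.smul_def,
    MulAut.inv_apply, MulAut.conj_symm_apply]
  rw [← hpn, show (p * n * p⁻¹)⁻¹ * x * (p * n * p⁻¹) = p * ((p * n)⁻¹ * x * (p * n)) * p⁻¹ by group]
  constructor
  · exact fun hx => mul_mem (mul_mem hp hx) (inv_mem hp)
  · intro hx
    have := mul_mem (mul_mem (inv_mem hp) hx) hp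
    simpa [mul_assoc] using this

/-- the step across a minimal normal elementary abelian 2-subgroup -/
theorem split_step {D : Set G} (hD : IsThreeTranspositionClass D) {d : G} (hd : d ∈ D)
    {O K M : Subgroup G} [O.Normal] [K.Normal] [hMn : M.Normal] (hOK : ThreeOver O K)
    (hgen : K ⊔ Subgroup.zpowers d = ⊤) (hdK : d ∉ K) (hMO : M ≤ O)
    (hMcen : ∀ o ∈ O, ∀ m ∈ M, Commute o m) (hM2 : ∀ m ∈ M, m * m = 1)
    (hmin : ∀ N : Subgroup G, N.Normal → N ≤ M → N = ⊥ ∨ N = M) (hMb : M ≠ ⊥)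
    {P : Sylow 3 G} (hP : ∀ x ∈ (P : Subgroup G) ⊔ M, d * x * d ∈ (P : Subgroup G) ⊔ M) :
    ∃ P' : Sylow 3 G, ∀ x ∈ P', d * x * d ∈ P' := by
  haveI : Fact (Nat.Prime 3) := ⟨Nat.prime_three⟩
  have h := hD.1
  have hdd := mul_self h hd
  have hdi := inv_eq h hd
  obtain ⟨hPK, hKP⟩ := hOK.sylow hdd hgen P
  have hMM : ∀ a ∈ M, ∀ b ∈ M, Commute a b := fun a ha b hb => hMcen a (hMO ha) b hb
  have hMi : ∀ m ∈ M, m⁻¹ = m := fun m hm => inv_eq_of_mul_eq_one_right (hM2 m hm)
  -- the conjugate Sylow subgroup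
  set P1 : Sylow 3 G := d • P
  have hP1mem : ∀ x, x ∈ P1 ↔ d * x * d ∈ P := by
    intro x
    show x ∈ ((d • P : Sylow 3 G) : Subgroup G) ↔ _
    rw [Sylow.coe_subgroup_smul, Subgroup.mem_pointwise_smul_iff_inv_smul_mem, MulAut.smul_def,
      MulAut.inv_apply, MulAut.conj_symm_apply, hdi]
    rfl
  obtain ⟨n, hn, hn'⟩ := conj_sylow_le (M := M) P P1 (fun x hx => by
    have := hP _ (Subgroup.mem_sup_left ((hP1mem x).1 hx))
    simpa only [mul_assoc, mul_cancel h hd, hdd, mul_one] using this)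
  set t := n * d
  have ht : ∀ x, x ∈ P → t * x * t⁻¹ ∈ P := by
    intro x hx
    have h1 : d * x * d ∈ P1 := (hP1mem _).2 (by
      simpa only [mul_assoc, mul_cancel h hd, hdd, mul_one] using hx)
    have h2 := (hn' _).1 h1
    rw [hMi n hn] at h2
    simpa [t, hdi, hMi n hn, mul_assoc] using h2
  have hact : ∀ m ∈ M, t * m * t⁻¹ = d * m * d := by
    intro m hm
    have hdm : d * m * d⁻¹ ∈ M := hMn.conj_mem m hm d
    rw [show t * m * t⁻¹ = n * (d * m * d⁻¹) * n⁻¹ by simp only [t]; group, (hMM n hn _ hdm).eq,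
      mul_inv_cancel_right, hdi]
  -- conjugation on `M`: everything is generated by `O`, `P` and `t`
  have hnormal : ∀ S : Subgroup G, S ≤ M → (∀ p ∈ P, ∀ m ∈ S, p * m * p⁻¹ ∈ S) →
      (∀ m ∈ S, t * m * t⁻¹ ∈ S) → S.Normal := by
    intro S hS hSP hSt
    refine ⟨fun m hm g => ?_⟩
    have hN : ⊤ ≤ Subgroup.normalizer (S : Set G) := by
      rw [← hgen]
      have hle : ∀ k : G, (∀ m ∈ S, k * m * k⁻¹ ∈ S) → k ∈ Subgroup.normalizer (S : Set G) := by
        intro k hk
        rw [Subgroup.mem_normalizer_iff]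
        have hinj : Function.Injective (fun m : S => (⟨k * m * k⁻¹, hk m m.2⟩ : S)) := fun a b e =>
          Subtype.ext (mul_left_cancel (mul_right_cancel (congrArg Subtype.val e)))
        refine fun m => ⟨hk m, fun hm => ?_⟩
        obtain ⟨⟨m', hm'⟩, e⟩ := (Finite.injective_iff_surjective.1 hinj) ⟨_, hm⟩
        have e' : k * m' * k⁻¹ = k * m * k⁻¹ := congrArg Subtype.val e
        exact mul_left_cancel (mul_right_cancel e') ▸ hm'
      refine sup_le (hKP.trans (sup_le (fun p hp => hle p (hSP p hp)) fun o ho => hle o fun m hm => ?_)) ?_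
      · rw [(hMcen o ho m (hS hm)).eq, mul_inv_cancel_right]; exact hm
      · rw [Subgroup.zpowers_le]
        refine hle d fun m hm => ?_
        rw [hdi, ← hact m (hS hm)]
        exact hSt m hm
    exact (Subgroup.mem_normalizer_iff.1 (hN (Subgroup.mem_top g)) m).1 hm
  -- the centraliser of `M`
  set C : Subgroup G := Subgroup.centralizer (M : Set G)
  haveI hCn : C.Normal := inferInstance
  have hC : ∀ c ∈ C, ∀ m ∈ M, c * m * c⁻¹ = m := fun c hc m hm => by
    rw [← Subgroup.mem_centralizer_iff.1 hc m hm, mul_inv_cancel_right]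
  have hconjC : ∀ a b : G, a⁻¹ * b ∈ C → ∀ m ∈ M, a * m * a⁻¹ = b * m * b⁻¹ := by
    intro a b hab m hm
    conv_rhs => rw [show b = a * (a⁻¹ * b) by group]
    rw [show a * (a⁻¹ * b) * m * (a * (a⁻¹ * b))⁻¹ = a * ((a⁻¹ * b) * m * (a⁻¹ * b)⁻¹) * a⁻¹ by group,
      hC _ hab m hm]
  set M0 : Subgroup G := M ⊓ Subgroup.centralizer ((P : Subgroup G) : Set G)
  have hM0n : M0.Normal := by
    refine hnormal M0 inf_le_left (fun p hp m hm => ?_) fun m hm => ⟨hMn.conj_mem m hm.1 t, ?_⟩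
    · rw [Subgroup.mem_centralizer_iff.1 hm.2 p hp, mul_inv_cancel_right]
      exact hm
    · refine Subgroup.mem_centralizer_iff.2 fun p hp => ?_
      have hinv : t⁻¹ * p * t ∈ P := by
        have hinj : Function.Injective (fun x : P => (⟨t * x * t⁻¹, ht x x.2⟩ : P)) := fun a b e =>
          Subtype.ext (mul_left_cancel (mul_right_cancel (congrArg Subtype.val e)))
        obtain ⟨⟨q, hq⟩, e⟩ := (Finite.injective_iff_surjective.1 hinj) ⟨p, hp⟩
        have e' : t * q * t⁻¹ = p := congrArg Subtype.val e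
        rw [← e']; simpa [mul_assoc] using hq
      have := congrArg (fun y => t * y * t⁻¹) (Subgroup.mem_centralizer_iff.1 hm.2 _ hinv)
      simpa [mul_assoc] using this
  rcases hmin M0 hM0n inf_le_left with h0 | h0
  swap
  · -- `P` centralises `M`
    refine ⟨P, fun x hx => ?_⟩
    have hcn : ∀ y ∈ P, Commute y n := fun y hy =>
      Subgroup.mem_centralizer_iff.1 ((h0.symm.le hn).2) y hy
    have h1 : t * x * t⁻¹ ∈ P := ht x hx
    have e : t * x * t⁻¹ = n * (d * x * d) * n := by simp [t, hdi, hMi n hn, mul_assoc]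
    rw [e] at h1
    have h2 : n * (n * (d * x * d) * n) * n⁻¹ ∈ P := by
      rw [← (hcn _ h1).eq, mul_inv_cancel_right]; exact h1
    simpa [mul_assoc, ← mul_assoc n n, hM2 n hn] using h2
  -- fixed point free
  have htt : d * n * d = n := by
    have hmem : t * t ∈ M := by
      rw [show t * t = n * (d * n * d) by simp only [t, mul_assoc]]
      exact mul_mem hn (by simpa [hdi] using hMn.conj_mem n hn d)
    have hc : t * t ∈ M0 := by
      refine ⟨hmem, Subgroup.mem_centralizer_iff.2 fun p hp => ?_⟩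
      have h1 : t * t * p * (t * t)⁻¹ ∈ P := by
        rw [show t * t * p * (t * t)⁻¹ = t * (t * p * t⁻¹) * t⁻¹ by group]; exact ht _ (ht p hp)
      have h2 : p⁻¹ * (t * t * p * (t * t)⁻¹) ∈ (P : Subgroup G) ⊓ M := by
        refine Subgroup.mem_inf.2 ⟨mul_mem (inv_mem (show p ∈ (P : Subgroup G) from hp)) h1, ?_⟩
        rw [show p⁻¹ * (t * t * p * (t * t)⁻¹) = (p⁻¹ * (t * t) * p⁻¹⁻¹) * (t * t)⁻¹ by group]
        exact mul_mem (hMn.conj_mem _ hmem _) (inv_mem hmem)
      have hbot : (P : Subgroup G) ⊓ M = ⊥ := by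
        rw [eq_bot_iff]
        intro y hy
        obtain ⟨j, hj⟩ := P.isPGroup' ⟨y, hy.1⟩
        exact Subgroup.mem_bot.2 (eq_one_of_coprime_pow (a := 2) (b := 3 ^ j) (Nat.Coprime.pow_right j (by norm_num))
          (by rw [pow_two]; exact hM2 y hy.2) (congrArg Subtype.val hj))
      rw [hbot, Subgroup.mem_bot, inv_mul_eq_one, eq_mul_inv_iff_mul_eq] at h2
      exact h2
    rw [h0, Subgroup.mem_bot] at hc
    rw [show t * t = n * (d * n * d) by simp only [t, mul_assoc]] at hc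
    rw [← inv_eq_of_mul_eq_one_right hc, hMi n hn]
  have hdn : d = n * t := by simp only [t]; rw [← mul_assoc, hM2 n hn, one_mul]
  have htn : t * n * t⁻¹ = n := by rw [hact n hn, htt]
  have htt1 : t * t = 1 := by
    rw [show t * t = n * (d * n * d) by simp only [t, mul_assoc], htt, hM2 n hn]
  have hti : t⁻¹ = t := inv_eq_of_mul_eq_one_right htt1
  -- it suffices to write `n` as a product
  suffices ∃ a ∈ M, n = a * (d * a * d) by
    obtain ⟨a, ha, e⟩ := this
    have hat : a * d * a⁻¹ = t := by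
      rw [hMi a ha]
      simp only [t, e, mul_assoc, hdd, mul_one]
    refine ⟨a⁻¹ • P, fun x hx => ?_⟩
    have key : ∀ y, y ∈ ((a⁻¹ • P : Sylow 3 G) : Subgroup G) ↔ a * y * a⁻¹ ∈ P := fun y => by
      rw [Sylow.coe_subgroup_smul, Subgroup.mem_pointwise_smul_iff_inv_smul_mem, MulAut.smul_def,
        MulAut.inv_apply, MulAut.conj_symm_apply, inv_inv]
      rfl
    refine (key _).2 ?_
    have := ht _ ((key x).1 hx)
    rw [← hat] at this
    rwa [show a * d * a⁻¹ * (a * x * a⁻¹) * (a * d * a⁻¹)⁻¹ = a * (d * x * d⁻¹) * a⁻¹ by group,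
      hdi] at this
  -- the centre of the action of `P`
  set W : Set G := {z | z ∈ P ∧ ∀ p ∈ P, z⁻¹ * p⁻¹ * z * p ∈ C}
  have hWcomm : ∀ z ∈ W, ∀ p ∈ P, ∀ m ∈ M,
      z * (p * m * p⁻¹) * z⁻¹ = p * (z * m * z⁻¹) * p⁻¹ := by
    intro z hz p hp m hm
    have := hconjC (p * z) (z * p) (by
      rw [show (p * z)⁻¹ * (z * p) = z⁻¹ * p⁻¹ * z * p by group]; exact hz.2 p hp) m hm
    rw [show z * (p * m * p⁻¹) * z⁻¹ = z * p * m * (z * p)⁻¹ by group,
      show p * (z * m * z⁻¹) * p⁻¹ = p * z * m * (p * z)⁻¹ by group, this]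
  obtain ⟨z, hzW, hzC⟩ : ∃ z ∈ W, z ∉ C := by
    haveI : ((C.subgroupOf (P : Subgroup G))).Normal := Subgroup.normal_subgroupOf
    have hq : IsPGroup 3 ((P : Subgroup G) ⧸ C.subgroupOf (P : Subgroup G)) :=
      P.isPGroup'.to_quotient _
    haveI : Nontrivial ((P : Subgroup G) ⧸ C.subgroupOf (P : Subgroup G)) := by
      rw [QuotientGroup.nontrivial_iff, Ne, Subgroup.subgroupOf_eq_top]
      intro hle
      have hnM0 : n ∈ M0 := ⟨hn, Subgroup.mem_centralizer_iff.2 fun p hp =>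
        (Subgroup.mem_centralizer_iff.1 (hle hp) n hn).symm⟩
      have hall : M ≤ M0 := fun m hm => ⟨hm, Subgroup.mem_centralizer_iff.2 fun p hp =>
        (Subgroup.mem_centralizer_iff.1 (hle hp) m hm).symm⟩
      rw [h0] at hall hnM0
      rw [Subgroup.mem_bot] at hnM0
      exact hMb (eq_bot_iff.2 hall)
    haveI := hq.center_nontrivial
    obtain ⟨⟨q, hq1⟩, hq2⟩ := exists_ne (1 : Subgroup.center ((P : Subgroup G) ⧸ C.subgroupOf (P : Subgroup G)))
    obtain ⟨⟨z, hz⟩, rfl⟩ := QuotientGroup.mk_surjective q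
    refine ⟨z, ⟨hz, fun p hp => ?_⟩, fun hc => hq2 (Subtype.ext ((QuotientGroup.eq_one_iff _).2 hc))⟩
    have h1 := Subgroup.mem_center_iff.1 hq1 (QuotientGroup.mk (⟨p, hp⟩ : (P : Subgroup G)))
    rw [← QuotientGroup.mk_mul, ← QuotientGroup.mk_mul, QuotientGroup.eq] at h1
    have h2 : (p * z)⁻¹ * (z * p) ∈ C := h1
    rwa [show (p * z)⁻¹ * (z * p) = z⁻¹ * p⁻¹ * z * p by group] at h2
  have hfree : ∀ z ∈ W, z ∉ C → (∀ m ∈ M, z * m * z⁻¹ = m → t * (z * m * z⁻¹) * t⁻¹ = z * (t * m * t⁻¹) * z⁻¹) →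
      ∀ m ∈ M, z * m * z⁻¹ = m → m = 1 := by
    intro z hz hzC htz m hm hfix
    let S : Subgroup G :=
      { carrier := {m | m ∈ M ∧ z * m * z⁻¹ = m}
        one_mem' := ⟨one_mem M, by group⟩
        mul_mem' := fun {a b} ha hb => ⟨mul_mem ha.1 hb.1, by
          rw [show z * (a * b) * z⁻¹ = (z * a * z⁻¹) * (z * b * z⁻¹) by group, ha.2, hb.2]⟩
        inv_mem' := fun {a} ha => ⟨inv_mem ha.1, by
          rw [show z * a⁻¹ * z⁻¹ = (z * a * z⁻¹)⁻¹ by group, ha.2]⟩ }
    have hS : S.Normal := hnormal S (fun a ha => ha.1)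
      (fun p hp a ha => ⟨hMn.conj_mem a ha.1 p, by rw [hWcomm z hz p hp a ha.1, ha.2]⟩)
      (fun a ha => ⟨hMn.conj_mem a ha.1 t, by rw [← htz a ha.1 ha.2, ha.2]⟩)
    rcases hmin S hS (fun a ha => ha.1) with e | e
    · have : m ∈ S := ⟨hm, hfix⟩
      rwa [e, Subgroup.mem_bot] at this
    · refine absurd (Subgroup.mem_centralizer_iff.2 fun a ha => ?_) hzC
      have := (e.symm.le ha : a ∈ S).2
      rw [mul_inv_eq_iff_eq_mul] at this
      exact this.symm
  -- commutator of `z` with `t`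
  set c := z⁻¹ * (t * z * t⁻¹) with hc
  have htcP : t * z * t⁻¹ ∈ P := ht z hzW.1
  have hcP : c ∈ P := mul_mem (inv_mem hzW.1) htcP
  have htW : ∀ y ∈ W, t * y * t⁻¹ ∈ W := by
    intro y hy
    refine ⟨ht y hy.1, fun p hp => ?_⟩
    have hq : t * p * t⁻¹ ∈ P := ht p hp
    have h1 := hy.2 _ hq
    have := hCn.conj_mem _ h1 t
    simpa [hti, mul_assoc, ← mul_assoc t t, htt1] using this
  have hWmul : ∀ a ∈ W, ∀ b ∈ W, a⁻¹ * b ∈ W := by
    intro a ha b hb
    refine ⟨mul_mem (inv_mem ha.1) hb.1, fun p hp => ?_⟩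
    -- modulo the centraliser both commute with `p`
    have h1 : (QuotientGroup.mk a : G ⧸ C) * QuotientGroup.mk p = QuotientGroup.mk p * QuotientGroup.mk a := by
      rw [← QuotientGroup.mk_mul, ← QuotientGroup.mk_mul]
      refine (QuotientGroup.eq.2 ?_).symm
      rw [show (p * a)⁻¹ * (a * p) = a⁻¹ * p⁻¹ * a * p by group]; exact ha.2 p hp
    have h2 : (QuotientGroup.mk b : G ⧸ C) * QuotientGroup.mk p = QuotientGroup.mk p * QuotientGroup.mk b := by
      rw [← QuotientGroup.mk_mul, ← QuotientGroup.mk_mul]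
      refine (QuotientGroup.eq.2 ?_).symm
      rw [show (p * b)⁻¹ * (b * p) = b⁻¹ * p⁻¹ * b * p by group]; exact hb.2 p hp
    have h3 := ((Commute.inv_left (show Commute (QuotientGroup.mk a : G ⧸ C) (QuotientGroup.mk p) from h1)).mul_left
      (show Commute (QuotientGroup.mk b : G ⧸ C) (QuotientGroup.mk p) from h2)).eq
    rw [← QuotientGroup.mk_inv, ← QuotientGroup.mk_mul, ← QuotientGroup.mk_mul, ← QuotientGroup.mk_mul,
      eq_comm, QuotientGroup.eq] at h3
    rw [show (a⁻¹ * b)⁻¹ * p⁻¹ * (a⁻¹ * b) * p = (p * (a⁻¹ * b))⁻¹ * (a⁻¹ * b * p) by group]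
    exact h3
  by_cases hcC : c ∈ C
  · -- an element commuting with `t`
    obtain ⟨j, hj⟩ := P.isPGroup' ⟨c, hcP⟩
    have hj' : c ^ 3 ^ j = 1 := congrArg Subtype.val hj
    obtain ⟨k, hk⟩ : ∃ k, 3 ^ j + 1 = 2 * k := by
      obtain ⟨k, hk⟩ := (Odd.pow (by decide : Odd 3) : Odd (3 ^ j)).add_one
      exact ⟨k, by omega⟩
    set r := c ^ k with hr
    have hr2 : r * r = c := by rw [hr, ← pow_add, ← two_mul, ← hk, pow_succ, hj', one_mul]
    have htc : t * c * t⁻¹ = c⁻¹ := by
      rw [hc, hti]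
      simp only [mul_inv_rev, inv_inv, hti, mul_assoc, mul_assoc, ← mul_assoc t t, htt1, one_mul, mul_one]
    have htr : t * r * t⁻¹ = r⁻¹ := by rw [hr, ← conj_pow, htc, inv_pow]
    set w := z * r with hw
    have hcP' : r ∈ P := pow_mem hcP k
    have hrC : r ∈ C := pow_mem hcC k
    have hwt : t * w * t⁻¹ = w := by
      rw [hw, show t * (z * r) * t⁻¹ = (t * z * t⁻¹) * (t * r * t⁻¹) by group, htr,
        show t * z * t⁻¹ = z * c by rw [hc]; group, ← hr2]
      group
    have hwW : w ∈ W := by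
      refine ⟨mul_mem hzW.1 hcP', fun p hp => ?_⟩
      have h1 : (QuotientGroup.mk w : G ⧸ C) = QuotientGroup.mk z := by
        rw [hw, QuotientGroup.mk_mul, (QuotientGroup.eq_one_iff r).2 hrC, mul_one]
      rw [← QuotientGroup.eq_one_iff]
      have h2 := (QuotientGroup.eq_one_iff _).2 (hzW.2 p hp)
      simp only [QuotientGroup.mk_mul, QuotientGroup.mk_inv] at h2 ⊢
      rw [h1]
      exact h2
    have hwC : w ∉ C := fun k => hzC (by simpa [hw] using mul_mem k (inv_mem hrC))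
    have hwfree := hfree w hwW hwC (fun m _ _ => by
      calc t * (w * m * w⁻¹) * t⁻¹ = (t * w * t⁻¹) * (t * m * t⁻¹) * (t * w * t⁻¹)⁻¹ := by group
        _ = _ := by rw [hwt])
    -- two members differing by an element of `M`
    set d' := w * d * w⁻¹ with hd'
    have hd'D : d' ∈ D := class_conj_closed hD w d hd
    set v := n * (w * n * w⁻¹) with hv
    have hvM : v ∈ M := mul_mem hn (hMn.conj_mem n hn w)
    have htw : t * w = w * t := by rw [← mul_inv_eq_iff_eq_mul]; exact hwt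
    have hprod : d * d' = v := by
      rw [hd', hdn, show n * t * (w * (n * t) * w⁻¹) = n * ((t * w) * n * (t * w⁻¹)) by group]
      rw [show t * w⁻¹ = w⁻¹ * t by
        rw [eq_inv_mul_iff_mul_eq, ← mul_assoc, ← htw, mul_inv_cancel_right], htw]
      rw [hv, show w * t * n * (w⁻¹ * t) = w * (t * n * t⁻¹) * (t * w⁻¹ * t) by group]
      rw [htn, show t * w⁻¹ * t = w⁻¹ by
        rw [show t * w⁻¹ = w⁻¹ * t by
          rw [eq_inv_mul_iff_mul_eq, ← mul_assoc, ← htw, mul_inv_cancel_right], mul_assoc, htt1, mul_one]]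
    have hcore : d * d' ∈ pCore 2 G := by
      haveI : Fact (Nat.Prime 2) := ⟨Nat.prime_two⟩
      have hle : M ≤ pCore 2 G :=
        le_sSup (show M ∈ {N : Subgroup G | N.Normal ∧ IsPGroup 2 N} from ⟨hMn, hOK.two.to_le hMO⟩)
      exact hle (hprod.symm ▸ hvM)
    by_cases hall : ∀ x ∈ D, Commute d x
    · refine ⟨1, one_mem M, ?_⟩
      have hdc := closure_eq_bot_of_central hD hd hall
      -- then `t` differs from `d` centrally
      have : d * z * d = z := (commute_iff_conj h hd z).1 (hdc z)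
      by_contra hne
      have hfix : w * n * w⁻¹ = n := by
        have h1 : d' = d := by rw [hd', ← (hdc w).eq, mul_inv_cancel_right]
        have h2 : v = 1 := by rw [← hprod, h1, hdd]
        rw [← inv_eq_of_mul_eq_one_right h2, hMi n hn]
      exact hne (by rw [hwfree n hn hfix]; simp [hdd])
    push Not at hall
    obtain ⟨e, he, hde⟩ := hall
    have hd'e : ¬ Commute d' e := fun k => hde
      (same_of_mem_pCore h hd'D hd he (by
        rw [show d' * d = (d * d')⁻¹ by rw [mul_inv_rev, inv_eq h hd, inv_eq h hd'D]]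
        exact inv_mem hcore) k.symm).symm
    set ρ := d * e with hρ
    have hρK : ρ ∈ K := by
      have hq : ∀ g : G, (QuotientGroup.mk g : G ⧸ K) = 1 ∨ (QuotientGroup.mk g : G ⧸ K) = QuotientGroup.mk d := by
        intro g
        have hg : g ∈ K ⊔ Subgroup.zpowers d := hgen ▸ Subgroup.mem_top g
        rw [Subgroup.mem_sup_of_normal_left] at hg
        obtain ⟨k, hk, y, ⟨i, rfl⟩, rfl⟩ := hg
        rw [QuotientGroup.mk_mul, (QuotientGroup.eq_one_iff k).2 hk, one_mul]
        rcases Int.even_or_odd i with ⟨l, rfl⟩ | ⟨l, rfl⟩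
        · left; simp only []; rw [← two_mul, zpow_mul, zpow_two, hdd, one_zpow]; rfl
        · right; simp only []; rw [zpow_add, zpow_mul, zpow_two, hdd, one_zpow, one_mul, zpow_one]
      have heK : (QuotientGroup.mk e : G ⧸ K) = QuotientGroup.mk d := by
        refine (hq e).resolve_left fun k => hdK ?_
        obtain ⟨g, hg⟩ := class_transitive hD e he d hd
        rw [← hg]
        exact (inferInstance : K.Normal).conj_mem e ((QuotientGroup.eq_one_iff e).1 k) g
      rw [← QuotientGroup.eq_one_iff, hρ, QuotientGroup.mk_mul, heK, ← QuotientGroup.mk_mul, hdd]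
      rfl
    set N := fun x : G => x * (ρ * x * ρ⁻¹) * (ρ * (ρ * x * ρ⁻¹) * ρ⁻¹) with hN
    have hρ3 : ρ ^ 3 = 1 := pow_three_of_nc h hd he hde
    have hNv : N v = 1 := by
      have h3 := pow_three_of_nc h hd'D he hd'e
      have e1 : d' * e = v * ρ := by
        have hdd' : Commute d d' := by
          rcases h.2 d hd d' hd'D with k | k
          · rw [pow_two, mul_eq_one_iff_eq_inv, mul_inv_rev, inv_eq h hd, inv_eq h hd'D] at k
            exact k
          · rw [hprod] at k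
            have h1 : v = 1 := by
              calc v = v ^ 3 * (v * v)⁻¹ := by group
                _ = 1 := by rw [k, hM2 v hvM, inv_one, one_mul]
            rw [h1] at hprod
            rw [show d = d' by rw [← inv_eq h hd'D]; exact eq_inv_of_mul_eq_one_left hprod]
        rw [← hprod, hρ, hdd'.eq, mul_assoc d', mul_cancel h hd]
      rw [e1] at h3
      calc N v = (v * ρ) ^ 3 * (ρ ^ 3)⁻¹ := by
            simp only [hN, pow_succ, pow_zero, one_mul, mul_inv_rev, mul_assoc, inv_mul_cancel_left, mul_inv_cancel_left]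
        _ = 1 := by rw [h3, hρ3, inv_one, one_mul]
    have hρw : ∀ m ∈ M, ρ * (w * m * w⁻¹) * ρ⁻¹ = w * (ρ * m * ρ⁻¹) * w⁻¹ := by
      intro m hm
      have hρ' : ρ ∈ (P : Subgroup G) ⊔ O := hKP hρK
      rw [Subgroup.mem_sup_of_normal_right] at hρ'
      obtain ⟨p, hp, o, ho, e⟩ := hρ'
      have key : ∀ y ∈ M, ρ * y * ρ⁻¹ = p * y * p⁻¹ := fun y hy => by
        rw [← e, show p * o * y * (p * o)⁻¹ = p * (o * y * o⁻¹) * p⁻¹ by group, (hMcen o ho y hy).eq,
          mul_inv_cancel_right]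
      rw [key _ (hMn.conj_mem m hm w), key m hm, hWcomm w hwW p hp m hm]
    have hN1 : N n = 1 := by
      have hmN : ∀ m ∈ M, N m ∈ M := fun m hm =>
        mul_mem (mul_mem hm (hMn.conj_mem m hm ρ)) (hMn.conj_mem _ (hMn.conj_mem m hm ρ) ρ)
      refine hwfree _ (hmN n hn) ?_
      have h1 : N v = N n * (w * N n * w⁻¹) := by
        have c1 := hMn.conj_mem n hn w
        have c2 := hMn.conj_mem n hn ρ
        have c3 := hMn.conj_mem _ c1 ρ
        simp only [hN, hv]
        rw [show ρ * (n * (w * n * w⁻¹)) * ρ⁻¹ = (ρ * n * ρ⁻¹) * (ρ * (w * n * w⁻¹) * ρ⁻¹) by group,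
          hρw n hn, show ρ * ((ρ * n * ρ⁻¹) * (w * (ρ * n * ρ⁻¹) * w⁻¹)) * ρ⁻¹ =
            (ρ * (ρ * n * ρ⁻¹) * ρ⁻¹) * (ρ * (w * (ρ * n * ρ⁻¹) * w⁻¹) * ρ⁻¹) by group, hρw _ c2]
        set a := ρ * n * ρ⁻¹
        set b := ρ * a * ρ⁻¹
        have cb : b ∈ M := hMn.conj_mem a c2 ρ
        calc n * (w * n * w⁻¹) * (a * (w * a * w⁻¹)) * (b * (w * b * w⁻¹))
            = n * (((w * n * w⁻¹) * a) * (w * a * w⁻¹) * b) * (w * b * w⁻¹) := by group
          _ = n * ((a * (w * n * w⁻¹)) * (w * a * w⁻¹) * b) * (w * b * w⁻¹) := by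
              rw [(hMM _ c1 a c2).eq]
          _ = n * a * (((w * n * w⁻¹) * (w * a * w⁻¹)) * b) * (w * b * w⁻¹) := by group
          _ = n * a * (b * ((w * n * w⁻¹) * (w * a * w⁻¹))) * (w * b * w⁻¹) := by
              rw [(hMM _ (mul_mem c1 (hMn.conj_mem a c2 w)) b cb).eq]
          _ = n * a * b * (w * (n * a * b) * w⁻¹) := by group
      rw [hNv] at h1
      rw [← inv_eq_of_mul_eq_one_right h1.symm, hMi _ (hmN n hn)]
    refine ⟨ρ * n * ρ⁻¹, hMn.conj_mem n hn ρ, ?_⟩
    have hdρ : d * ρ * d = ρ⁻¹ := by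
      rw [hρ, mul_inv_rev, inv_eq h he, hdi, mul_cancel h hd]
    have hdρ' : d * ρ⁻¹ * d = ρ := by
      rw [hρ, mul_inv_rev, inv_eq h he, hdi]; simp only [mul_assoc, hdd, mul_one]
    have e1 : d * (ρ * n * ρ⁻¹) * d = ρ * (ρ * n * ρ⁻¹) * ρ⁻¹ := by
      calc d * (ρ * n * ρ⁻¹) * d = (d * ρ * d) * (d * n * d) * (d * ρ⁻¹ * d) := by
            simp only [mul_assoc, mul_cancel h hd]
        _ = ρ⁻¹ * n * ρ := by rw [hdρ, hdρ', htt]
        _ = (ρ ^ 3)⁻¹ * (ρ * (ρ * n * ρ⁻¹) * ρ⁻¹) * ρ ^ 3 := by group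
        _ = _ := by rw [hρ3, inv_one, one_mul, mul_one]
    rw [e1]
    have h2 : n * ((ρ * n * ρ⁻¹) * (ρ * (ρ * n * ρ⁻¹) * ρ⁻¹)) = 1 := by
      rw [← mul_assoc]; exact hN1
    conv_lhs => rw [← hMi n hn]
    exact inv_eq_of_mul_eq_one_right h2
  · -- an element inverted by `t`
    have hcW : c ∈ W := hWmul z hzW _ (htW z hzW)
    have htc : t * c * t⁻¹ = c⁻¹ := by
      rw [hc, hti]
      simp only [mul_inv_rev, inv_inv, hti, mul_assoc, ← mul_assoc t t, htt1, one_mul, mul_one]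
    obtain ⟨j, hj⟩ := P.isPGroup' ⟨c, hcP⟩
    obtain ⟨i, hi, hi'⟩ : ∃ i, c ^ 3 ^ i ∉ C ∧ (c ^ 3 ^ i) ^ 3 ∈ C := by
      by_contra hcon
      push Not at hcon
      have : ∀ i, c ^ 3 ^ i ∉ C := by
        intro i
        induction i with
        | zero => simpa using hcC
        | succ i ih => rw [pow_succ, pow_mul]; exact hcon i ih
      exact this j (by rw [show c ^ 3 ^ j = 1 from congrArg Subtype.val hj]; exact one_mem C)
    set u := c ^ 3 ^ i with hu
    have htu : t * u * t⁻¹ = u⁻¹ := by rw [hu, ← conj_pow, htc, inv_pow]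
    have hWone : (1 : G) ∈ W := by simpa using hWmul c hcW c hcW
    have hWpow : ∀ l : ℕ, c ^ l ∈ W := by
      intro l
      induction l with
      | zero => simpa using hWone
      | succ l ih =>
        have hinv : (c ^ l)⁻¹ ∈ W := by simpa using hWmul _ ih 1 hWone
        rw [pow_succ]
        simpa using hWmul _ hinv c hcW
    have hufree := hfree u (hWpow _) hi (fun m hm hfix => by
      have h1 : u⁻¹ * (t * m * t⁻¹) * u = t * m * t⁻¹ := by
        calc u⁻¹ * (t * m * t⁻¹) * u = (t * u * t⁻¹) * (t * m * t⁻¹) * (t * u * t⁻¹)⁻¹ := by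
              rw [htu, inv_inv]
          _ = t * (u * m * u⁻¹) * t⁻¹ := by group
          _ = _ := by rw [hfix]
      rw [hfix]
      conv_rhs => rw [← h1]
      group)
    refine ⟨u * n * u⁻¹, hMn.conj_mem n hn u, ?_⟩
    have e1 : d * (u * n * u⁻¹) * d = u⁻¹ * n * u := by
      rw [← hact _ (hMn.conj_mem n hn u)]
      calc t * (u * n * u⁻¹) * t⁻¹ = (t * u * t⁻¹) * (t * n * t⁻¹) * (t * u * t⁻¹)⁻¹ := by group
        _ = _ := by rw [htu, htn, inv_inv]
    rw [e1]
    set a := u * n * u⁻¹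
    set b := u⁻¹ * n * u
    have ha : a ∈ M := hMn.conj_mem n hn u
    have hb : b ∈ M := by simpa [b] using hMn.conj_mem n hn u⁻¹
    have hua : u * a * u⁻¹ = b := by
      have := hC _ hi' b hb
      calc u * a * u⁻¹ = u ^ 3 * b * (u ^ 3)⁻¹ := by
            simp only [a, b, pow_succ, pow_zero, one_mul, mul_inv_rev, mul_assoc, inv_mul_cancel_left, mul_inv_cancel_left]
        _ = b := this
    have hub : u * b * u⁻¹ = n := by simp only [b]; group
    have hfix : u * (n * (a * b)) * u⁻¹ = n * (a * b) := by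
      calc u * (n * (a * b)) * u⁻¹ = a * ((u * a * u⁻¹) * (u * b * u⁻¹)) := by simp only [a]; group
        _ = a * (b * n) := by rw [hua, hub]
        _ = (a * b) * n := by group
        _ = _ := (hMM _ (mul_mem ha hb) n hn).eq
    have h2 := hufree _ (mul_mem hn (mul_mem ha hb)) hfix
    conv_lhs => rw [← hMi n hn]
    exact inv_eq_of_mul_eq_one_right h2

/-- a member normalising a Sylow 3-subgroup -/
theorem exists_sylow_normalized : ∀ (m : ℕ) (G : Type u) [Group G] [Finite G], Nat.card G ≤ m →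
    ∀ {D : Set G}, IsThreeTranspositionClass D → ∀ {d : G}, d ∈ D →
    ∀ (O K : Subgroup G) [O.Normal] [K.Normal], ThreeOver O K → K ⊔ Subgroup.zpowers d = ⊤ →
    ∃ P : Sylow 3 G, ∀ x ∈ P, d * x * d ∈ P := by
  intro m
  induction m with
  | zero => intro G _ _ hG; exact absurd hG (not_le.2 Nat.card_pos)
  | succ m ih =>
    intro G _ _ hG D hD d hd O K hOn hKn hOK hgen
    haveI : Fact (Nat.Prime 3) := ⟨Nat.prime_three⟩
    haveI : Fact (Nat.Prime 2) := ⟨Nat.prime_two⟩
    have h := hD.1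
    have hdd := mul_self h hd
    obtain ⟨P0⟩ := (inferInstance : Nonempty (Sylow 3 G))
    obtain ⟨hP0, hKP0⟩ := hOK.sylow hdd hgen P0
    by_cases hO : O = ⊥
    · subst hO
      refine ⟨P0, fun x hx => ?_⟩
      have e : (P0 : Subgroup G) = K := le_antisymm hP0 (by simpa using hKP0)
      have h1 : x ∈ K := e ▸ hx
      have h2 := hKn.conj_mem x h1 d
      rw [inv_eq h hd, ← e] at h2
      exact h2
    by_cases hdK : d ∈ K
    · -- everything is a 2-group
      refine ⟨P0, fun x hx => ?_⟩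
      have hKtop : K = ⊤ := by
        rw [← hgen, sup_eq_left.2 (Subgroup.zpowers_le.2 hdK)]
      have hDO : D ⊆ O := by
        intro y hy
        obtain ⟨j, hj⟩ := hOK.three y (hKtop ▸ Subgroup.mem_top y)
        have hy2 : y ^ 2 = 1 := by rw [pow_two]; exact mul_self h hy
        have : y ^ 3 ^ j = y := by
          obtain ⟨l, hl⟩ := (Odd.pow (by decide : Odd 3) : Odd (3 ^ j))
          rw [hl, pow_succ, pow_mul, hy2, one_pow, one_mul]
        rwa [this] at hj
      have hOtop : O = ⊤ := by rw [eq_top_iff, ← hD.2.2, Subgroup.closure_le]; exact hDO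
      have hx1 : x = 1 := by
        obtain ⟨a, ha⟩ := P0.isPGroup' ⟨x, hx⟩
        obtain ⟨b, hb⟩ := hOK.two ⟨x, hOtop ▸ Subgroup.mem_top x⟩
        exact eq_one_of_coprime_pow (Nat.Coprime.pow _ _ (by norm_num)) (congrArg Subtype.val hb)
          (congrArg Subtype.val ha)
      rw [hx1, mul_one, hdd]
      exact one_mem _
    -- a minimal normal subgroup inside `O`
    let S : Set (Subgroup G) := {N | N.Normal ∧ N ≤ O ∧ N ≠ ⊥}
    obtain ⟨M, ⟨hMn, hMO, hMb⟩, hminS⟩ := S.toFinite.exists_minimal ⟨O, hOn, le_rfl, hO⟩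
    haveI := hMn
    have hmin : ∀ N : Subgroup G, N.Normal → N ≤ M → N = ⊥ ∨ N = M := fun N hN hNM =>
      (em (N = ⊥)).imp_right fun hb => le_antisymm hNM (hminS ⟨hN, hNM.trans hMO, hb⟩ hNM)
    have hMcen : ∀ o ∈ O, ∀ y ∈ M, Commute o y := by
      haveI := hOK.two.isNilpotent
      set Z : Subgroup G := M ⊓ Subgroup.centralizer (O : Set G)
      haveI : (Subgroup.centralizer (O : Set G)).Normal := inferInstance
      rcases hmin Z inferInstance inf_le_left with e | e
      · exfalso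
        have hne : Nontrivial (M.subgroupOf O) := by
          rw [Subgroup.nontrivial_iff_ne_bot, Ne, Subgroup.subgroupOf_eq_bot, disjoint_iff]
          rw [inf_eq_left.2 hMO]; exact hMb
        have hint := CfsgLib.Perm.inf_center_ne_bot hOK.two (M.subgroupOf O)
          ((Subgroup.nontrivial_iff_ne_bot _).1 hne)
        obtain ⟨⟨y, hy⟩, ⟨hyM, hyZ⟩, hy1⟩ := (Subgroup.bot_or_exists_ne_one _).resolve_left hint
        have : y ∈ Z := ⟨hyM, Subgroup.mem_centralizer_iff.2 fun o ho =>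
          congrArg Subtype.val (Subgroup.mem_center_iff.1 hyZ ⟨o, ho⟩)⟩
        rw [e, Subgroup.mem_bot] at this
        exact hy1 (Subtype.ext this)
      · exact fun o ho y hy => Subgroup.mem_centralizer_iff.1 ((e.symm.le hy : y ∈ Z).2) o ho
    have hM2 : ∀ y ∈ M, y * y = 1 := by
      let T : Subgroup G :=
        { carrier := {y | y ∈ M ∧ y * y = 1}
          one_mem' := ⟨one_mem M, one_mul 1⟩
          mul_mem' := fun {a b} ha hb => ⟨mul_mem ha.1 hb.1, by
            rw [(hMcen b (hMO hb.1) a ha.1).mul_mul_mul_comm, ha.2, hb.2, one_mul]⟩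
          inv_mem' := fun {a} ha => ⟨inv_mem ha.1, by rw [← mul_inv_rev, ha.2, inv_one]⟩ }
      have hT : T.Normal := ⟨fun y hy g => ⟨hMn.conj_mem y hy.1 g, by
        rw [show g * y * g⁻¹ * (g * y * g⁻¹) = g * (y * y) * g⁻¹ by group, hy.2, mul_one, mul_inv_cancel]⟩⟩
      rcases hmin T hT (fun y hy => hy.1) with e | e
      · exfalso
        obtain ⟨y, hyM, hy1⟩ := (Subgroup.bot_or_exists_ne_one M).resolve_left hMb
        obtain ⟨j, hj⟩ := hOK.two.to_le hMO ⟨y, hyM⟩
        have hj' : y ^ 2 ^ j = 1 := congrArg Subtype.val hj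
        clear hj
        induction j generalizing y with
        | zero => exact hy1 (by simpa using hj')
        | succ j ihj =>
          by_cases hs : y * y = 1
          · have hmem : y ∈ T := ⟨hyM, hs⟩
            rw [e, Subgroup.mem_bot] at hmem
            exact hy1 hmem
          · exact ihj (y * y) (mul_mem hyM hyM) hs (by rwa [← pow_two, ← pow_mul, ← pow_succ'])
      · exact fun y hy => (e.symm.le hy : y ∈ T).2
    -- pass to the quotient
    have hdM : d ∉ M := fun k => hdK (hOK.le (hMO k))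
    let π := QuotientGroup.mk' M
    have hcard : Nat.card (G ⧸ M) ≤ m := by
      have h1 := Subgroup.card_eq_card_quotient_mul_card_subgroup M
      have h2 : 1 < Nat.card M := (Subgroup.one_lt_card_iff_ne_bot M).2 hMb
      have h3 : Nat.card (G ⧸ M) < Nat.card G := by
        rw [h1]; exact lt_mul_of_one_lt_right Nat.card_pos h2
      omega
    have hDq : IsThreeTranspositionClass (π '' D) := by
      refine ⟨⟨?_, ?_⟩, ⟨π d, ⟨d, hd, rfl⟩, ?_⟩, ?_⟩
      · rintro _ ⟨y, hy, rfl⟩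
        refine orderOf_eq_prime ?_ ?_
        · rw [← map_pow, pow_two, mul_self h hy, map_one]
        · intro e
          have hyM : y ∈ M := (QuotientGroup.eq_one_iff y).1 e
          obtain ⟨g, hg⟩ := class_transitive hD y hy d hd
          exact hdM (hg ▸ hMn.conj_mem y hyM g)
      · rintro _ ⟨y, hy, rfl⟩ _ ⟨y', hy', rfl⟩
        rcases h.2 y hy y' hy' with k | k
        · exact Or.inl (by rw [← map_mul, ← map_pow, k, map_one])
        · exact Or.inr (by rw [← map_mul, ← map_pow, k, map_one])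
      · ext q
        constructor
        · rintro ⟨y, hy, rfl⟩
          obtain ⟨g, rfl⟩ := class_transitive hD d hd y hy
          exact isConj_iff.2 ⟨π g, by simp⟩
        · intro hq
          obtain ⟨g, rfl⟩ := isConj_iff.1 (show IsConj (π d) q from hq)
          obtain ⟨g, rfl⟩ := QuotientGroup.mk'_surjective M g
          exact ⟨g * d * g⁻¹, class_conj_closed hD g d hd, by simp [π]⟩
      · rw [← MonoidHom.map_closure, hD.2.2, ← MonoidHom.range_eq_map, MonoidHom.range_eq_top]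
        exact QuotientGroup.mk'_surjective M
    haveI : (O.map π).Normal := hOn.map π (QuotientGroup.mk'_surjective M)
    haveI : (K.map π).Normal := hKn.map π (QuotientGroup.mk'_surjective M)
    have hOKq : ThreeOver (O.map π) (K.map π) := by
      refine ⟨hOK.two.map π, Subgroup.map_mono hOK.le, ?_⟩
      rintro _ ⟨x, hx, rfl⟩
      obtain ⟨j, hj⟩ := hOK.three x hx
      exact ⟨j, by rw [← map_pow]; exact ⟨_, hj, rfl⟩⟩
    obtain ⟨Q, hQ⟩ := ih (G ⧸ M) hcard hDq ⟨d, hd, rfl⟩ (O.map π) (K.map π) hOKq (by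
      rw [← MonoidHom.map_zpowers, ← Subgroup.map_sup, hgen, ← MonoidHom.range_eq_map, MonoidHom.range_eq_top]
      exact QuotientGroup.mk'_surjective M)
    obtain ⟨P, hPQ⟩ := Sylow.mapSurjective_surjective (QuotientGroup.mk'_surjective M) 3 Q
    have hsup : ((P : Subgroup G) ⊔ M) = (Q : Subgroup (G ⧸ M)).comap π := by
      have : (Q : Subgroup (G ⧸ M)) = (P : Subgroup G).map π := by rw [← hPQ]; rfl
      rw [this, Subgroup.comap_map_eq, QuotientGroup.ker_mk']
    refine split_step hD hd hOK hgen hdK hMO hMcen hM2 hmin hMb (P := P) fun x hx => ?_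
    rw [hsup, Subgroup.mem_comap] at hx ⊢
    rw [map_mul, map_mul]
    exact hQ _ hx

end CfsgLib.Fischer
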