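import Cfsg.Agent.Spor.Fischer.Structure
import Cfsg.Agent.Lie.Refl
import Cfsg.Prelude.Def_FischerSpaces
import Mathlib

/-!
Reflections of one norm over the field with three elements form a class of 3-transpositions.
-/

set_option autoImplicit false
set_option linter.unusedSectionVars false
set_option linter.unusedSimpArgs false

namespace CfsgLib.Fischer

open Cfsg CfsgLib.Lie

local notation "K" => ZMod 3

variable {n : ℕ} {Q : QuadraticForm K (Fin n → K)}

local notation "P" => QuadraticMap.polar (DFunLike.coe Q)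

theorem F3_cases : ∀ x : K, x = 0 ∨ x = 1 ∨ x = 2 := by decide +kernel

theorem three_zero : (3 : K) = 0 := by decide +kernel

theorem inv_self' : ∀ c : K, c⁻¹ = c := by decide +kernel

theorem norm_cases : ∀ a c : K, a ≠ 0 → c ≠ 0 → a = c ∨ a = -c := by decide +kernel

theorem neg_ne' : ∀ c : K, c ≠ 0 → -c ≠ c := by decide +kernel

theorem polar_self' (v : Fin n → K) : P v v = 2 * Q v := by
  rw [QuadraticMap.polar_self, two_smul, two_mul]

/-- an anisotropic vector orthogonal to given pairwise orthogonal anisotropic vectors -/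
theorem exists_aniso (hQ : (QuadraticMap.polarBilin Q).Nondegenerate) {k : ℕ} (e : Fin k → Fin n → K)
    (he : ∀ i, Q (e i) ≠ 0) (ho : ∀ i j, i ≠ j → P (e i) (e j) = 0) (hk : k < n) :
    ∃ x, Q x ≠ 0 ∧ ∀ i, P (e i) x = 0 := by
  classical
  let T : (Fin n → K) →ₗ[K] (Fin k → K) := LinearMap.pi fun i => QuadraticMap.polarBilin Q (e i)
  have hnker : T.ker ≠ ⊥ := by
    intro hb
    have := LinearMap.finrank_le_finrank_of_injective (LinearMap.ker_eq_bot.1 hb)
    simp at this
    omega
  obtain ⟨y, hy, hy0⟩ := (Submodule.ne_bot_iff _).1 hnker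
  have hy' : ∀ i, P (e i) y = 0 := fun i => congrFun (LinearMap.mem_ker.1 hy) i
  by_contra hcon
  push Not at hcon
  have hiso : ∀ x, (∀ i, P (e i) x = 0) → Q x = 0 := fun x hx => by
    by_contra h
    obtain ⟨i, hi⟩ := hcon x h
    exact hi (hx i)
  apply hy0
  refine hQ.1 y fun z => ?_
  show P y z = 0
  set c : Fin k → K := fun i => P (e i) z * (2 * Q (e i))⁻¹
  set z' := z - ∑ i, c i • e i with hz'
  have hp : ∀ x, P x z' = P x z - ∑ i, c i * P x (e i) := by
    intro x
    show QuadraticMap.polarBilin Q x z' = QuadraticMap.polarBilin Q x z - _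
    rw [hz', map_sub, map_sum]
    simp [QuadraticMap.polarBilin_apply_apply]
  have hz : ∀ i, P (e i) z' = 0 := by
    intro i
    rw [hp, Finset.sum_eq_single i, polar_self']
    · have h2 : (2 : K) * Q (e i) ≠ 0 := mul_ne_zero (by decide +kernel) (he i)
      simp only [c]
      rw [inv_mul_cancel_right₀ h2, sub_self]
    · intro j _ hji; rw [ho i j (Ne.symm hji), mul_zero]
    · intro h; exact absurd (Finset.mem_univ i) h
  have h1 : P y z' = 0 := by
    rw [QuadraticMap.polar, hiso (y + z') (fun i => by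
      rw [QuadraticMap.polar_add_right, hy' i, hz i, add_zero]), hiso y hy', hiso z' hz]
    simp
  rw [hp, Finset.sum_eq_zero (fun i _ => by rw [QuadraticMap.polar_comm (f := ⇑Q) y (e i), hy' i, mul_zero]),
    sub_zero] at h1
  exact h1

theorem map_add' (x y : Fin n → K) : Q (x + y) = Q x + Q y + P x y :=
  QuadraticMap.map_add (f := ⇑Q) x y

theorem map_smul' (a : K) (x : Fin n → K) : Q (a • x) = a * a * Q x := by
  rw [QuadraticMap.map_smul, smul_eq_mul]

/-- two anisotropic vectors orthogonal to given ones -/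
theorem exists_two_aniso (hQ : (QuadraticMap.polarBilin Q).Nondegenerate) {k : ℕ} (e : Fin k → Fin n → K)
    (he : ∀ i, Q (e i) ≠ 0) (ho : ∀ i j, i ≠ j → P (e i) (e j) = 0) (hk : k + 1 < n) :
    ∃ x y, Q x ≠ 0 ∧ Q y ≠ 0 ∧ P x y = 0 ∧ (∀ i, P (e i) x = 0) ∧ ∀ i, P (e i) y = 0 := by
  obtain ⟨x, hx, hxe⟩ := exists_aniso hQ e he ho (by omega)
  obtain ⟨y, hy, hye⟩ := exists_aniso hQ (Fin.cons x e : Fin (k + 1) → Fin n → K)
    (fun i => by refine Fin.cases ?_ ?_ i <;> simp [hx, he]) (fun i j hij => by
      induction i using Fin.cases with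
      | zero =>
        induction j using Fin.cases with
        | zero => exact absurd rfl hij
        | succ j => simpa [QuadraticMap.polar_comm (f := ⇑Q) x] using hxe j
      | succ i =>
        induction j using Fin.cases with
        | zero => simpa using hxe i
        | succ j => simpa using ho i j fun e => hij (congrArg Fin.succ e)) hk
  exact ⟨x, y, hx, hy, by simpa using hye 0, hxe, fun i => by simpa using hye i.succ⟩

/-- every non-zero value is taken orthogonally to given vectors -/
theorem exists_norm_perp (hQ : (QuadraticMap.polarBilin Q).Nondegenerate) {k : ℕ} (e : Fin k → Fin n → K)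
    (he : ∀ i, Q (e i) ≠ 0) (ho : ∀ i j, i ≠ j → P (e i) (e j) = 0) (hk : k + 1 < n) {c : K} (hc : c ≠ 0) :
    ∃ x, Q x = c ∧ ∀ i, P (e i) x = 0 := by
  obtain ⟨x, y, hx, hy, hxy, hxe, hye⟩ := exists_two_aniso hQ e he ho hk
  by_cases h1 : Q x = c
  · exact ⟨x, h1, hxe⟩
  by_cases h2 : Q y = c
  · exact ⟨y, h2, hye⟩
  refine ⟨x + y, ?_, fun i => by rw [QuadraticMap.polar_add_right, hxe i, hye i, add_zero]⟩
  rw [map_add', hxy, add_zero]
  revert hx hy h1 h2 hc
  generalize Q x = a
  generalize Q y = b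
  revert a b c
  decide +kernel

/-- an isotropic vector orthogonal to given vectors -/
theorem exists_iso_perp (hQ : (QuadraticMap.polarBilin Q).Nondegenerate) {k : ℕ} (e : Fin k → Fin n → K)
    (he : ∀ i, Q (e i) ≠ 0) (ho : ∀ i j, i ≠ j → P (e i) (e j) = 0) (hk : k + 2 < n) :
    ∃ x, x ≠ 0 ∧ Q x = 0 ∧ ∀ i, P (e i) x = 0 := by
  obtain ⟨x, y, hx, hy, hxy, hxe, hye⟩ := exists_two_aniso hQ e he ho (by omega)
  by_cases hne : Q y = -Q x
  · refine ⟨x + y, fun h0 => ?_, by rw [map_add', hxy, hne]; ring, fun i => by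
      rw [QuadraticMap.polar_add_right, hxe i, hye i, add_zero]⟩
    have : P x (x + y) = 0 := by rw [h0, QuadraticMap.polar_zero_right]
    rw [QuadraticMap.polar_add_right, hxy, add_zero, polar_self'] at this
    exact hx ((mul_eq_zero.1 this).resolve_left (by decide +kernel))
  obtain ⟨z, hz, hze⟩ := exists_norm_perp hQ (Fin.cons x e : Fin (k + 1) → Fin n → K)
    (fun i => by refine Fin.cases ?_ ?_ i <;> simp [hx, he]) (fun i j hij => by
      induction i using Fin.cases with
      | zero =>
        induction j using Fin.cases with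
        | zero => exact absurd rfl hij
        | succ j => simpa [QuadraticMap.polar_comm (f := ⇑Q) x] using hxe j
      | succ i =>
        induction j using Fin.cases with
        | zero => simpa using hxe i
        | succ j => simpa using ho i j fun e => hij (congrArg Fin.succ e)) hk (c := -Q x) (neg_ne_zero.2 hx)
  have hxz : P x z = 0 := by simpa using hze 0
  refine ⟨x + z, fun h0 => ?_, by rw [map_add', hxz, hz]; ring, fun i => by
    rw [QuadraticMap.polar_add_right, hxe i, show P (e i) z = 0 by simpa using hze i.succ, add_zero]⟩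
  have : P x (x + z) = 0 := by rw [h0, QuadraticMap.polar_zero_right]
  rw [QuadraticMap.polar_add_right, hxz, add_zero, polar_self'] at this
  exact hx ((mul_eq_zero.1 this).resolve_left (by decide +kernel))

/-- the reflection in a vector -/
noncomputable def rho (v : Fin n → K) (hv : Q v ≠ 0) : isometryGroup K ⇑Q := (Refl.refl_exists hv).choose

theorem act_rho {v : Fin n → K} (hv : Q v ≠ 0) (x : Fin n → K) :
    Refl.act Q (rho v hv) x = x - ((Q v)⁻¹ * P v x) • v := by
  rw [Refl.act, rho, (Refl.refl_exists hv).choose_spec, Quad.reflection_mulVec]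

theorem rho_self {v : Fin n → K} (hv : Q v ≠ 0) : Refl.act Q (rho v hv) v = -v := by
  rw [act_rho, polar_self', mul_comm (2 : K), ← mul_assoc, inv_mul_cancel₀ hv, one_mul, two_smul]
  abel

theorem rho_perp {v x : Fin n → K} (hv : Q v ≠ 0) (hx : P v x = 0) : Refl.act Q (rho v hv) x = x := by
  rw [act_rho, hx, mul_zero, zero_smul, sub_zero]

theorem mem_reflections {c : K} {g : isometryGroup K ⇑Q} (hc : c ≠ 0) :
    g ∈ reflectionsOfNorm (⇑Q) c ↔ ∃ v, ∃ hv : Q v = c, g = rho v (hv ▸ hc) := by
  constructor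
  · rintro ⟨v, hv, e⟩
    exact ⟨v, hv, Subtype.ext (Units.ext (e.trans (Refl.refl_exists (hv ▸ hc : Q v ≠ 0)).choose_spec.symm))⟩
  · rintro ⟨v, hv, rfl⟩
    exact ⟨v, hv, (Refl.refl_exists (hv ▸ hc : Q v ≠ 0)).choose_spec⟩

theorem rho_conj {v : Fin n → K} (hv : Q v ≠ 0) (g : isometryGroup K ⇑Q) :
    g * rho v hv * g⁻¹ = rho (Refl.act Q g v) (by rw [Refl.act_Q]; exact hv) := by
  refine Refl.act_ext fun x => ?_
  obtain ⟨y, rfl⟩ : ∃ y, Refl.act Q g y = x :=
    ⟨Refl.act Q g⁻¹ x, by rw [← Refl.act_mul, mul_inv_cancel, Refl.act_one]⟩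
  rw [Refl.act_mul, Refl.act_inv, Refl.act_mul, act_rho, act_rho, Refl.act_polar, Refl.act_Q]
  simp only [Refl.act, Matrix.mulVec_sub, Matrix.mulVec_smul]

theorem rho_congr {u v : Fin n → K} (hu : Q u ≠ 0) (hv : Q v ≠ 0) (h : v = u ∨ v = -u) :
    rho v hv = rho u hu := by
  refine Refl.act_ext fun x => ?_
  rw [act_rho, act_rho]
  rcases h with rfl | rfl
  · rfl
  · rw [QuadraticMap.map_neg, QuadraticMap.polar_neg_left, mul_neg, neg_smul_neg]

theorem rho_mul_self {v : Fin n → K} (hv : Q v ≠ 0) : rho v hv * rho v hv = 1 := by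
  refine Refl.act_ext fun x => ?_
  rw [Refl.act_mul, act_rho, act_rho, Refl.act_one, sub_eq_add_neg x, QuadraticMap.polar_add_right,
    QuadraticMap.polar_neg_right, QuadraticMap.polar_smul_right, polar_self', smul_eq_mul]
  match_scalars
  · ring
  · field_simp
    ring

theorem rho_ne_one {v : Fin n → K} (hv : Q v ≠ 0) : rho v hv ≠ 1 := by
  intro e
  have h := rho_self hv
  rw [e, Refl.act_one] at h
  apply hv
  have h2 : (2 : K) • v = 0 := by
    have := sub_eq_zero.2 h
    rwa [sub_neg_eq_add, ← two_smul K v] at this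
  rcases smul_eq_zero.1 h2 with h2 | h2
  · exact absurd h2 (by decide +kernel)
  · rw [h2, map_zero]

theorem rho_eq_imp {u v : Fin n → K} {c : K} (hu : Q u ≠ 0) (hv : Q v ≠ 0) (cu : Q u = c) (cv : Q v = c)
    (e : rho u hu = rho v hv) : v = u ∨ v = -u := by
  have h := rho_self hu
  rw [e, act_rho] at h
  have hs : ((Q v)⁻¹ * P v u) • v = (2 : K) • u := by
    rw [two_smul]
    rw [sub_eq_iff_eq_add, add_comm] at h
    linear_combination (norm := module) -h
  set a := (Q v)⁻¹ * P v u with ha
  have hvu : v = (a⁻¹ * 2) • u := by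
    have : a ≠ 0 := fun h0 => by
      rw [h0, zero_smul] at hs
      rcases smul_eq_zero.1 hs.symm with h2 | h2
      · exact absurd h2 (by decide +kernel)
      · exact hu (by rw [h2, map_zero])
    rw [mul_smul, ← hs, inv_smul_smul₀ this]
  rcases F3_cases (a⁻¹ * 2) with k | k | k <;> rw [k] at hvu
  · exact absurd (by rw [hvu, zero_smul, map_zero]) hv
  · exact Or.inl (by rw [hvu, one_smul])
  · exact Or.inr (by rw [hvu, show (2 : K) = -1 by decide +kernel, neg_one_smul])

theorem rho_commute_iff {u v : Fin n → K} {c : K} (hu : Q u ≠ 0) (hv : Q v ≠ 0) (cu : Q u = c) (cv : Q v = c) :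
    Commute (rho u hu) (rho v hv) ↔ (v = u ∨ v = -u) ∨ P u v = 0 := by
  constructor
  · intro k
    have e : rho u hu * rho v hv * (rho u hu)⁻¹ = rho v hv := by rw [k.eq, mul_inv_cancel_right]
    rw [rho_conj] at e
    rcases rho_eq_imp hv (by rw [Refl.act_Q]; exact hv) cv (by rw [Refl.act_Q]; exact cv) e.symm with h | h
    · rw [act_rho, sub_eq_self, smul_eq_zero] at h
      rcases h with h | h
      · exact Or.inr ((mul_eq_zero.1 h).resolve_left (inv_ne_zero hu))
      · exact absurd (by rw [h, map_zero]) hu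
    · rw [act_rho] at h
      have hs : (2 : K) • v = ((Q u)⁻¹ * P u v) • u := by
        linear_combination (norm := module) h
      have : v = ((2 : K) * ((Q u)⁻¹ * P u v)) • u := by
        rw [mul_smul, ← hs, ← mul_smul, show (2 : K) * 2 = 1 by decide +kernel, one_smul]
      generalize (2 : K) * ((Q u)⁻¹ * P u v) = t at this
      rcases F3_cases t with rfl | rfl | rfl
      · exact absurd (by rw [this, zero_smul, map_zero]) hv
      · exact Or.inl (Or.inl (by rw [this, one_smul]))
      · exact Or.inl (Or.inr (by rw [this, show (2 : K) = -1 by decide +kernel, neg_one_smul]))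
  · rintro (h | h)
    · rw [rho_congr hu hv h]
    · refine Refl.act_ext fun x => ?_
      have h' : P v u = 0 := by rw [QuadraticMap.polar_comm (f := ⇑Q)]; exact h
      rw [Refl.act_mul, Refl.act_mul, act_rho, act_rho, act_rho, act_rho]
      simp only [sub_eq_add_neg, ← neg_smul, QuadraticMap.polar_add_right, QuadraticMap.polar_smul_right,
        h, h', smul_eq_mul, mul_zero, add_zero]
      abel

theorem rho_braid {u v : Fin n → K} {c : K} (hu : Q u ≠ 0) (hv : Q v ≠ 0) (cu : Q u = c) (cv : Q v = c)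
    (h : P u v ≠ 0) : rho u hu * rho v hv * rho u hu = rho v hv * rho u hu * rho v hv := by
  have i1 := inv_eq_of_mul_eq_one_right (rho_mul_self hu)
  have i2 := inv_eq_of_mul_eq_one_right (rho_mul_self hv)
  conv_lhs => arg 2; rw [← i1]
  conv_rhs => arg 2; rw [← i2]
  rw [rho_conj, rho_conj]
  refine rho_congr _ _ ?_
  rw [act_rho, act_rho, cu, cv, QuadraticMap.polar_comm (f := ⇑Q) v u]
  have h' : c⁻¹ * P u v ≠ 0 := mul_ne_zero (inv_ne_zero (cu ▸ hu)) h
  rcases F3_cases (c⁻¹ * P u v) with k | k | k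
  · exact absurd k h'
  · refine Or.inr ?_; rw [k, one_smul, one_smul]; abel
  · refine Or.inl ?_
    rw [k, show (2 : K) = -1 by decide +kernel, neg_one_smul, neg_one_smul]
    abel

theorem rho_three {c : K} (hc : c ≠ 0) : IsThreeTranspositionSet (reflectionsOfNorm (⇑Q) c) := by
  refine ⟨fun g hg => ?_, fun g hg g' hg' => ?_⟩
  · obtain ⟨v, hv, rfl⟩ := (mem_reflections hc).1 hg
    exact orderOf_eq_prime (by rw [pow_two]; exact rho_mul_self _) (rho_ne_one _)
  · obtain ⟨u, hu, rfl⟩ := (mem_reflections hc).1 hg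
    obtain ⟨v, hv, rfl⟩ := (mem_reflections hc).1 hg'
    set a := rho u (hu ▸ hc : Q u ≠ 0)
    set b := rho v (hv ▸ hc : Q v ≠ 0)
    have ha : a * a = 1 := rho_mul_self _
    have hb : b * b = 1 := rho_mul_self _
    by_cases hcm : Commute a b
    · left
      rw [hcm.mul_pow, pow_two, pow_two, ha, hb, one_mul]
    · right
      have hp : P u v ≠ 0 := fun h => hcm ((rho_commute_iff _ _ hu hv).2 (Or.inr h))
      have e : a * b * a = b * a * b := rho_braid _ _ hu hv hp
      calc (a * b) ^ 3 = (a * b * a) * (b * a * b) := by simp [pow_succ, mul_assoc]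
        _ = (a * b * a) * (a * b * a) := by rw [e]
        _ = a * (b * ((a * a) * (b * a))) := by simp only [mul_assoc]
        _ = 1 := by rw [ha, one_mul, ← mul_assoc b b, hb, one_mul, ha]

/-- two vectors of one norm have a common neighbour -/
theorem exists_common_perp (hn : 5 ≤ n) (hQ : (QuadraticMap.polarBilin Q).Nondegenerate) {c : K}
    (hc : c ≠ 0) {u v : Fin n → K} (hu : Q u = c) (hv : Q v = c) :
    ∃ z, Q z = c ∧ P u z = 0 ∧ P v z = 0 := by
  have hu0 : Q u ≠ 0 := hu ▸ hc
  by_cases hp : P u v = 0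
  · obtain ⟨z, hz, hze⟩ := exists_norm_perp hQ ![u, v] (fun i => by fin_cases i <;> simp [hu, hv, hc])
      (fun i j hij => by
        fin_cases i <;> fin_cases j <;>
          simp_all [QuadraticMap.polar_comm (f := ⇑Q) v u]) (by omega) hc
    exact ⟨z, hz, hze 0, hze 1⟩
  set a := P u v * (2 * c)⁻¹ with ha
  set w := v - a • u with hw
  have h2c : (2 : K) * c ≠ 0 := mul_ne_zero (by decide +kernel) hc
  have hPu : P u v = a * (2 * c) := by rw [ha, inv_mul_cancel_right₀ h2c]
  have hwu : P u w = 0 := by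
    rw [hw, QuadraticMap.polar_sub_right, QuadraticMap.polar_smul_right, polar_self', hu, smul_eq_mul,
      hPu, sub_self]
  have hQw : Q w = 0 := by
    rw [hw, Quad.map_sub_smul, hv, hu, hPu]
    have ha0 : a ≠ 0 := fun h0 => hp (by rw [hPu, h0, zero_mul])
    rcases F3_cases a with k | k | k
    · exact absurd k ha0
    · rw [k]; ring
    · rw [k]; linear_combination (-c) * three_zero
  have hvw : ∀ z, P u z = 0 → P w z = 0 → P v z = 0 := fun z h1 h2 => by
    rw [hw, QuadraticMap.polar_sub_left, QuadraticMap.polar_smul_left, h1, smul_zero, sub_zero] at h2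
    exact h2
  by_cases hw0 : w = 0
  · obtain ⟨z, hz, hze⟩ := exists_norm_perp hQ ![u] (fun i => by simpa using hu0)
      (fun i j hij => absurd (Subsingleton.elim i j) hij) (by omega) hc
    exact ⟨z, hz, hze 0, hvw z (hze 0) (by rw [hw0, QuadraticMap.polar_zero_left])⟩
  -- complete the isotropic vector to a hyperbolic pair
  obtain ⟨y, hy⟩ : ∃ y, P w y ≠ 0 := by
    by_contra h; push Not at h; exact hw0 (hQ.1 w h)
  set y1 := y - (P u y * (2 * c)⁻¹) • u with hy1
  have hy1u : P u y1 = 0 := by
    rw [hy1, QuadraticMap.polar_sub_right, QuadraticMap.polar_smul_right, polar_self', hu, smul_eq_mul,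
      inv_mul_cancel_right₀ h2c, sub_self]
  have hwy1 : P w y1 ≠ 0 := by
    rw [hy1, QuadraticMap.polar_sub_right, QuadraticMap.polar_smul_right,
      QuadraticMap.polar_comm (f := ⇑Q) w u, hwu, smul_zero, sub_zero]
    exact hy
  set y2 := y1 - (Q y1 * (P w y1)⁻¹) • w with hy2
  have hy2u : P u y2 = 0 := by
    rw [hy2, QuadraticMap.polar_sub_right, QuadraticMap.polar_smul_right, hy1u, hwu, smul_zero, sub_zero]
  have hwy2 : P w y2 = P w y1 := by
    rw [hy2, QuadraticMap.polar_sub_right, QuadraticMap.polar_smul_right, polar_self', hQw, mul_zero,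
      smul_zero, sub_zero]
  have hQy2 : Q y2 = 0 := by
    rw [hy2, Quad.map_sub_smul, hQw, mul_zero, add_zero, inv_mul_cancel_right₀ hwy1, sub_self]
  set e : Fin 3 → Fin n → K := ![u, w + y2, w - y2]
  have he2 : Q (w + y2) = P w y1 := by rw [map_add', hQw, hQy2, hwy2]; ring
  have he3 : Q (w - y2) = -P w y1 := by
    rw [sub_eq_add_neg, map_add', QuadraticMap.map_neg, hQw, hQy2, QuadraticMap.polar_neg_right, hwy2]; ring
  have heo : P (w + y2) (w - y2) = 0 := by
    simp only [sub_eq_add_neg w y2, QuadraticMap.polar_add_left, QuadraticMap.polar_add_right,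
      QuadraticMap.polar_neg_right, polar_self', hQw, hQy2, QuadraticMap.polar_comm (f := ⇑Q) y2 w]
    ring
  have e12 : P u (w + y2) = 0 := by rw [QuadraticMap.polar_add_right, hwu, hy2u, add_zero]
  have e13 : P u (w - y2) = 0 := by rw [QuadraticMap.polar_sub_right, hwu, hy2u, sub_zero]
  obtain ⟨z, hz, hze⟩ := exists_norm_perp hQ e
    (fun i => by fin_cases i <;> simp [e, hu0, he2, he3, hwy1])
    (fun i j hij => by
      fin_cases i <;> fin_cases j <;>
        first
          | exact absurd rfl hij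
          | simpa [e] using e12
          | simpa [e] using e13
          | simpa [e] using heo
          | simpa [e, QuadraticMap.polar_comm (f := ⇑Q) (w + y2) u] using e12
          | simpa [e, QuadraticMap.polar_comm (f := ⇑Q) (w - y2) u] using e13
          | simpa [e, QuadraticMap.polar_comm (f := ⇑Q) (w - y2) (w + y2)] using heo) (by omega) hc
  refine ⟨z, hz, hze 0, hvw z (hze 0) ?_⟩
  have h1 : P (w + y2) z = 0 := hze 1
  have h2 : P (w - y2) z = 0 := hze 2
  rw [QuadraticMap.polar_add_left] at h1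
  rw [QuadraticMap.polar_sub_left] at h2
  have : (2 : K) * P w z = 0 := by linear_combination h1 + h2
  exact (mul_eq_zero.1 this).resolve_left (by decide +kernel)

/-- two orthogonal vectors of one norm have a common non-neighbour -/
theorem exists_common_nonperp (hn : 5 ≤ n) (hQ : (QuadraticMap.polarBilin Q).Nondegenerate) {c : K}
    (hc : c ≠ 0) {u v : Fin n → K} (hu : Q u = c) (hv : Q v = c) (h : P u v = 0) :
    ∃ z, Q z = c ∧ P u z ≠ 0 ∧ P v z ≠ 0 := by
  obtain ⟨t, ht, hte⟩ := exists_norm_perp hQ ![u, v] (fun i => by fin_cases i <;> simp [hu, hv, hc])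
    (fun i j hij => by
      fin_cases i <;> fin_cases j <;>
        simp_all [QuadraticMap.polar_comm (f := ⇑Q) v u]) (by omega) (neg_ne_zero.2 hc)
  have h1 : P u t = 0 := hte 0
  have h2 : P v t = 0 := hte 1
  have h' : P v u = 0 := by rw [QuadraticMap.polar_comm (f := ⇑Q)]; exact h
  refine ⟨u + v + t, ?_, ?_, ?_⟩
  · rw [map_add', map_add', hu, hv, ht, h, QuadraticMap.polar_add_left, h1, h2]; ring
  · rw [QuadraticMap.polar_add_right, QuadraticMap.polar_add_right, polar_self', hu, h, h1, add_zero,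
      add_zero]
    exact mul_ne_zero (by decide +kernel) hc
  · rw [QuadraticMap.polar_add_right, QuadraticMap.polar_add_right, polar_self', hv, h', h2, add_zero,
      zero_add]
    exact mul_ne_zero (by decide +kernel) hc

/-- the reflections of norm `c` inside the group they generate -/
def refClass (Q : QuadraticForm K (Fin n → K)) (c : K) : Set (reflectionSubgroup (⇑Q) c) :=
  {g : ↥(reflectionSubgroup (⇑Q) c) | (g : isometryGroup K ⇑Q) ∈ reflectionsOfNorm (⇑Q) c}

theorem refClass_mem {c : K} (hc : c ≠ 0) {v : Fin n → K} (hv : Q v = c) :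
    ∃ g ∈ refClass Q c, (g : isometryGroup K ⇑Q) = rho v (hv ▸ hc : Q v ≠ 0) :=
  ⟨⟨_, Subgroup.subset_closure ((mem_reflections hc).2 ⟨v, hv, rfl⟩)⟩,
    (mem_reflections hc).2 ⟨v, hv, rfl⟩, rfl⟩

theorem refClass_three {c : K} (hc : c ≠ 0) : IsThreeTranspositionSet (refClass Q c) := by
  refine ⟨fun g hg => ?_, fun g hg g' hg' => ?_⟩
  · rw [← orderOf_injective (reflectionSubgroup (⇑Q) c).subtype Subtype.val_injective g]
    exact (rho_three hc).1 _ hg
  · rcases (rho_three hc).2 _ hg _ hg' with h | h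
    · exact Or.inl (Subtype.ext (by simpa using h))
    · exact Or.inr (Subtype.ext (by simpa using h))

theorem refClass_class (hn : 5 ≤ n) (hQ : (QuadraticMap.polarBilin Q).Nondegenerate) {c : K} (hc : c ≠ 0) :
    IsThreeTranspositionClass (refClass Q c) := by
  have h3 := refClass_three (Q := Q) hc
  obtain ⟨v0, hv0, -⟩ := exists_norm_perp hQ (Fin.elim0 : Fin 0 → Fin n → K) (fun i => i.elim0)
    (fun i => i.elim0) (by omega) hc
  obtain ⟨g0, hg0, e0⟩ := refClass_mem hc hv0
  have hstep : ∀ u v : Fin n → K, ∀ hu : Q u = c, ∀ hv : Q v = c, P u v ≠ 0 → ∀ a ∈ refClass Q c,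
      (a : isometryGroup K ⇑Q) = rho u (hu ▸ hc : Q u ≠ 0) → ∀ b ∈ refClass Q c,
      (b : isometryGroup K ⇑Q) = rho v (hv ▸ hc : Q v ≠ 0) → IsConj a b := by
    intro u v hu hv hp a ha ea b hb eb
    by_cases hab : Commute a b
    · have : Commute (rho u (hu ▸ hc : Q u ≠ 0)) (rho v (hv ▸ hc : Q v ≠ 0)) := by
        rw [← ea, ← eb]; exact hab.map (reflectionSubgroup (⇑Q) c).subtype
      rcases (rho_commute_iff _ _ hu hv).1 this with k | k
      · have : a = b := Subtype.ext (by rw [ea, eb, rho_congr _ _ k])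
        exact this ▸ IsConj.refl a
      · exact absurd k hp
    · exact isConj_iff.2 ⟨_, conj_of_nc h3 ha hb hab⟩
  refine ⟨h3, ⟨g0, hg0, Set.ext fun g => ⟨fun hg => ?_, fun hg => ?_⟩⟩, ?_⟩
  · obtain ⟨v, hv, e⟩ := (mem_reflections hc).1 (show (g : isometryGroup K ⇑Q) ∈ _ from hg)
    by_cases hp : P v0 v = 0
    · obtain ⟨z, hz, hz1, hz2⟩ := exists_common_nonperp hn hQ hc hv0 hv hp
      obtain ⟨gz, hgz, ez⟩ := refClass_mem hc hz
      exact (hstep v0 z hv0 hz hz1 g0 hg0 e0 gz hgz ez).trans
        (hstep z v hz hv (by rwa [QuadraticMap.polar_comm (f := ⇑Q)]) gz hgz ez g hg e)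
    · exact hstep v0 v hv0 hv hp g0 hg0 e0 g hg e
  · obtain ⟨k, rfl⟩ := isConj_iff.1 (show IsConj g0 g from hg)
    refine (mem_reflections hc).2 ⟨Refl.act Q (k : isometryGroup K ⇑Q) v0, by rw [Refl.act_Q]; exact hv0, ?_⟩
    rw [Subgroup.coe_mul, Subgroup.coe_mul, Subgroup.coe_inv, e0, rho_conj]
  · exact Subgroup.closure_closure_coe_preimage

theorem refClass_structure (hn : 5 ≤ n) (hQ : (QuadraticMap.polarBilin Q).Nondegenerate) {c : K}
    (hc : c ≠ 0) :
    IsQuasisimple (commutator (reflectionSubgroup (⇑Q) c)) ∧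
    (commutator (reflectionSubgroup (⇑Q) c)).index ≤ 2 ∧
    generalizedFittingSubgroup (reflectionSubgroup (⇑Q) c) =
      Subgroup.center (reflectionSubgroup (⇑Q) c) ⊔ commutator (reflectionSubgroup (⇑Q) c) ∧
    IsPrimitiveUnderConj (refClass Q c) := by
  have hD := refClass_class hn hQ hc
  set D := refClass Q c
  have hcomm : ∀ a ∈ D, ∀ b ∈ D, ∀ u v : Fin n → K, ∀ hu : Q u = c, ∀ hv : Q v = c,
      (a : isometryGroup K ⇑Q) = rho u (hu ▸ hc : Q u ≠ 0) →
      (b : isometryGroup K ⇑Q) = rho v (hv ▸ hc : Q v ≠ 0) →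
      (Commute a b ↔ (v = u ∨ v = -u) ∨ P u v = 0) := by
    intro a _ b _ u v hu hv ea eb
    rw [← rho_commute_iff (hu ▸ hc : Q u ≠ 0) (hv ▸ hc : Q v ≠ 0) hu hv, ← ea, ← eb]
    exact ⟨fun k => k.map (reflectionSubgroup (⇑Q) c).subtype, fun k => Subtype.ext k.eq⟩
  obtain ⟨v0, hv0, -⟩ := exists_norm_perp hQ (Fin.elim0 : Fin 0 → Fin n → K) (fun i => i.elim0)
    (fun i => i.elim0) (by omega) hc
  obtain ⟨d, hd, ed⟩ := refClass_mem hc hv0
  obtain ⟨v1, hv1, hv01, -⟩ := exists_common_perp hn hQ hc hv0 hv0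
  obtain ⟨d1, hd1, ed1⟩ := refClass_mem hc hv1
  have hne01 : ¬ (v1 = v0 ∨ v1 = -v0) := by
    rintro (rfl | rfl)
    · exact mul_ne_zero (show (2 : K) ≠ 0 by decide +kernel) hc (by rw [← hv0, ← polar_self']; exact hv01)
    · rw [QuadraticMap.polar_neg_right, neg_eq_zero, polar_self', hv0] at hv01
      exact mul_ne_zero (show (2 : K) ≠ 0 by decide +kernel) hc hv01
  have hD2 : ∃ a ∈ D, ∃ b ∈ D, a ≠ b := by
    refine ⟨d, hd, d1, hd1, fun e => hne01 ?_⟩
    exact rho_eq_imp _ _ hv0 hv1 (by rw [← ed, e, ed1])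
  have h2c : (2 : K) * c ≠ 0 := mul_ne_zero (by decide +kernel) hc
  have h2 : pCore 2 (reflectionSubgroup (⇑Q) c) ≤ Subgroup.center _ := by
    by_contra hcon
    obtain ⟨b, hb, hne, hs, -⟩ := exists_twin_two hD hD2 hcon hd
    obtain ⟨v, hv, eb⟩ := (mem_reflections hc).1 (show (b : isometryGroup K ⇑Q) ∈ _ from hb)
    have hne' : ¬ (v = v0 ∨ v = -v0) := fun k => hne (Subtype.ext (by
      rw [eb, ed]; exact rho_congr _ _ k))
    have hp : P v0 v = 0 := ((hcomm d hd b hb v0 v hv0 hv ed eb).1
      ((hs b hb).1 (Commute.refl b))).resolve_left hne'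
    obtain ⟨t, ht0, htQ, hte⟩ := exists_iso_perp hQ ![v0, v] (fun i => by fin_cases i <;> simp [hv0, hv, hc])
      (fun i j hij => by
        fin_cases i <;> fin_cases j <;>
          simp_all [QuadraticMap.polar_comm (f := ⇑Q) v v0]) (by omega)
    have ht1 : P v0 t = 0 := hte 0
    have ht2 : P v t = 0 := hte 1
    have hz : Q (v0 + t) = c := by rw [map_add', hv0, htQ, ht1]; ring
    obtain ⟨e, he, ee⟩ := refClass_mem hc hz
    have h1 : Commute b e := (hcomm b hb e he v (v0 + t) hv hz eb ee).2 (Or.inr (by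
      rw [QuadraticMap.polar_add_right, ht2, QuadraticMap.polar_comm (f := ⇑Q), hp, add_zero]))
    rcases (hcomm d hd e he v0 (v0 + t) hv0 hz ed ee).1 ((hs e he).1 h1) with (k | k) | k
    · exact ht0 (by simpa using k)
    · have : P v0 (v0 + t) = P v0 (-v0) := by rw [k]
      rw [QuadraticMap.polar_add_right, ht1, polar_self', add_zero, QuadraticMap.polar_neg_right,
        polar_self', hv0] at this
      exact h2c (by revert this; generalize (2 : K) * c = a; revert a; decide +kernel)
    · rw [QuadraticMap.polar_add_right, ht1, polar_self', add_zero, hv0] at k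
      exact h2c k
  have h3 : pCore 3 (reflectionSubgroup (⇑Q) c) ≤ Subgroup.center _ := by
    by_contra hcon
    obtain ⟨b, hb, hne, hs, -⟩ := exists_twin_three hD hcon hd
    obtain ⟨v, hv, eb⟩ := (mem_reflections hc).1 (show (b : isometryGroup K ⇑Q) ∈ _ from hb)
    have hnab := samePunct_nc hb (Ne.symm hne) hs
    rw [hcomm d hd b hb v0 v hv0 hv ed eb, not_or] at hnab
    obtain ⟨hne', hp⟩ := hnab
    set a := P v0 v * (2 * c)⁻¹ with ha
    have hPu : P v0 v = a * (2 * c) := by rw [ha, inv_mul_cancel_right₀ h2c]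
    set w := v - a • v0 with hw
    have hwu : P v0 w = 0 := by
      rw [hw, QuadraticMap.polar_sub_right, QuadraticMap.polar_smul_right, polar_self', hv0, smul_eq_mul,
        hPu, sub_self]
    have ha0 : a ≠ 0 := fun h0 => hp (by rw [hPu, h0, zero_mul])
    have hQw : Q w = 0 := by
      rw [hw, Quad.map_sub_smul, hv, hv0, hPu]
      rcases F3_cases a with k | k | k
      · exact absurd k ha0
      · rw [k]; ring
      · rw [k]; linear_combination (-c) * three_zero
    have hw0 : w ≠ 0 := by
      intro h0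
      rw [hw, sub_eq_zero] at h0
      apply hne'
      rcases F3_cases a with k | k | k <;> rw [k] at h0
      · exact absurd k ha0
      · exact Or.inl (by rw [h0, one_smul])
      · exact Or.inr (by rw [h0, show (2 : K) = -1 by decide +kernel, neg_one_smul])
    obtain ⟨y, hy⟩ : ∃ y, P w y ≠ 0 := by
      by_contra h; push Not at h; exact hw0 (hQ.1 w h)
    set y1 := y - (P v0 y * (2 * c)⁻¹) • v0 with hy1
    have hy1u : P v0 y1 = 0 := by
      rw [hy1, QuadraticMap.polar_sub_right, QuadraticMap.polar_smul_right, polar_self', hv0, smul_eq_mul,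
        inv_mul_cancel_right₀ h2c, sub_self]
    have hwy1 : P w y1 ≠ 0 := by
      rw [hy1, QuadraticMap.polar_sub_right, QuadraticMap.polar_smul_right,
        QuadraticMap.polar_comm (f := ⇑Q) w v0, hwu, smul_zero, sub_zero]
      exact hy
    set z := y1 + ((c - Q y1) * (P w y1)⁻¹) • w with hz0
    have hz : Q z = c := by
      rw [hz0, map_add', map_smul', hQw, QuadraticMap.polar_smul_right,
        QuadraticMap.polar_comm (f := ⇑Q) y1 w, smul_eq_mul, inv_mul_cancel_right₀ hwy1]
      ring
    have hzu : P v0 z = 0 := by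
      rw [hz0, QuadraticMap.polar_add_right, hy1u, QuadraticMap.polar_smul_right, hwu, smul_zero, add_zero]
    have hzv : P v z ≠ 0 := by
      have : v = a • v0 + w := by rw [hw]; abel
      rw [this, QuadraticMap.polar_add_left, QuadraticMap.polar_smul_left, hzu, smul_zero, zero_add, hz0,
        QuadraticMap.polar_add_right, QuadraticMap.polar_smul_right, polar_self', hQw, mul_zero, smul_zero,
        add_zero]
      exact hwy1
    obtain ⟨e, he, ee⟩ := refClass_mem hc hz
    have hde : Commute d e := (hcomm d hd e he v0 z hv0 hz ed ee).2 (Or.inr hzu)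
    have hed : e ≠ d := fun k => h2c (by
      rcases rho_eq_imp _ _ hv0 hz (by rw [← ed, ← ee, k]) with q | q
      · rw [q, polar_self', hv0] at hzu; exact hzu
      · rw [q, QuadraticMap.polar_neg_right, neg_eq_zero, polar_self', hv0] at hzu; exact hzu)
    have hmem : e ∈ {y | y ∈ D ∧ y ≠ d ∧ Commute d y} := ⟨he, hed, hde⟩
    rw [show {y | y ∈ D ∧ y ≠ d ∧ Commute d y} = _ from hs] at hmem
    rcases (hcomm b hb e he v z hv hz eb ee).1 hmem.2.2 with k | k
    · exact hmem.2.1 (Subtype.ext (by rw [ee, eb]; exact rho_congr _ _ k))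
    · exact hzv k
  obtain ⟨L, hL⟩ := exists_component hD hD2 h2 h3
  haveI hLn := component_normal hD hL
  have hconn : (commutingGraph D).Connected := by
    haveI : Nonempty D := ⟨⟨d, hd⟩⟩
    refine ⟨fun ⟨a, ha⟩ ⟨b, hb⟩ => ?_⟩
    obtain ⟨u, hu, ea⟩ := (mem_reflections hc).1 (show (a : isometryGroup K ⇑Q) ∈ _ from ha)
    obtain ⟨v, hv, eb⟩ := (mem_reflections hc).1 (show (b : isometryGroup K ⇑Q) ∈ _ from hb)
    obtain ⟨z, hz, hz1, hz2⟩ := exists_common_perp hn hQ hc hu hv
    obtain ⟨e, he, ee⟩ := refClass_mem hc hz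
    have hadj : ∀ x : D, Commute (x : reflectionSubgroup (⇑Q) c) e →
        (commutingGraph D).Reachable x ⟨e, he⟩ := by
      intro x k
      by_cases h : x = ⟨e, he⟩
      · rw [h]
      · exact SimpleGraph.Adj.reachable ((SimpleGraph.fromRel_adj _ _ _).2 ⟨h, Or.inl k⟩)
    exact (hadj ⟨a, ha⟩ ((hcomm a ha e he u z hu hz ea ee).2 (Or.inr hz1))).trans
      (hadj ⟨b, hb⟩ ((hcomm b hb e he v z hv hz eb ee).2 (Or.inr hz2))).symm
  have hi := index_of_connected hD L hL.2 hconn
  have hC : commutator (reflectionSubgroup (⇑Q) c) = L := le_antisymm (commutator_le_of_index L hi) (by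
    rw [← CfsgLib.Inv.component_commutator hL, commutator_def]
    exact Subgroup.commutator_mono le_top le_top)
  have hF := genFitting_eq hD h2 h3 hL
  rw [hC]
  exact ⟨hL.2, hi, by rw [hF, sup_comm], primitive_of_index hD hD2 h2 h3 L hL.2 hF hi⟩

/-- the action on vectors of norm `c` -/
def normPerm (Q : QuadraticForm K (Fin n → K)) (c : K) (g : isometryGroup K ⇑Q) :
    Equiv.Perm {x : Fin n → K // Q x = c} where
  toFun x := ⟨Refl.act Q g x.1, by rw [Refl.act_Q]; exact x.2⟩
  invFun x := ⟨Refl.act Q g⁻¹ x.1, by rw [Refl.act_Q]; exact x.2⟩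
  left_inv x := Subtype.ext (Refl.act_inv g x.1)
  right_inv x := Subtype.ext (by
    show Refl.act Q g (Refl.act Q g⁻¹ x.1) = x.1
    rw [← Refl.act_mul, mul_inv_cancel, Refl.act_one])

theorem normPerm_apply (c : K) (g : isometryGroup K ⇑Q) (x : {x : Fin n → K // Q x = c}) :
    (normPerm Q c g x : Fin n → K) = Refl.act Q g x.1 := rfl

/-- the sign on vectors of norm `c` -/
noncomputable def normSign (Q : QuadraticForm K (Fin n → K)) (c : K) : isometryGroup K ⇑Q →* ℤˣ where
  toFun g := Equiv.Perm.sign (normPerm Q c g)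
  map_one' := (congrArg _ (Equiv.ext fun x => Subtype.ext (Refl.act_one x.1))).trans Equiv.Perm.sign_one
  map_mul' g g' := by
    rw [← Equiv.Perm.sign_mul]
    exact congrArg _ (Equiv.ext fun x => Subtype.ext (Refl.act_mul g g' x.1))

theorem even_card_of_neg (S : Finset (Fin n → K)) (h : ∀ x ∈ S, -x ∈ S ∧ x ≠ 0) : Even S.card := by
  have := Finset.sum_involution (s := S) (f := fun _ => (1 : ZMod 2)) (fun x _ => -x)
    (fun x _ => by decide) (fun x hx _ e => (h x hx).2 (by
      funext i
      have := congrFun e i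
      simp only [Pi.neg_apply] at this
      revert this
      show -x i = x i → x i = 0
      generalize x i = a
      revert a
      decide +kernel))
    (fun x hx => (h x hx).1) (fun x _ => neg_neg x)
  simp only [Finset.sum_const, nsmul_eq_mul, mul_one] at this
  exact ZMod.natCast_eq_zero_iff_even.1 this

/-- on vectors of norm `c` a reflection of norm `d` is an odd permutation exactly when `d = c` -/
theorem normSign_rho {c d : K} (hc : c ≠ 0) (hd : d ≠ 0) {v : Fin n → K} (hv : Q v = d) :
    normSign Q c (rho v (hv ▸ hd : Q v ≠ 0)) = if d = c then -1 else 1 := by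
  classical
  set r := rho v (hv ▸ hd : Q v ≠ 0) with hr
  show Equiv.Perm.sign (normPerm Q c r) = _
  set σ := normPerm Q c r with hσdef
  have hσ : σ ^ 2 = 1 := by
    rw [pow_two]
    refine Equiv.ext fun x => Subtype.ext ?_
    show Refl.act Q r (Refl.act Q r x.1) = x.1
    rw [← Refl.act_mul, rho_mul_self, Refl.act_one]
  have hsupp : ∀ x, σ x ≠ x ↔ P v x.1 ≠ 0 := by
    intro x
    refine not_congr ⟨fun e => ?_, fun e => Subtype.ext (rho_perp (hv ▸ hd : Q v ≠ 0) e)⟩
    have e' : Refl.act Q r x.1 = x.1 := congrArg Subtype.val e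
    rw [act_rho, sub_eq_self, smul_eq_zero] at e'
    rcases e' with e' | e'
    · exact (mul_eq_zero.1 e').resolve_left (inv_ne_zero (hv ▸ hd))
    · rw [e', QuadraticMap.polar_zero_left]
  -- half of the moved vectors
  set S : Finset (Fin n → K) := Finset.univ.filter fun y => P v y = 0 ∧ Q y = c - d
  have hcard : σ.support.card = 2 * S.card := by
    rw [show 2 * S.card = (({1, 2} : Finset K) ×ˢ S).card by rw [Finset.card_product]; rfl]
    symm
    refine Finset.card_bij (fun p hp => ⟨p.1 • v + p.2, ?_⟩) ?_ ?_ ?_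
    · obtain ⟨ht, hy⟩ := Finset.mem_product.1 hp
      obtain ⟨-, h1, h2⟩ := Finset.mem_filter.1 hy
      rw [map_add', map_smul', QuadraticMap.polar_smul_left, h1, h2, hv, smul_zero, add_zero]
      simp only [Finset.mem_insert, Finset.mem_singleton] at ht
      rcases ht with ht | ht <;> rw [ht]
      · ring
      · rw [show (2 : K) * 2 = 1 by decide +kernel]; ring
    · intro p hp
      obtain ⟨ht, hy⟩ := Finset.mem_product.1 hp
      obtain ⟨-, h1, -⟩ := Finset.mem_filter.1 hy
      rw [Equiv.Perm.mem_support, hsupp, QuadraticMap.polar_add_right, QuadraticMap.polar_smul_right,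
        polar_self', h1, add_zero, hv, smul_eq_mul]
      simp only [Finset.mem_insert, Finset.mem_singleton] at ht
      refine mul_ne_zero ?_ (mul_ne_zero (by decide +kernel) hd)
      rcases ht with ht | ht <;> rw [ht] <;> decide +kernel
    · intro p hp q hq e
      have e' : p.1 • v + p.2 = q.1 • v + q.2 := congrArg Subtype.val e
      obtain ⟨-, h1, -⟩ := Finset.mem_filter.1 (Finset.mem_product.1 hp).2
      obtain ⟨-, h1', -⟩ := Finset.mem_filter.1 (Finset.mem_product.1 hq).2
      have e2 := congrArg (P v) e'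
      rw [QuadraticMap.polar_add_right, QuadraticMap.polar_add_right, h1, h1', add_zero, add_zero,
        QuadraticMap.polar_smul_right, QuadraticMap.polar_smul_right, smul_eq_mul, smul_eq_mul,
        polar_self', hv] at e2
      have e3 := mul_right_cancel₀ (mul_ne_zero (show (2 : K) ≠ 0 by decide +kernel) hd) e2
      rw [e3] at e'
      exact Prod.ext e3 (add_left_cancel e')
    · intro x hx
      rw [Equiv.Perm.mem_support, hsupp] at hx
      have h2d : (2 : K) * d ≠ 0 := mul_ne_zero (by decide +kernel) hd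
      set t := P v x.1 * (2 * d)⁻¹ with ht
      have ht0 : t ≠ 0 := mul_ne_zero hx (inv_ne_zero h2d)
      have htv : P v x.1 = t * (2 * d) := by rw [ht, inv_mul_cancel_right₀ h2d]
      refine ⟨(t, x.1 - t • v), Finset.mem_product.2 ⟨?_, Finset.mem_filter.2 ⟨Finset.mem_univ _, ?_, ?_⟩⟩,
        Subtype.ext (by simp)⟩
      · rcases F3_cases t with k | k | k
        · exact absurd k ht0
        · simp [k]
        · simp [k]
      · rw [QuadraticMap.polar_sub_right, QuadraticMap.polar_smul_right, polar_self', hv, smul_eq_mul,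
          htv, sub_self]
      · rw [Quad.map_sub_smul, x.2, hv, htv]
        have : t * t = 1 := by revert ht0; generalize t = a; revert a; decide +kernel
        linear_combination (-d) * this
  have hsign : Equiv.Perm.sign σ = (-1) ^ S.card := by
    rw [Equiv.Perm.sign_of_pow_two_eq_one hσ, Equiv.Perm.card_fixedPoints]
    have hs2 : σ.cycleType.sum = σ.support.card := Equiv.Perm.sum_cycleType σ
    rw [← hs2] at hcard
    have hle : σ.cycleType.sum ≤ Fintype.card {x : Fin n → K // Q x = c} := hs2.trans_le (Finset.card_le_univ _)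
    congr 1
    omega
  rw [hsign]
  have hneg : ∀ y ∈ S, -y ∈ S := by
    intro y hy
    obtain ⟨-, h1, h2⟩ := Finset.mem_filter.1 hy
    exact Finset.mem_filter.2 ⟨Finset.mem_univ _, by rw [QuadraticMap.polar_neg_right, h1, neg_zero],
      by rw [QuadraticMap.map_neg, h2]⟩
  split_ifs with hdc
  · have h0 : (0 : Fin n → K) ∈ S := Finset.mem_filter.2 ⟨Finset.mem_univ _,
      QuadraticMap.polar_zero_right _ _, by rw [map_zero, hdc, sub_self]⟩
    rw [← Finset.card_erase_add_one h0, pow_succ, Even.neg_one_pow (even_card_of_neg _ fun y hy => ?_),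
      one_mul]
    obtain ⟨hy0, hyS⟩ := Finset.mem_erase.1 hy
    exact ⟨Finset.mem_erase.2 ⟨neg_ne_zero.2 hy0, hneg y hyS⟩, hy0⟩
  · refine Even.neg_one_pow (even_card_of_neg _ fun y hy => ⟨hneg y hy, fun h0 => hdc ?_⟩)
    have := (Finset.mem_filter.1 hy).2.2
    rw [h0, map_zero] at this
    exact (sub_eq_zero.1 this.symm).symm

/-- the determinant as a sign -/
noncomputable def detSign (Q : QuadraticForm K (Fin n → K)) : isometryGroup K ⇑Q →* Kˣ :=
  Matrix.GeneralLinearGroup.det.comp (isometryGroup K ⇑Q).subtype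

theorem reflectionSubgroup_index (hn : 5 ≤ n) (hQ : (QuadraticMap.polarBilin Q).Nondegenerate) {c : K}
    (hc : c ≠ 0) : (reflectionSubgroup (⇑Q) c).index = 2 := by
  classical
  set R := reflectionSubgroup (⇑Q) c
  have hnc : -c ≠ 0 := neg_ne_zero.2 hc
  have hmem : ∀ v, ∀ hv : Q v = c, rho v (hv ▸ hc : Q v ≠ 0) ∈ R := fun v hv =>
    Subgroup.subset_closure ((mem_reflections hc).2 ⟨v, hv, rfl⟩)
  -- two orthogonal reflections of the other norm
  have horth : ∀ a b, ∀ ha : Q a = -c, ∀ hb : Q b = -c, P a b = 0 →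
      rho a (ha ▸ hnc : Q a ≠ 0) * rho b (hb ▸ hnc : Q b ≠ 0) ∈ R := by
    intro a b ha hb hab
    have hba : P b a = 0 := by rw [QuadraticMap.polar_comm (f := ⇑Q)]; exact hab
    have h1 : Q (a + b) = c := by
      rw [map_add', ha, hb, hab]; linear_combination (-c) * three_zero
    have h2 : Q (a - b) = c := by
      rw [sub_eq_add_neg, map_add', ha, QuadraticMap.map_neg, hb, QuadraticMap.polar_neg_right, hab]
      linear_combination (-c) * three_zero
    have h2' : Q (a + -b) = c := by rw [← sub_eq_add_neg]; exact h2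
    have e : rho a (ha ▸ hnc : Q a ≠ 0) * rho b (hb ▸ hnc : Q b ≠ 0) =
        rho (a + b) (h1 ▸ hc : Q (a + b) ≠ 0) * rho (a - b) (h2 ▸ hc : Q (a - b) ≠ 0) := by
      refine Refl.act_ext fun x => ?_
      simp only [Refl.act_mul, act_rho, h1, h2, h2', ha, hb, sub_eq_add_neg, ← neg_smul,
        QuadraticMap.polar_add_right, QuadraticMap.polar_add_left, QuadraticMap.polar_neg_left,
        QuadraticMap.polar_smul_right, QuadraticMap.polar_neg_right, polar_self', hab, hba, smul_eq_mul]
      simp only [inv_self']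
      generalize P a x = s
      generalize P b x = t
      match_scalars
      · ring
      all_goals
        rcases F3_cases c with k | k | k
        · exact absurd k hc
        all_goals (rw [k]; revert s t; decide +kernel)
    rw [e]
    exact mul_mem (hmem _ h1) (hmem _ h2)
  have hpair : ∀ a b, ∀ ha : Q a = -c, ∀ hb : Q b = -c,
      rho a (ha ▸ hnc : Q a ≠ 0) * rho b (hb ▸ hnc : Q b ≠ 0) ∈ R := by
    intro a b ha hb
    obtain ⟨z, hz, hz1, hz2⟩ := exists_common_perp hn hQ hnc ha hb
    have := mul_mem (horth a z ha hz hz1)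
      (horth z b hz hb (by rw [QuadraticMap.polar_comm (f := ⇑Q)]; exact hz2))
    rwa [mul_assoc, ← mul_assoc (rho z (hz ▸ hnc : Q z ≠ 0)), rho_mul_self, one_mul] at this
  obtain ⟨a0, ha0, -⟩ := exists_norm_perp hQ (Fin.elim0 : Fin 0 → Fin n → K) (fun i => i.elim0)
    (fun i => i.elim0) (by omega) hnc
  set r := rho a0 (ha0 ▸ hnc : Q a0 ≠ 0)
  haveI hR : R.Normal := by
    refine ⟨fun g hg k => ?_⟩
    induction hg using Subgroup.closure_induction with
    | mem y hy =>
      obtain ⟨v, hv, rfl⟩ := (mem_reflections hc).1 hy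
      rw [rho_conj]
      exact hmem _ (by rw [Refl.act_Q]; exact hv)
    | one => simp
    | mul y z _ _ hy hz =>
      rw [show k * (y * z) * k⁻¹ = (k * y * k⁻¹) * (k * z * k⁻¹) by group]; exact mul_mem hy hz
    | inv y _ hy => rw [show k * y⁻¹ * k⁻¹ = (k * y * k⁻¹)⁻¹ by group]; exact inv_mem hy
  have hall : ∀ g, g ∈ R ∨ r * g ∈ R := by
    intro g
    have hg : g ∈ Refl.W Q := by
      rw [Refl.W_eq_top hQ (Or.inl (by rw [ZMod.card]; decide))]; trivial
    have hstep : ∀ s, (s ∈ R ∨ r * s ∈ R) → ∀ v, ∀ hv : Q v ≠ 0,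
        rho v hv * s ∈ R ∨ r * (rho v hv * s) ∈ R := by
      intro s hs v hv
      have hcase : Q v = c ∨ Q v = -c := norm_cases _ _ hv hc
      rcases hcase with hv' | hv'
      · have hvR : rho v hv ∈ R := hmem v hv'
        rcases hs with hs | hs
        · exact Or.inl (mul_mem hvR hs)
        · refine Or.inr ?_
          have := mul_mem (hR.conj_mem _ hvR r) hs
          simpa [mul_assoc] using this
      · have hrv : r * rho v hv ∈ R := hpair a0 v ha0 hv'
        rcases hs with hs | hs
        · exact Or.inr (by rw [← mul_assoc]; exact mul_mem hrv hs)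
        · refine Or.inl ?_
          have := mul_mem (hpair v a0 hv' ha0) hs
          rwa [mul_assoc, ← mul_assoc r, rho_mul_self, one_mul] at this
    induction hg using Subgroup.closure_induction_left with
    | one => exact Or.inl (one_mem _)
    | mul_left x hx s _ ih =>
      obtain ⟨v, hv, e⟩ := hx
      obtain rfl : x = rho v hv :=
        Subtype.ext (Units.ext (e.trans (Refl.refl_exists hv).choose_spec.symm))
      exact hstep s ih v hv
    | inv_mul_cancel x hx s _ ih =>
      obtain ⟨v, hv, e⟩ := hx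
      obtain rfl : x = rho v hv :=
        Subtype.ext (Units.ext (e.trans (Refl.refl_exists hv).choose_spec.symm))
      rw [inv_eq_of_mul_eq_one_right (rho_mul_self hv)]
      exact hstep s ih v hv
  -- a character separating the two kinds of reflection
  have hdet : ∀ v, ∀ hv : Q v ≠ 0, ((detSign Q (rho v hv) : Kˣ) : K) = -1 := fun v hv => by
    show (((rho v hv : isometryGroup K ⇑Q) : GL (Fin n) K) : Matrix (Fin n) (Fin n) K).det = -1
    rw [rho, (Refl.refl_exists hv).choose_spec, Quad.reflection_det Q hv]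
  have hne : r ∉ R := by
    intro hr
    have hker : ∀ g ∈ R, normSign Q c g = 1 ↔ ((detSign Q g : Kˣ) : K) = 1 := by
      intro g hg
      induction hg using Subgroup.closure_induction with
      | mem y hy =>
        obtain ⟨v, hv, rfl⟩ := (mem_reflections hc).1 hy
        rw [normSign_rho hc hc hv, if_pos rfl, hdet]
        exact iff_of_false (by decide) (by decide +kernel)
      | one => simp
      | mul y z _ _ hy hz =>
        rw [map_mul, map_mul, Units.val_mul]
        revert hy hz
        rcases Int.units_eq_one_or (normSign Q c y) with a | a <;>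
          rcases Int.units_eq_one_or (normSign Q c z) with b | b <;> rw [a, b] <;>
          generalize hu : ((detSign Q y : Kˣ) : K) = u <;> generalize hw : ((detSign Q z : Kˣ) : K) = w <;>
          (have hu0 : u ≠ 0 := hu ▸ Units.ne_zero _
           have hw0 : w ≠ 0 := hw ▸ Units.ne_zero _
           revert hu0 hw0; clear hu hw; revert u w; decide +kernel)
      | inv y _ hy =>
        rw [map_inv, map_inv, inv_eq_one, Units.val_inv_eq_inv_val, inv_eq_one]
        exact hy
    have := (hker r hr).1 (by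
      rw [normSign_rho hc hnc ha0, if_neg (neg_ne' c hc)])
    rw [hdet] at this
    exact absurd this (by decide +kernel)
  rw [Subgroup.index_eq_two_iff]
  refine ⟨r, fun g => ?_⟩
  have hswap : g * r ∈ R ↔ r * g ∈ R :=
    ⟨fun k => by simpa [mul_assoc] using hR.conj_mem _ k r |> fun q => (by
      simpa [mul_assoc, rho_mul_self] using q : r * g ∈ R),
    fun k => by
      have := hR.conj_mem _ k r⁻¹
      simpa [mul_assoc] using this⟩
  rw [hswap]
  rcases hall g with hg | hg
  · refine Or.inr ⟨hg, fun k => hne ?_⟩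
    have := mul_mem k (inv_mem hg)
    simpa using this
  · refine Or.inl ⟨hg, fun k => hne ?_⟩
    have := mul_mem hg (inv_mem k)
    simpa using this

end CfsgLib.Fischer
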