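import Cfsg.Agent.Spor.Fischer.Basic
import Cfsg.Prelude.Def_Solvable
import Mathlib

/-!
Sets of 3-transpositions whose local subgroups are symmetric of degree three.
-/

set_option autoImplicit false
set_option linter.unusedSectionVars false
set_option linter.style.haveILetI false
set_option linter.unusedVariables false
set_option synthInstance.maxHeartbeats 200000
set_option synthInstance.maxSize 4096

namespace CfsgLib.Fischer.LocalSThree

open Cfsg Equiv

variable {G : Type*} [Group G] {D : Set G}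

/-- members commuting with a given one and different from it -/
abbrev Dn (D : Set G) (d : G) : Set G := {y : G | y ∈ D ∧ y ≠ d ∧ Commute d y}

theorem perm3_line : ∀ s u v : Perm (Fin 3), s * s = 1 → u * u = 1 → v * v = 1 → s ≠ 1 → u ≠ 1 → v ≠ 1 →
    s * u ≠ u * s → v = s ∨ v = u ∨ v = s * u * s := by decide +kernel

theorem perm3_comm : ∀ s u : Perm (Fin 3), s * s = 1 → u * u = 1 → s ≠ 1 → u ≠ 1 →
    s * u = u * s → s = u := by decide +kernel

theorem perm3_centre : ∀ s : Perm (Fin 3), (∀ u, u * s = s * u) → s = 1 := by decide +kernel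

theorem perm3_cube : ∀ s u : Perm (Fin 3), s ^ 3 = 1 → u ^ 3 = 1 → s * u = u * s ∧ (s * u) ^ 3 = 1 := by
  decide +kernel

theorem local_line (h : IsThreeTranspositionSet D) (hconj : ∀ g : G, ∀ d ∈ D, g * d * g⁻¹ ∈ D) {d : G} (hd : d ∈ D)
    (e : ↥(Subgroup.closure (Dn D d)) ≃* Perm (Fin 3)) :
    (∃ a b, a ∈ Dn D d ∧ b ∈ Dn D d ∧ ¬ Commute a b ∧ Dn D d = {a, b, a * b * a}) ∧
      (∀ u ∈ Dn D d, ∀ v ∈ Dn D d, u ≠ v → ¬ Commute u v) := by
  let E : ∀ u : G, u ∈ Dn D d → Perm (Fin 3) := fun u hu => e ⟨u, Subgroup.subset_closure hu⟩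
  have hE2 : ∀ u (hu : u ∈ Dn D d), E u hu * E u hu = 1 ∧ E u hu ≠ 1 := fun u hu => by
    constructor
    · rw [← map_mul, ← map_one e]
      exact congrArg e (Subtype.ext (mul_self h hu.1))
    · intro h1
      exact ne_one h hu.1 (congrArg Subtype.val (e.injective (h1.trans (map_one e).symm)))
  have hEinj : ∀ u v (hu : u ∈ Dn D d) (hv : v ∈ Dn D d), E u hu = E v hv → u = v := fun u v hu hv he =>
    congrArg Subtype.val (e.injective he)
  have hEc : ∀ u v (hu : u ∈ Dn D d) (hv : v ∈ Dn D d), E u hu * E v hv = E v hv * E u hu ↔ Commute u v := by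
    intro u v hu hv
    rw [← map_mul, ← map_mul]
    exact ⟨fun he => congrArg Subtype.val (e.injective he), fun hc => congrArg e (Subtype.ext hc.eq)⟩
  have hpair : ∀ u ∈ Dn D d, ∀ v ∈ Dn D d, u ≠ v → ¬ Commute u v := fun u hu v hv hne hc =>
    hne (hEinj u v hu hv (perm3_comm _ _ (hE2 u hu).1 (hE2 v hv).1 (hE2 u hu).2 (hE2 v hv).2 ((hEc u v hu hv).2 hc)))
  refine ⟨?_, hpair⟩
  obtain ⟨a, ha, b, hb, hab⟩ : ∃ a ∈ Dn D d, ∃ b ∈ Dn D d, ¬ Commute a b := by
    by_contra hall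
    push Not at hall
    haveI := Subgroup.isMulCommutative_closure (G := G) (k := Dn D d) hall
    have hc : ∀ s u : Perm (Fin 3), s * u = u * s := fun s u => by
      apply e.symm.injective
      rw [map_mul, map_mul]
      exact mul_comm' _ _
    exact absurd (hc (swap 0 1) (swap 1 2)) (by decide)
  have hc : a * b * a ∈ Dn D d := by
    refine ⟨?_, fun he => ?_, (ha.2.2.mul_right hb.2.2).mul_right ha.2.2⟩
    · simpa [inv_eq h ha.1] using hconj a b hb.1
    · apply hb.2.1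
      have hfix : a * d * a = d := (commute_iff_conj h ha.1 d).1 ha.2.2.symm
      calc b = a * (a * b * a) * a := by
            simp only [mul_assoc, mul_cancel h ha.1]; rw [mul_self h ha.1, mul_one]
        _ = d := by rw [he]; exact hfix
  refine ⟨a, b, ha, hb, hab, Set.Subset.antisymm (fun v hv => ?_) ?_⟩
  · have := perm3_line (E a ha) (E b hb) (E v hv) (hE2 a ha).1 (hE2 b hb).1 (hE2 v hv).1 (hE2 a ha).2 (hE2 b hb).2
      (hE2 v hv).2 (fun he => hab ((hEc a b ha hb).1 he))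
    rcases this with he | he | he
    · exact Or.inl (hEinj _ _ hv ha he)
    · exact Or.inr (Or.inl (hEinj _ _ hv hb he))
    · refine Or.inr (Or.inr (hEinj _ _ hv hc (he.trans ?_)))
      rw [← map_mul, ← map_mul]
      rfl
  · rintro v (rfl | rfl | rfl)
    exacts [ha, hb, hc]

theorem perm5_closed : ∀ σ : Perm (Fin 5), σ ≠ 1 → σ 4 ≠ 4 →
    ∃ i j : Fin 5, ((σ * swap i j * σ⁻¹ * swap i j) 4 = 4 ∧ σ * swap i j * σ⁻¹ * swap i j ≠ 1) ∨
      ((swap i j * σ * swap i j) 4 = 4 ∧ swap i j * σ * swap i j ≠ 1) := by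
  decide +kernel

theorem perm5_four : ∀ σ : Perm (Fin 5), σ 4 = 4 → ∃ τ : Perm (Fin 4), τ.extendDomain (finSuccAboveEquiv (4 : Fin 5)) = σ := by
  decide +kernel

set_option maxHeartbeats 1600000 in
theorem exists_hom_perm_five (h : IsThreeTranspositionSet D) {a b c e : G} (ha : a ∈ D) (hb : b ∈ D) (hc : c ∈ D)
    (he : e ∈ D) (hac : a ≠ c) (hac' : Commute a c) (hae : Commute a e) (hbe : Commute b e)
    (hab : ¬ Commute a b) (hbc : ¬ Commute b c) (hce : ¬ Commute c e) :
    ∃ φ : Perm (Fin 5) →* G, Function.Injective φ ∧ φ (swap 0 1) = a ∧ φ (swap 1 2) = b ∧ φ (swap 2 3) = c ∧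
      φ (swap 3 4) = e := by
  classical
  obtain ⟨x, hx⟩ : ∃ v : Perm (Fin 5) × G, v = (swap 0 1, a) := ⟨_, rfl⟩
  obtain ⟨y, hy⟩ : ∃ v : Perm (Fin 5) × G, v = (swap 1 2, b) := ⟨_, rfl⟩
  obtain ⟨z, hz⟩ : ∃ v : Perm (Fin 5) × G, v = (swap 2 3, c) := ⟨_, rfl⟩
  obtain ⟨w, hw⟩ : ∃ v : Perm (Fin 5) × G, v = (swap 3 4, e) := ⟨_, rfl⟩
  have xx : x * x = 1 := by rw [hx]; exact Prod.ext (Equiv.swap_mul_self _ _) (mul_self h ha)
  have yy : y * y = 1 := by rw [hy]; exact Prod.ext (Equiv.swap_mul_self _ _) (mul_self h hb)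
  have zz : z * z = 1 := by rw [hz]; exact Prod.ext (Equiv.swap_mul_self _ _) (mul_self h hc)
  have ww : w * w = 1 := by rw [hw]; exact Prod.ext (Equiv.swap_mul_self _ _) (mul_self h he)
  have xyx : x * y * x = y * x * y := by rw [hx, hy]; exact Prod.ext (show swap (0 : Fin 5) 1 * swap 1 2 * swap 0 1 = swap 1 2 * swap 0 1 * swap 1 2 by decide +kernel) (braid h ha hb hab)
  have yzy : y * z * y = z * y * z := by rw [hy, hz]; exact Prod.ext (show swap (1 : Fin 5) 2 * swap 2 3 * swap 1 2 = swap 2 3 * swap 1 2 * swap 2 3 by decide +kernel) (braid h hb hc hbc)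
  have zwz : z * w * z = w * z * w := by rw [hz, hw]; exact Prod.ext (show swap (2 : Fin 5) 3 * swap 3 4 * swap 2 3 = swap 3 4 * swap 2 3 * swap 3 4 by decide +kernel) (braid h hc he hce)
  have xz : x * z = z * x := by rw [hx, hz]; exact Prod.ext (show swap (0 : Fin 5) 1 * swap 2 3 = swap 2 3 * swap 0 1 by decide +kernel) hac'.eq
  have xw : x * w = w * x := by rw [hx, hw]; exact Prod.ext (show swap (0 : Fin 5) 1 * swap 3 4 = swap 3 4 * swap 0 1 by decide +kernel) hae.eq
  have yw : y * w = w * y := by rw [hy, hw]; exact Prod.ext (show swap (1 : Fin 5) 2 * swap 3 4 = swap 3 4 * swap 1 2 by decide +kernel) hbe.eq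
  have h' : IsThreeTranspositionSet ({x, y, z} : Set (Perm (Fin 5) × G)) := by
    have p2 : ∀ u v : Perm (Fin 5) × G, u * u = 1 → v * v = 1 → u * v = v * u → (u * v) ^ 2 = 1 := fun u v hu hv huv => by
      rw [Commute.mul_pow huv, pow_two, pow_two, hu, hv, one_mul]
    have p3 : ∀ u v : Perm (Fin 5) × G, u * u = 1 → v * v = 1 → u * v * u = v * u * v → (u * v) ^ 3 = 1 := fun u v hu hv huv => by
      calc (u * v) ^ 3 = (u * v * u) * (v * u * v) := by simp only [pow_succ, pow_zero, one_mul, mul_assoc]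
        _ = (v * u * v) * (v * u * v) := by rw [huv]
        _ = v * u * (v * v) * u * v := by simp only [mul_assoc]
        _ = v * (u * u) * v := by rw [hv]; simp only [mul_one, mul_assoc]
        _ = 1 := by rw [hu, mul_one, hv]
    refine ⟨?_, ?_⟩
    · rintro u (rfl | rfl | rfl) <;> refine orderOf_eq_prime (by rw [pow_two]; assumption) ?_
      · intro h1; rw [hx] at h1; have hh : (swap 0 1 : Perm (Fin 5)) = 1 := congrArg Prod.fst h1; exact absurd hh (by decide +kernel)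
      · intro h1; rw [hy] at h1; have hh : (swap 1 2 : Perm (Fin 5)) = 1 := congrArg Prod.fst h1; exact absurd hh (by decide +kernel)
      · intro h1; rw [hz] at h1; have hh : (swap 2 3 : Perm (Fin 5)) = 1 := congrArg Prod.fst h1; exact absurd hh (by decide +kernel)
    · rintro u (rfl | rfl | rfl) v (rfl | rfl | rfl)
      · exact Or.inl (p2 _ _ xx xx rfl)
      · exact Or.inr (p3 _ _ xx yy xyx)
      · exact Or.inl (p2 _ _ xx zz xz)
      · exact Or.inr (p3 _ _ yy xx xyx.symm)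
      · exact Or.inl (p2 _ _ yy yy rfl)
      · exact Or.inr (p3 _ _ yy zz yzy)
      · exact Or.inl (p2 _ _ zz xx xz.symm)
      · exact Or.inr (p3 _ _ zz yy yzy.symm)
      · exact Or.inl (p2 _ _ zz zz rfl)
  obtain ⟨ψ, -, ψx, ψy, ψz⟩ := exists_hom_perm_four h' (a := x) (b := y) (c := z) (by simp) (by simp) (by simp)
    (fun e1 => by rw [hx, hz] at e1; have hh : (swap 0 1 : Perm (Fin 5)) = swap 2 3 := congrArg Prod.fst e1; exact absurd hh (by decide +kernel)) xz
    (fun e1 => by rw [hx, hy] at e1; have hh : (swap 0 1 * swap 1 2 : Perm (Fin 5)) = swap 1 2 * swap 0 1 := congrArg Prod.fst e1.eq; exact absurd hh (by decide +kernel))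
    (fun e1 => by rw [hy, hz] at e1; have hh : (swap 1 2 * swap 2 3 : Perm (Fin 5)) = swap 2 3 * swap 1 2 := congrArg Prod.fst e1.eq; exact absurd hh (by decide +kernel))
  obtain ⟨K1, hK1d⟩ : ∃ K1 : Finset (Perm (Fin 5) × G), K1 = (Finset.univ : Finset (Perm (Fin 4))).image ψ := ⟨_, rfl⟩
  obtain ⟨T, hT⟩ : ∃ T : Finset (Perm (Fin 5) × G), T = {1, w, w * z, w * z * y, w * z * y * x} := ⟨_, rfl⟩
  obtain ⟨S, hS⟩ : ∃ S : Finset (Perm (Fin 5) × G), S = (K1 ×ˢ T).image (fun p => p.1 * p.2) := ⟨_, rfl⟩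
  have hK1 : ∀ k ∈ K1, k * x ∈ K1 ∧ k * y ∈ K1 ∧ k * z ∈ K1 := by
    intro k hk
    rw [hK1d] at hk ⊢
    obtain ⟨σ, -, rfl⟩ := Finset.mem_image.1 hk
    rw [← ψx, ← ψy, ← ψz, ← map_mul, ← map_mul, ← map_mul]
    exact ⟨Finset.mem_image_of_mem _ (Finset.mem_univ _), Finset.mem_image_of_mem _ (Finset.mem_univ _),
      Finset.mem_image_of_mem _ (Finset.mem_univ _)⟩
  have mem : ∀ k ∈ K1, ∀ t ∈ T, k * t ∈ S := fun k hk t ht =>
    hS ▸ Finset.mem_image.2 ⟨(k, t), Finset.mem_product.2 ⟨hk, ht⟩, rfl⟩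
  have key : ∀ g ∈ ({x, y, z, w} : Set (Perm (Fin 5) × G)), ∀ s ∈ S, s * g ∈ S := by
    intro g hg s hs
    rw [hS] at hs
    obtain ⟨⟨k, t⟩, hkt, rfl⟩ := Finset.mem_image.1 hs
    obtain ⟨hk, ht⟩ := Finset.mem_product.1 hkt
    obtain ⟨hkx, hky, hkz⟩ := hK1 k hk
    simp only [hT, Finset.mem_insert, Finset.mem_singleton] at ht
    simp only [Set.mem_insert_iff, Set.mem_singleton_iff] at hg
    show k * t * g ∈ S
    have T0 : (1 : Perm (Fin 5) × G) ∈ T := by simp [hT]
    have T1 : w ∈ T := by simp [hT]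
    have T2 : w * z ∈ T := by simp [hT]
    have T3 : w * z * y ∈ T := by simp [hT]
    have T4 : w * z * y * x ∈ T := by simp [hT]
    have use' : ∀ k' ∈ K1, ∀ t' ∈ T, k * t * g = k' * t' → k * t * g ∈ S := fun k' hk' t' ht' he => he ▸ mem k' hk' t' ht'
    rcases ht with e0 | e0 | e0 | e0 | e0 <;> rcases hg with e1 | e1 | e1 | e1
    · exact use' _ hkx _ T0 (by rw [e0, e1, mul_one, mul_one])
    · exact use' _ hky _ T0 (by rw [e0, e1, mul_one, mul_one])
    · exact use' _ hkz _ T0 (by rw [e0, e1, mul_one, mul_one])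
    · exact use' _ hk _ T1 (by rw [e0, e1, mul_one])
    · exact use' _ hkx _ T1 (by rw [e0, e1, mul_assoc k, mul_assoc k, xw])
    · exact use' _ hky _ T1 (by rw [e0, e1, mul_assoc k, mul_assoc k, yw])
    · exact use' _ hk _ T2 (by rw [e0, e1, mul_assoc k])
    · exact use' _ hk _ T0 (by rw [e0, e1, mul_assoc k, ww])
    · refine use' _ hkx _ T2 ?_
      rw [e0, e1]
      calc k * (w * z) * x = k * (w * (z * x)) := by simp only [mul_assoc]
        _ = k * (w * x * z) := by rw [← xz, mul_assoc w]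
        _ = k * x * (w * z) := by rw [← xw]; simp only [mul_assoc]
    · exact use' _ hk _ T3 (by rw [e0, e1]; simp only [mul_assoc])
    · refine use' _ hk _ T1 ?_
      rw [e0, e1, mul_assoc k, mul_assoc w z z, zz, mul_one]
    · refine use' _ hkz _ T2 ?_
      rw [e0, e1, mul_assoc k (w * z) w, ← zwz]; simp only [mul_assoc]
    · exact use' _ hk _ T4 (by rw [e0, e1]; simp only [mul_assoc])
    · refine use' _ hk _ T2 ?_
      rw [e0, e1, mul_assoc k, mul_assoc (w * z) y y, yy, mul_one]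
    · refine use' _ hky _ T3 ?_
      rw [e0, e1]
      calc k * (w * z * y) * z = k * (w * (z * y * z)) := by simp only [mul_assoc]
        _ = k * (w * (y * z * y)) := by rw [yzy]
        _ = k * ((w * y) * z * y) := by simp only [mul_assoc]
        _ = _ := by rw [← yw]; simp only [mul_assoc]
    · refine use' _ hkz _ T3 ?_
      rw [e0, e1]
      calc k * (w * z * y) * w = k * (w * z * (y * w)) := by simp only [mul_assoc]
        _ = k * ((w * z * w) * y) := by rw [yw]; simp only [mul_assoc]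
        _ = _ := by rw [← zwz]; simp only [mul_assoc]
    · refine use' _ hk _ T3 ?_
      rw [e0, e1, mul_assoc k, mul_assoc (w * z * y) x x, xx, mul_one]
    · refine use' _ hkx _ T4 ?_
      rw [e0, e1]
      calc k * (w * z * y * x) * y = k * (w * z * (y * x * y)) := by simp only [mul_assoc]
        _ = k * (w * (z * x) * y * x) := by rw [← xyx]; simp only [mul_assoc]
        _ = k * ((w * x) * z * y * x) := by rw [← xz]; simp only [mul_assoc]
        _ = _ := by rw [← xw]; simp only [mul_assoc]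
    · refine use' _ hky _ T4 ?_
      rw [e0, e1]
      calc k * (w * z * y * x) * z = k * (w * z * y * (x * z)) := by simp only [mul_assoc]
        _ = k * (w * (z * y * z) * x) := by rw [xz]; simp only [mul_assoc]
        _ = k * ((w * y) * z * y * x) := by rw [← yzy]; simp only [mul_assoc]
        _ = _ := by rw [← yw]; simp only [mul_assoc]
    · refine use' _ hkz _ T4 ?_
      rw [e0, e1]
      calc k * (w * z * y * x) * w = k * (w * z * y * (x * w)) := by simp only [mul_assoc]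
        _ = k * (w * z * (y * w) * x) := by rw [xw]; simp only [mul_assoc]
        _ = k * ((w * z * w) * y * x) := by rw [yw]; simp only [mul_assoc]
        _ = _ := by rw [← zwz]; simp only [mul_assoc]
  let K : Subgroup (Perm (Fin 5) × G) := Subgroup.closure {x, y, z, w}
  have hinv : ∀ g ∈ ({x, y, z, w} : Set (Perm (Fin 5) × G)), g⁻¹ = g := by
    rintro g (rfl | rfl | rfl | rfl) <;> exact inv_eq_of_mul_eq_one_right ‹_›
  have h1S : (1 : Perm (Fin 5) × G) ∈ S := by
    simpa using mem 1 (hK1d ▸ Finset.mem_image.2 ⟨1, Finset.mem_univ _, map_one ψ⟩) 1 (by simp [hT])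
  have hKS : ∀ g ∈ K, g ∈ S := by
    intro g hg
    induction hg using Subgroup.closure_induction_right with
    | one => exact h1S
    | mul_right s _ g hg ih => exact key g hg s ih
    | mul_inv_cancel s _ g hg ih => rw [hinv g hg]; exact key g hg s ih
  have hcard : Nat.card K ≤ 120 := by
    calc Nat.card K ≤ Nat.card (S : Set (Perm (Fin 5) × G)) := Nat.card_mono S.finite_toSet hKS
      _ = S.card := Nat.card_eq_finsetCard S
      _ ≤ (K1 ×ˢ T).card := by rw [hS]; exact Finset.card_image_le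
      _ = K1.card * T.card := Finset.card_product _ _
      _ ≤ 24 * 5 := by
        rw [hK1d, hT]
        exact Nat.mul_le_mul (Finset.card_image_le.trans (le_of_eq (by simp [Fintype.card_perm, Nat.factorial]))) Finset.card_le_five
  haveI : Finite K := Finite.of_injective (fun g : K => (⟨g.1, hKS g.1 g.2⟩ : S))
    (fun g g' hh => Subtype.ext (congrArg (fun u : S => u.1) hh))
  let pr : K →* Perm (Fin 5) := (MonoidHom.fst _ _).comp K.subtype
  have hsurj : Function.Surjective pr := by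
    have hgen : Subgroup.closure (Set.range fun i : Fin 4 => swap i.castSucc i.succ) = ⊤ := by
      refine eq_top_iff.2 fun g _ => Subgroup.le_closure_toSubmonoid _ ?_
      rw [Equiv.Perm.mclosure_swap_castSucc_succ 4]
      exact Submonoid.mem_top g
    rw [← MonoidHom.range_eq_top, eq_top_iff, ← hgen, Subgroup.closure_le]
    rintro σ ⟨i, rfl⟩
    fin_cases i
    · exact ⟨⟨x, Subgroup.subset_closure (by simp)⟩, congrArg Prod.fst hx⟩
    · exact ⟨⟨y, Subgroup.subset_closure (by simp)⟩, congrArg Prod.fst hy⟩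
    · exact ⟨⟨z, Subgroup.subset_closure (by simp)⟩, congrArg Prod.fst hz⟩
    · exact ⟨⟨w, Subgroup.subset_closure (by simp)⟩, congrArg Prod.fst hw⟩
  have hbij : Function.Bijective pr := by
    refine hsurj.bijective_of_nat_card_le ?_
    rw [Nat.card_perm, Nat.card_fin]
    exact hcard
  let f := MulEquiv.ofBijective pr hbij
  let φ : Perm (Fin 5) →* G := ((MonoidHom.snd _ _).comp K.subtype).comp f.symm.toMonoidHom
  have hφ : ∀ (g : Perm (Fin 5) × G) (hg : g ∈ K), φ g.1 = g.2 := by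
    intro g hg
    have : f.symm g.1 = ⟨g, hg⟩ := by rw [MulEquiv.symm_apply_eq]; rfl
    show (f.symm g.1 : K).1.2 = g.2
    rw [this]
  have fa : φ (swap 0 1) = a := by
    have := hφ x (Subgroup.subset_closure (by simp)); rwa [hx] at this
  have fb : φ (swap 1 2) = b := by
    have := hφ y (Subgroup.subset_closure (by simp)); rwa [hy] at this
  have fc : φ (swap 2 3) = c := by
    have := hφ z (Subgroup.subset_closure (by simp)); rwa [hz] at this
  have fe : φ (swap 3 4) = e := by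
    have := hφ w (Subgroup.subset_closure (by simp)); rwa [hw] at this
  refine ⟨φ, ?_, fa, fb, fc, fe⟩
  -- the restriction to the point stabiliser is injective
  obtain ⟨φ4, hφ4, g1, g2, g3⟩ := exists_hom_perm_four h ha hb hc hac hac' hab hbc
  let ι : Perm (Fin 4) →* Perm (Fin 5) := Equiv.Perm.extendDomainHom (finSuccAboveEquiv (4 : Fin 5))
  have hres : φ.comp ι = φ4 := by
    refine MonoidHom.eq_of_eqOn_top ?_
    rw [← (show Subgroup.closure (Set.range fun i : Fin 3 => swap i.castSucc i.succ) = (⊤ : Subgroup (Perm (Fin 4))) from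
      eq_top_iff.2 (fun g _ => Subgroup.le_closure_toSubmonoid _ ((Equiv.Perm.mclosure_swap_castSucc_succ 3).symm ▸ Submonoid.mem_top g)))]
    refine MonoidHom.eqOn_closure ?_
    rintro σ ⟨i, rfl⟩
    fin_cases i
    · show φ (ι (swap (0 : Fin 4) 1)) = φ4 (swap 0 1)
      rw [show ι (swap (0 : Fin 4) 1) = swap 0 1 by decide +kernel, fa, g1]
    · show φ (ι (swap (1 : Fin 4) 2)) = φ4 (swap 1 2)
      rw [show ι (swap (1 : Fin 4) 2) = swap 1 2 by decide +kernel, fb, g2]
    · show φ (ι (swap (2 : Fin 4) 3)) = φ4 (swap 2 3)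
      rw [show ι (swap (2 : Fin 4) 3) = swap 2 3 by decide +kernel, fc, g3]
  have hker4 : ∀ σ : Perm (Fin 5), σ 4 = 4 → φ σ = 1 → σ = 1 := by
    intro σ h4 hσ
    obtain ⟨τ, rfl⟩ := perm5_four σ h4
    have : φ4 τ = 1 := by rw [← hres]; exact hσ
    rw [(injective_iff_map_eq_one φ4).1 hφ4 τ this]
    exact map_one ι
  rw [injective_iff_map_eq_one]
  intro σ hσ
  by_contra hne
  obtain ⟨i, j, ⟨h4, hn1⟩ | ⟨h4, hn1⟩⟩ := perm5_closed σ hne (fun h4 => hne (hker4 σ h4 hσ))
  · refine hn1 (hker4 _ h4 ?_)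
    rw [map_mul, map_mul, map_mul, map_inv, hσ]
    rw [inv_one, mul_one, one_mul, ← map_mul, Equiv.swap_mul_self, map_one]
  · refine hn1 (hker4 _ h4 ?_)
    rw [map_mul, map_mul, hσ, mul_one, ← map_mul, Equiv.swap_mul_self, map_one]

/-- the ten transpositions -/
def pr10 : Fin 10 → Perm (Fin 5) :=
  ![swap 0 1, swap 0 2, swap 0 3, swap 0 4, swap 1 2, swap 1 3, swap 1 4, swap 2 3, swap 2 4, swap 3 4]

/-- disjoint transpositions -/
def nb : Fin 10 → Fin 3 → Fin 10 :=
  ![![7, 8, 9], ![5, 6, 9], ![4, 6, 8], ![4, 5, 7], ![2, 3, 9], ![1, 3, 8], ![1, 2, 7], ![0, 3, 6], ![0, 2, 5], ![0, 1, 4]]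

theorem nb_spec : ∀ i k, pr10 i * pr10 (nb i k) = pr10 (nb i k) * pr10 i ∧ nb i k ≠ i := by decide +kernel
theorem nb_inj : ∀ i, Function.Injective (nb i) := by decide +kernel
theorem pr10_inj : Function.Injective pr10 := by decide +kernel
theorem pr10_sq : ∀ i, ∃ a b : Fin 5, a ≠ b ∧ pr10 i = swap a b := by decide +kernel
theorem pr10_surj : ∀ a b : Fin 5, a ≠ b → ∃ i, pr10 i = swap a b := by decide +kernel

theorem no_colouring : ∀ e1 e2 : Fin 3, e1 ≠ e2 → ∀ e3, e3 ≠ e1 → e3 ≠ e2 → ∀ e6, e6 ≠ e3 → ∀ e13, e13 ≠ e3 → e13 ≠ e6 →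
    ∀ e4, e4 ≠ e6 → ∀ e5, e5 ≠ e4 → e5 ≠ e6 → ∀ e9, e9 ≠ e2 → ∀ e14, e14 ≠ e4 → e14 ≠ e2 → e14 ≠ e9 →
    ∀ e7, e7 ≠ e9 → e7 ≠ e13 → ∀ e8, e8 ≠ e7 → e8 ≠ e9 → e8 ≠ e5 → ∀ e10, e10 ≠ e7 → e10 ≠ e13 →
    ∀ e11, e11 ≠ e10 → e11 ≠ e4 → e11 ≠ e14 → ∀ e12, e12 ≠ e10 → e12 ≠ e11 → e12 ≠ e1 →
    ∀ e15 : Fin 3, e15 ≠ e5 → e15 ≠ e8 → e15 ≠ e1 → e15 ≠ e12 → False := by decide +kernel

theorem opposite_mem (h : IsThreeTranspositionSet D) (hconj : ∀ g : G, ∀ d ∈ D, g * d * g⁻¹ ∈ D) {a d x : G}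
    (ha : a ∈ D) (hd : d ∈ D) (hx : x ∈ D) (hne : a ≠ d) (hc : Commute a d) (hax : ¬ Commute a x) (hdx : ¬ Commute d x) :
    a * d * x * (a * d)⁻¹ ∈ Dn D x := by
  obtain ⟨φ, hφ, f1, f2, f3⟩ := exists_hom_perm_four h ha hx hd hne hc hax (fun hh => hdx hh.symm)
  have e : φ (swap 0 3) = a * d * x * (a * d)⁻¹ := by
    rw [show (swap 0 3 : Perm (Fin 4)) = swap 0 1 * swap 2 3 * swap 1 2 * (swap 0 1 * swap 2 3)⁻¹ by decide +kernel]
    simp only [map_mul, map_inv, f1, f2, f3]
  refine ⟨hconj _ _ hx, fun he => ?_, ?_⟩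
  · rw [← e, ← f2] at he
    exact absurd (hφ he) (by decide +kernel)
  · rw [← e, ← f2]
    exact Commute.map (show (swap 1 2 : Perm (Fin 4)) * swap 0 3 = swap 0 3 * swap 1 2 by decide +kernel) φ

theorem opposite_inj (h : IsThreeTranspositionSet D) {a d e x : G} (ha : a ∈ D) (hd : d ∈ D) (he : e ∈ D) (hx : x ∈ D)
    (hdx : ¬ Commute d x) (hex : ¬ Commute e x) (heq : a * d * x * (a * d)⁻¹ = a * e * x * (a * e)⁻¹) : d = e := by
  simp only [mul_inv_rev, inv_eq h ha, inv_eq h hd, inv_eq h he, mul_assoc] at heq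
  have h1 := mul_left_cancel heq
  rw [← mul_assoc x d, ← mul_assoc d, ← mul_assoc x e, ← mul_assoc e] at h1
  have h2 := mul_right_cancel h1
  rw [← mul_assoc, ← mul_assoc, braid h hd hx hdx, braid h he hx hex] at h2
  exact mul_left_cancel (mul_right_cancel h2)

section main

variable (h : IsThreeTranspositionSet D) (hconj : ∀ g : G, ∀ d ∈ D, g * d * g⁻¹ ∈ D)
  (hline : ∀ d ∈ D, ∃ a b, a ∈ Dn D d ∧ b ∈ Dn D d ∧ ¬ Commute a b ∧ Dn D d = {a, b, a * b * a})
  (hpair : ∀ d ∈ D, ∀ u ∈ Dn D d, ∀ v ∈ Dn D d, u ≠ v → ¬ Commute u v)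

include h hline in
theorem ncard_three {d : G} (hd : d ∈ D) : (Dn D d).ncard = 3 := by
  obtain ⟨a, b, ha, hb, hab, e⟩ := hline d hd
  rw [e]
  refine Set.ncard_eq_three.2 ⟨a, b, a * b * a, fun hh => hab (hh ▸ Commute.refl a), fun hh => hab ?_, fun hh => hab ?_, rfl⟩
  · have : a * b = 1 := by
      have := congrArg (fun v => v * a) hh
      simp only [mul_self h ha.1, mul_assoc, mul_one] at this
      exact this.symm
    have hba : b = a := by rw [← inv_eq h ha.1]; exact (inv_eq_of_mul_eq_one_right this).symm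
    rw [hba]
  · exact (commute_iff_conj h ha.1 b).2 hh.symm

theorem mem_symm {d e : G} (hd : d ∈ D) (he : e ∈ Dn D d) : d ∈ Dn D e := ⟨hd, fun hh => he.2.1 hh.symm, he.2.2.symm⟩

include h hconj hline hpair in
theorem petersen_case {d a b : G} (hd : d ∈ D) (ha : a ∈ Dn D d) (hb : b ∈ Dn D d) (hne : Dn D a ≠ Dn D b) :
    Nonempty (↥(Subgroup.closure D) ≃* Perm (Fin 5)) := by
  classical
  obtain ⟨a1, ha1, ha1'⟩ : ∃ a1 ∈ Dn D a, a1 ∉ Dn D b := by
    by_contra hall
    push Not at hall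
    refine hne (Set.eq_of_subset_of_ncard_le hall (le_of_eq ?_) (Set.finite_of_ncard_ne_zero ?_))
    · rw [ncard_three h hline hb.1, ncard_three h hline ha.1]
    · rw [ncard_three h hline hb.1]; norm_num
  have hab : ¬ Commute a b := hpair d hd a ha b hb (fun e => hne (by rw [e]))
  have hdA := mem_symm hd ha
  have h1 : a1 ≠ d := fun e => ha1' (e ▸ mem_symm hd hb)
  have h2 : a1 ≠ b := fun e => hab (e ▸ ha1.2.2)
  obtain ⟨φ, hφ, f1, f2, f3, f4⟩ := exists_hom_perm_five h hd ha1.1 hb.1 ha.1 (fun e => hb.2.1 e.symm) hb.2.2 ha.2.2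
    ha1.2.2.symm (hpair a ha.1 d hdA a1 ha1 (fun e => h1 e.symm))
    (fun hh => ha1' ⟨ha1.1, h2, hh.symm⟩) (fun hh => hab hh.symm)
  obtain ⟨v, hv⟩ : ∃ v : Fin 10 → G, v = fun i => φ (pr10 i) := ⟨_, rfl⟩
  have hmem : ∀ i, v i ∈ D := by
    have gen : ∀ a b : Fin 5, a ≠ b → ∃ g : Perm (Fin 5), swap a b = g * swap 0 1 * g⁻¹ := by
      intro a b hab
      have hc : IsConj (swap (0 : Fin 5) 1) (swap a b) := Equiv.Perm.isConj_swap (by decide) hab
      obtain ⟨g, hg⟩ := isConj_iff.1 hc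
      exact ⟨g, hg.symm⟩
    intro i
    obtain ⟨a, b, hab, e⟩ := pr10_sq i
    obtain ⟨g, hg⟩ := gen a b hab
    simp only [hv, e, hg, map_mul, map_inv, f1]
    exact hconj _ _ hd
  have vinj : Function.Injective v := by rw [hv]; exact hφ.comp pr10_inj
  have vcomm : ∀ i k, Commute (v i) (v (nb i k)) := fun i k => by
    simp only [hv]; exact Commute.map (nb_spec i k).1 φ
  have hnb : ∀ i, Dn D (v i) = Set.range fun k => v (nb i k) := by
    intro i
    refine (Set.eq_of_subset_of_ncard_le ?_ (le_of_eq ?_) (Set.finite_of_ncard_ne_zero ?_)).symm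
    · rintro _ ⟨k, rfl⟩
      exact ⟨hmem _, fun e => (nb_spec i k).2 (vinj e), vcomm i k⟩
    · rw [ncard_three h hline (hmem i), Set.ncard_range_of_injective (f := fun k => v (nb i k)) (vinj.comp (nb_inj i))]
      simp
    · rw [ncard_three h hline (hmem i)]; norm_num
  have hall : D ⊆ Set.range v := by
    intro x hx
    by_contra hxr
    have hout : ∀ i, ¬ Commute (v i) x := fun i hc => hxr (by
      have : x ∈ Dn D (v i) := ⟨hx, fun e => hxr ⟨i, e.symm⟩, hc⟩
      rw [hnb i] at this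
      obtain ⟨k, hk⟩ := this
      exact ⟨nb i k, hk⟩)
    obtain ⟨p, q, hp, hq, hpq, he⟩ := hline x hx
    have hcol : ∀ i k, ∃ c : Fin 3, ![p, q, p * q * p] c = v i * v (nb i k) * x * (v i * v (nb i k))⁻¹ := by
      intro i k
      have := opposite_mem h hconj (hmem i) (hmem _) hx (fun e => (nb_spec i k).2 (vinj e.symm)) (vcomm i k)
        (hout _) (hout _)
      rw [he] at this
      rcases this with e | e | e
      · exact ⟨0, e.symm⟩
      · exact ⟨1, e.symm⟩
      · exact ⟨2, e.symm⟩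
    choose col hcol' using hcol
    have sym : ∀ i k j l, nb i k = j → nb j l = i → col i k = col j l := by
      intro i k j l e1 e2
      have hinj : Function.Injective ![p, q, p * q * p] := by
        have hc := ncard_three h hline hx
        rw [he] at hc
        intro c c' hcc
        by_contra hne'
        have key : (Set.range ![p, q, p * q * p]) = {p, q, p * q * p} := by
          refine Set.Subset.antisymm ?_ ?_
          · rintro _ ⟨c, rfl⟩
            fin_cases c <;> simp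
          · rintro _ (rfl | rfl | rfl)
            exacts [⟨0, rfl⟩, ⟨1, rfl⟩, ⟨2, rfl⟩]
        have : Fintype.card (Fin 3) = 3 := rfl
        have h3 : (Set.range ![p, q, p * q * p]).ncard ≤ 2 := by
          have hsub : Set.range ![p, q, p * q * p] ⊆ (fun w => ![p, q, p * q * p] w) '' {w | w ≠ c'} := by
            rintro _ ⟨w, rfl⟩
            by_cases hw : w = c'
            · exact ⟨c, hne', by rw [hw]; exact hcc⟩
            · exact ⟨w, hw, rfl⟩
          refine (Set.ncard_le_ncard hsub (Set.toFinite _)).trans ((Set.ncard_image_le (Set.toFinite _)).trans ?_)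
          rw [show ({w | w ≠ c'} : Set (Fin 3)) = {c'}ᶜ from rfl, Set.ncard_compl, Set.ncard_singleton]
          simp
        rw [key, hc] at h3
        omega
      apply hinj
      rw [hcol', hcol', e1, e2, (show Commute (v i) (v j) from e1 ▸ vcomm i k).eq]
    have dist : ∀ i k l, k ≠ l → col i k ≠ col i l := by
      intro i k l hkl e
      have := (hcol' i k).symm.trans (e ▸ hcol' i l)
      exact hkl (nb_inj i (vinj (opposite_inj h (hmem i) (hmem _) (hmem _) hx (hout _) (hout _) this)))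
    have N := fun i => (⟨dist i 0 1 (by decide), dist i 0 2 (by decide), dist i 1 2 (by decide)⟩ :
      col i 0 ≠ col i 1 ∧ col i 0 ≠ col i 2 ∧ col i 1 ≠ col i 2)
    have s71 : col 7 0 = col 0 0 := sym 7 0 0 0 rfl rfl
    have s81 : col 8 0 = col 0 1 := sym 8 0 0 1 rfl rfl
    have s91 : col 9 0 = col 0 2 := sym 9 0 0 2 rfl rfl
    have s51 : col 5 0 = col 1 0 := sym 5 0 1 0 rfl rfl
    have s61 : col 6 0 = col 1 1 := sym 6 0 1 1 rfl rfl
    have s92 : col 9 1 = col 1 2 := sym 9 1 1 2 rfl rfl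
    have s41 : col 4 0 = col 2 0 := sym 4 0 2 0 rfl rfl
    have s62 : col 6 1 = col 2 1 := sym 6 1 2 1 rfl rfl
    have s82 : col 8 1 = col 2 2 := sym 8 1 2 2 rfl rfl
    have s42 : col 4 1 = col 3 0 := sym 4 1 3 0 rfl rfl
    have s52 : col 5 1 = col 3 1 := sym 5 1 3 1 rfl rfl
    have s72 : col 7 1 = col 3 2 := sym 7 1 3 2 rfl rfl
    have s93 : col 9 2 = col 4 2 := sym 9 2 4 2 rfl rfl
    have s83 : col 8 2 = col 5 2 := sym 8 2 5 2 rfl rfl
    have s73 : col 7 2 = col 6 2 := sym 7 2 6 2 rfl rfl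
    have V0 := N 0; have V1 := N 1; have V2 := N 2; have V3 := N 3; have V4 := N 4
    have V5 := N 5; have V6 := N 6; have V7 := N 7; have V8 := N 8; have V9 := N 9
    rw [s41, s42] at V4; rw [s51, s52] at V5; rw [s61, s62] at V6
    rw [s71, s72, s73] at V7; rw [s81, s82, s83] at V8; rw [s91, s92, s93] at V9
    exact no_colouring (col 0 0) (col 0 1) V0.1 (col 0 2) V0.2.1.symm V0.2.2.symm (col 1 2) V9.1.symm (col 4 2) V9.2.1.symm
      V9.2.2.symm (col 1 0) V1.2.1 (col 1 1) V1.1.symm V1.2.2 (col 2 2) V8.1.symm (col 5 2) V5.2.1.symm V8.2.1.symm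
      V8.2.2.symm (col 2 0) V2.2.1 V4.2.1 (col 2 1) V2.1.symm V2.2.2 V6.1.symm (col 3 0) V4.1.symm V4.2.2
      (col 3 1) V3.1.symm V5.1.symm V5.2.2 (col 3 2) V3.2.1.symm V3.2.2.symm V7.1.symm (col 6 2) V6.2.1.symm V6.2.2.symm
      V7.2.1.symm V7.2.2.symm
  have hrange : φ.range = Subgroup.closure D := by
    refine le_antisymm ?_ ((Subgroup.closure_le _).2 fun x hx => ?_)
    · rw [MonoidHom.range_eq_map, ← Equiv.Perm.closure_isSwap, MonoidHom.map_closure, Subgroup.closure_le]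
      rintro _ ⟨σ, ⟨a, b, hab, rfl⟩, rfl⟩
      obtain ⟨i, hi⟩ := pr10_surj a b hab
      rw [← hi, ← congrFun hv i]
      exact Subgroup.subset_closure (hmem i)
    · obtain ⟨i, rfl⟩ := hall hx
      exact ⟨pr10 i, (congrFun hv i).symm⟩
  exact ⟨((MonoidHom.ofInjective hφ).trans (MulEquiv.subgroupCongr hrange)).symm⟩

variable (hU : ∀ d ∈ D, ∀ a ∈ Dn D d, ∀ b ∈ Dn D d, Dn D a = Dn D b)

include h hconj in
theorem conj_Dn (g d : G) {y : G} (hy : y ∈ Dn D d) : g * y * g⁻¹ ∈ Dn D (g * d * g⁻¹) := by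
  refine ⟨hconj g y hy.1, fun e => hy.2.1 ?_, ?_⟩
  · exact mul_left_cancel (mul_right_cancel e)
  · exact hy.2.2.conj g

include h hconj in
theorem conj_Dn_eq (g d : G) : Dn D (g * d * g⁻¹) = (fun y => g * y * g⁻¹) '' Dn D d := by
  refine Set.Subset.antisymm (fun y hy => ?_) (by rintro _ ⟨y, hy, rfl⟩; exact conj_Dn h hconj g d hy)
  refine ⟨g⁻¹ * y * g, ?_, by group⟩
  have := conj_Dn h hconj g⁻¹ _ hy
  simpa [mul_assoc] using this

include h hconj hU in
theorem translation_fix {y u v x : G} (hy : y ∈ D) (hu : u ∈ Dn D y) (hv : v ∈ Dn D y) (hx : x ∈ D) :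
    Dn D (u * v * x * (u * v)⁻¹) = Dn D x := by
  by_cases huv : u = v
  · rw [huv, mul_self h hv.1, inv_one, one_mul, mul_one]
  have same : Dn D u = Dn D v := hU y hy u hu v hv
  by_cases hxy : x ∈ Dn D y
  · refine hU y hy _ ?_ x hxy
    have hc : u * v * y * (u * v)⁻¹ = y := by
      have : Commute (u * v) y := (hu.2.2.symm).mul_left hv.2.2.symm
      rw [this.eq, mul_inv_cancel_right]
    have := conj_Dn h hconj (u * v) y hxy
    rwa [hc] at this
  have fixcase : Commute u x → Commute v x → Dn D (u * v * x * (u * v)⁻¹) = Dn D x := fun h1 h2 => by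
    have : u * v * x * (u * v)⁻¹ = x := by rw [(h1.mul_left h2).eq, mul_inv_cancel_right]
    rw [this]
  by_cases hux : Commute u x
  · have h1 : x ∈ Dn D u := ⟨hx, fun e => hxy (e ▸ hu), hux⟩
    rw [same] at h1
    exact fixcase hux h1.2.2
  by_cases hvx : Commute v x
  · have h1 : x ∈ Dn D v := ⟨hx, fun e => hxy (e ▸ hv), hvx⟩
    rw [← same] at h1
    exact fixcase h1.2.2 hvx
  have hyx : ¬ Commute y x := fun hc => by
    by_cases e : x = y
    · exact hux (e ▸ hu.2.2.symm)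
    · exact hxy ⟨hx, e, hc⟩
  have step : ∀ w ∈ Dn D y, ¬ Commute w x → w * x * w⁻¹ ∈ Dn D (y * x * y⁻¹) := by
    intro w hw hwx
    have := conj_Dn h hconj y x (opposite_mem h hconj hy hw.1 hx (fun e => hw.2.1 e.symm) hw.2.2 hyx hwx)
    convert this using 1
    simp only [mul_inv_rev, inv_eq h hy, inv_eq h hw.1, mul_assoc, mul_cancel h hy]
    rw [mul_self h hy, mul_one]
  have e := hU _ (hconj y x hx) _ (step v hv hvx) _ (step u hu hux)
  have := congrArg (fun s => (fun z => u * z * u⁻¹) '' s) e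
  simp only [← conj_Dn_eq h hconj] at this
  convert this using 2
  · group
  · simp only [inv_eq h hu.1, mul_assoc, mul_cancel h hu.1, mul_self h hu.1, mul_one]

end main

section zmod

theorem no_action : ∀ p q r u : ZMod 3,
    ((p * p + r * q = 1 ∧ q * p + u * q = 0) ∧ (p * r + r * u = 0 ∧ q * r + u * u = 1)) →
    ((-(-p) = -(p * p) + r * q ∧ q * -1 = -(q * p) + u * q) ∧ (-r = -(p * r) + r * u ∧ u = -(q * r) + u * u)) →
    ((p = p * p + -(r * q) ∧ -q = q * p + -(u * q)) ∧ (-r = p * r + -(r * u) ∧ u = q * r + -(u * u))) →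
    ¬ (p = 1 ∧ q = 0) → ¬ (r = 0 ∧ u = 1) → False := by decide +kernel

end zmod

theorem three_core_large [Finite G] (h : IsThreeTranspositionSet D) (hconj : ∀ g : G, ∀ d ∈ D, g * d * g⁻¹ ∈ D)
    (hline : ∀ d ∈ D, ∃ a b, a ∈ Dn D d ∧ b ∈ Dn D d ∧ ¬ Commute a b ∧ Dn D d = {a, b, a * b * a})
    (hU : ∀ d ∈ D, ∀ a ∈ Dn D d, ∀ b ∈ Dn D d, Dn D a = Dn D b)
    {d a x : G} (hd : d ∈ D) (ha : a ∈ Dn D d) (hx : x ∈ D) (hxd : x ∉ Dn D d) (hxa : x ∉ Dn D a) :
    Nat.card (Cfsg.pCore 3 ↥(Subgroup.centralizer ({d} : Set G))) ≠ 3 := by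
  classical
  intro hcore
  obtain ⟨a0, b, ha0, hb, hab, hdl⟩ := hline d hd
  obtain ⟨d0, e, hd0, he, hde, hal⟩ := hline a0 ha0.1
  -- we may start from the first points of the lines
  rw [hU d hd a ha a0 ha0] at hxa
  have hdA := mem_symm hd ha0
  obtain ⟨t, ht⟩ : ∃ t, t = a0 * b := ⟨_, rfl⟩
  obtain ⟨s, hs⟩ : ∃ s, s = d0 * e := ⟨_, rfl⟩
  let Q : Set G := {g | ∃ y ∈ D, ∃ u ∈ Dn D y, ∃ v ∈ Dn D y, g = u * v}
  let T := Subgroup.closure Q
  have htT : t ∈ T := Subgroup.subset_closure ⟨d, hd, a0, ha0, b, hb, ht⟩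
  have hsT : s ∈ T := Subgroup.subset_closure ⟨a0, ha0.1, d0, hd0, e, he, hs⟩
  haveI hTn : T.Normal := ⟨fun g hg k => by
    induction hg using Subgroup.closure_induction with
    | mem w hw =>
      obtain ⟨y, hy, u, hu, v, hv, rfl⟩ := hw
      exact Subgroup.subset_closure ⟨_, hconj k y hy, _, conj_Dn h hconj k y hu, _, conj_Dn h hconj k y hv, by group⟩
    | one => simp
    | mul w w' _ _ h1 h2 => rw [show k * (w * w') * k⁻¹ = (k * w * k⁻¹) * (k * w' * k⁻¹) by group]; exact mul_mem h1 h2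
    | inv w _ h1 => rw [show k * w⁻¹ * k⁻¹ = (k * w * k⁻¹)⁻¹ by group]; exact inv_mem h1⟩
  have hTD : T ≤ Subgroup.closure D := (Subgroup.closure_le _).2 fun g ⟨y, hy, u, hu, v, hv, e⟩ =>
    e ▸ mul_mem (Subgroup.subset_closure hu.1) (Subgroup.subset_closure hv.1)
  have hcube : ∀ u v : G, u ∈ D → v ∈ D → ¬ Commute u v → (u * v) ^ 3 = 1 := fun u v hu hv hn =>
    (h.2 u hu v hv).resolve_left fun h2 => hn (by
      rw [pow_two, mul_eq_one_iff_eq_inv, mul_inv_rev, inv_eq h hu, inv_eq h hv] at h2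
      exact h2)
  have hQ3 : ∀ g ∈ Q, g ^ 3 = 1 := by
    rintro _ ⟨y, hy, u, hu, v, hv, rfl⟩
    by_cases hc : u = v
    · rw [hc, mul_self h hv.1, one_pow]
    · refine hcube u v hu.1 hv.1 fun hh => ?_
      have h1 : v ∈ Dn D u := ⟨hv.1, fun e => hc e.symm, hh⟩
      rw [hU y hy u hu v hv] at h1
      exact h1.2.1 rfl
  have hQfix : ∀ g ∈ Q, ∀ y ∈ D, Dn D (g * y * g⁻¹) = Dn D y := by
    rintro _ ⟨y, hy, u, hu, v, hv, rfl⟩ z hz
    exact translation_fix h hconj hU hy hu hv hz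
  have hTfix : ∀ g ∈ T, ∀ y ∈ D, Dn D (g * y * g⁻¹) = Dn D y := by
    intro g hg
    induction hg using Subgroup.closure_induction with
    | mem w hw => exact hQfix w hw
    | one => intro y _; simp
    | mul w w' _ _ h1 h2 =>
      intro y hy
      rw [show w * w' * y * (w * w')⁻¹ = w * (w' * y * w'⁻¹) * w⁻¹ by group, h1 _ (hconj w' y hy), h2 y hy]
    | inv w _ h1 =>
      intro y hy
      have := h1 _ (hconj w⁻¹ y hy)
      rw [show w * (w⁻¹ * y * w⁻¹⁻¹) * w⁻¹ = y by group] at this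
      exact this.symm
  have hmaps : ∀ g ∈ T, ∀ y ∈ D, ∀ z ∈ Dn D y, g * z * g⁻¹ ∈ Dn D y := fun g hg y hy z hz => by
    have := conj_Dn h hconj g y hz
    rwa [hTfix g hg y hy] at this
  haveI : ∀ y, Finite (Dn D y) := fun y => inferInstance
  let ρ : ∀ y : {y // y ∈ D}, ↥T →* Perm (Dn D y.1) := fun y =>
    MonoidHom.mk' (fun g =>
      { toFun := fun z => ⟨g.1 * z.1 * g.1⁻¹, hmaps g g.2 y y.2 z z.2⟩
        invFun := fun z => ⟨g.1⁻¹ * z.1 * g.1, by simpa using hmaps g.1⁻¹ (inv_mem g.2) y y.2 z z.2⟩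
        left_inv := fun z => Subtype.ext (by group)
        right_inv := fun z => Subtype.ext (by group) })
      (fun g g' => Equiv.ext fun z => Subtype.ext (by simp [mul_assoc]))
  have hρ : ∀ (y : {y // y ∈ D}) (g g' : ↥T), ρ y g * ρ y g' = ρ y g' * ρ y g ∧ ρ y g ^ 3 = 1 := by
    intro y
    have hc3 : Nat.card (Dn D y.1) = 3 := ncard_three h hline y.2
    let eq3 := (Finite.equivFinOfCardEq hc3)
    let E := eq3.permCongrHom
    have all : ∀ g : ↥T, (E (ρ y g)) ^ 3 = 1 := by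
      rintro ⟨g, hg⟩
      induction hg using Subgroup.closure_induction with
      | mem w hw =>
        rw [← map_pow, ← map_pow, show (⟨w, Subgroup.subset_closure hw⟩ : ↥T) ^ 3 = 1 from Subtype.ext (hQ3 w hw)]
        simp
      | one => rw [show (⟨1, one_mem _⟩ : ↥T) = 1 from rfl]; simp
      | mul w w' hw hw' h1 h2 =>
        rw [show (⟨w * w', mul_mem hw hw'⟩ : ↥T) = ⟨w, hw⟩ * ⟨w', hw'⟩ from rfl, map_mul, map_mul]
        exact (perm3_cube _ _ h1 h2).2
      | inv w hw h1 =>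
        rw [show (⟨w⁻¹, inv_mem hw⟩ : ↥T) = (⟨w, hw⟩ : ↥T)⁻¹ from rfl, map_inv, map_inv, inv_pow, h1, inv_one]
    intro g g'
    refine ⟨E.injective ?_, E.injective ?_⟩
    · rw [map_mul, map_mul]; exact (perm3_cube _ _ (all g) (all g')).1
    · rw [map_pow, map_one]; exact all g
  have hcent : ∀ g g' k : G, g ∈ T → g' ∈ T → k ∈ T → Commute (g * g' * g⁻¹ * g'⁻¹) k := by
    intro g g' k hg hg' hk
    suffices hz : ∀ z ∈ D, Commute (g * g' * g⁻¹ * g'⁻¹) z by
      have hle : Subgroup.closure D ≤ Subgroup.centralizer {g * g' * g⁻¹ * g'⁻¹} := by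
        rw [Subgroup.closure_le]
        intro z hz'
        exact Subgroup.mem_centralizer_singleton_iff.2 (hz z hz').eq.symm
      exact (Subgroup.mem_centralizer_singleton_iff.1 (hle (hTD hk))).symm
    intro z hz
    obtain ⟨y, -, hy, -, -, -⟩ := hline z hz
    have hzy : z ∈ Dn D y := mem_symm hz hy
    have hone : ρ ⟨y, hy.1⟩ (⟨g, hg⟩ * ⟨g', hg'⟩ * (⟨g, hg⟩ : ↥T)⁻¹ * (⟨g', hg'⟩ : ↥T)⁻¹) = 1 := by
      rw [map_mul, map_mul, map_mul, map_inv, map_inv, (hρ ⟨y, hy.1⟩ ⟨g, hg⟩ ⟨g', hg'⟩).1]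
      group
    have := congrArg Subtype.val (Equiv.ext_iff.1 hone ⟨z, hzy⟩)
    change (g * g' * g⁻¹ * g'⁻¹) * z * (g * g' * g⁻¹ * g'⁻¹)⁻¹ = z at this
    exact mul_inv_eq_iff_eq_mul.1 this
  have hexp : ∀ g ∈ T, g ^ 3 = 1 := by
    intro g hg
    induction hg using Subgroup.closure_induction with
    | mem w hw => exact hQ3 w hw
    | one => simp
    | inv w _ h1 => rw [inv_pow, h1, inv_one]
    | mul w w' hw hw' h1 h2 =>
      obtain ⟨c, hc⟩ : ∃ c, c = w' * w * w'⁻¹ * w⁻¹ := ⟨_, rfl⟩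
      have cw : Commute c w := hc ▸ hcent w' w w hw' hw hw
      have cw' : Commute c w' := hc ▸ hcent w' w w' hw' hw hw'
      have e1 : w' * w = c * (w * w') := by rw [hc]; group
      have l1 : ∀ v, w' * (w * v) = c * (w * (w' * v)) := fun v => by rw [← mul_assoc, e1]; simp only [mul_assoc]
      have l2 : w' * c = c * w' := cw'.eq.symm
      have l3 : ∀ v, w' * (c * v) = c * (w' * v) := fun v => by rw [← mul_assoc, l2, mul_assoc]
      have l4 : w * c = c * w := cw.eq.symm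
      have l5 : ∀ v, w * (c * v) = c * (w * v) := fun v => by rw [← mul_assoc, l4, mul_assoc]
      have e3 : w' ^ 3 * w = c ^ 3 * (w * w' ^ 3) := by
        simp only [pow_succ, pow_zero, one_mul, mul_assoc, e1, l1, l2, l3, l4, l5]
      have c3 : c ^ 3 = 1 := by
        rw [h2, one_mul, mul_one] at e3
        exact mul_eq_right.1 e3.symm
      calc (w * w') ^ 3 = c ^ 3 * (w ^ 3 * w' ^ 3) := by
            simp only [pow_succ, pow_zero, one_mul, mul_assoc, e1, l1, l2, l3, l4, l5]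
        _ = 1 := by rw [h1, h2, c3, mul_one, mul_one]
  -- the centraliser of d meets T in the powers of t
  have t3 : t ^ 3 = 1 := ht ▸ hcube a0 b ha0.1 hb.1 hab
  have s3 : s ^ 3 = 1 := hs ▸ hcube d0 e hd0.1 he.1 hde
  have t1 : t ≠ 1 := fun e1 => hab (by
    have : b = a0 := by rw [← inv_eq h ha0.1]; exact (inv_eq_of_mul_eq_one_right (ht ▸ e1)).symm
    rw [this])
  have htd : Commute t d := ht ▸ (ha0.2.2.symm).mul_left hb.2.2.symm
  let U : Subgroup ↥(Subgroup.centralizer ({d} : Set G)) := T.subgroupOf _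
  have hUP : U ≤ Cfsg.pCore 3 ↥(Subgroup.centralizer ({d} : Set G)) := by
    refine le_sSup ⟨inferInstance, fun g => ⟨1, Subtype.ext (Subtype.ext ?_)⟩⟩
    simpa using hexp g.1.1 g.2
  let t' : ↥(Subgroup.centralizer ({d} : Set G)) := ⟨t, Subgroup.mem_centralizer_singleton_iff.2 htd.eq⟩
  have hUt : ∀ g ∈ T, Commute g d → g ∈ Subgroup.zpowers t := by
    intro g hg hgd
    have ho : orderOf t' = 3 := by
      rw [← Subgroup.orderOf_coe]
      exact orderOf_eq_prime t3 t1
    have hle : Subgroup.zpowers t' ≤ U := Subgroup.zpowers_le.2 htT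
    have : Subgroup.zpowers t' = U := Subgroup.eq_of_le_of_card_ge hle (by
      rw [Nat.card_zpowers, ho, ← hcore]
      exact Subgroup.card_le_of_le hUP)
    have hgU : (⟨g, Subgroup.mem_centralizer_singleton_iff.2 hgd.eq⟩ : ↥(Subgroup.centralizer ({d} : Set G))) ∈ U := hg
    rw [← this, Subgroup.mem_zpowers_iff] at hgU
    obtain ⟨k, hk⟩ := hgU
    exact Subgroup.mem_zpowers_iff.2 ⟨k, congrArg Subtype.val hk⟩
  -- powers indexed by residues
  let tp : ∀ g : G, ZMod 3 → G := fun g i => g ^ i.val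
  have tp_nat : ∀ g : G, g ^ 3 = 1 → ∀ k : ℕ, g ^ k = tp g (k : ZMod 3) := fun g hg k => by
    show g ^ k = g ^ (k : ZMod 3).val
    rw [ZMod.val_natCast, ← pow_eq_pow_mod k hg]
  have tp_add : ∀ g : G, g ^ 3 = 1 → ∀ i j : ZMod 3, tp g i * tp g j = tp g (i + j) := fun g hg i j => by
    show g ^ i.val * g ^ j.val = _
    rw [← pow_add, tp_nat g hg, Nat.cast_add, ZMod.natCast_zmod_val, ZMod.natCast_zmod_val]
  have hts : Commute t s := by
    have l : ∀ w ∈ Dn D a0, Commute a0 w ∧ Commute b w := fun w hw => by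
      refine ⟨hw.2.2, ?_⟩
      rw [hU d hd a0 ha0 b hb] at hw
      exact hw.2.2
    rw [ht, hs]
    exact (((l d0 hd0).1).mul_right (l e he).1).mul_left (((l d0 hd0).2).mul_right (l e he).2)
  let θ : ZMod 3 → ZMod 3 → G := fun i j => tp t i * tp s j
  have θmul : ∀ i j i' j', θ i j * θ i' j' = θ (i + i') (j + j') := fun i j i' j' => by
    show tp t i * tp s j * (tp t i' * tp s j') = tp t (i + i') * tp s (j + j')
    rw [← tp_add t t3, ← tp_add s s3]
    simp only [mul_assoc]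
    congr 1
    rw [← mul_assoc, ← mul_assoc, ((hts.pow_pow i'.val j.val).symm : Commute (tp s j) (tp t i')).eq]
  -- s moves d
  have hsd : ∀ j : ZMod 3, Commute (tp s j) d → j = 0 := by
    have hs1 : ¬ Commute s d := fun hc => by
      have hd' : d ∈ Dn D a0 := hdA
      have h1 : s * d * s⁻¹ = d := by rw [hc.eq, mul_inv_cancel_right]
      rw [hal] at hd'
      have hc' : d0 * e * d = d * (d0 * e) := by rw [← hs]; exact hc.eq
      rcases hd' with e1 | e1 | e1
      · rw [e1, mul_assoc] at hc'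
        exact hde (mul_left_cancel hc').symm
      · rw [e1, mul_assoc, mul_self h he.1, mul_one, ← mul_assoc] at hc'
        exact hde ((commute_iff_conj h he.1 d0).2 hc'.symm).symm
      · rw [e1] at hc'
        simp only [mul_assoc, mul_cancel h hd0.1, mul_self h he.1, mul_one] at hc'
        have h2 : e * (d0 * (e * d0)) = 1 := mul_left_cancel (hc'.trans (mul_one d0).symm)
        refine hde ((commute_iff_conj h he.1 d0).2 ?_).symm
        rw [mul_assoc, ← inv_eq h hd0.1, eq_inv_iff_mul_eq_one, inv_eq h hd0.1]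
        simpa only [mul_assoc] using h2
    intro j hj
    have hall : ∀ i : ZMod 3, i = 0 ∨ i = 1 ∨ i = -1 := by decide
    rcases hall j with rfl | rfl | rfl
    · rfl
    · exact absurd (show Commute s d by simpa [tp, ZMod.val_one] using hj) hs1
    · exfalso
      refine hs1 ?_
      have h2 : tp s (-1) * tp s (-1) = s := by
        rw [tp_add s s3]
        show s ^ (-1 + -1 : ZMod 3).val = s
        rw [show ((-1 + -1 : ZMod 3)).val = 1 from rfl, pow_one]
      rw [← h2]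
      exact hj.mul_left hj
  have hspan : ∀ g ∈ T, ∃ i j, g = θ i j := by
    intro g hg
    obtain ⟨k, hk, hfix⟩ : ∃ k : ZMod 3, True ∧ Commute ((tp s k)⁻¹ * g) d := by
      have hmem : ∀ k : ZMod 3, tp s k * d * (tp s k)⁻¹ ∈ Dn D a0 := fun k =>
        hmaps _ (pow_mem hsT _) a0 ha0.1 d hdA
      have hinj : Function.Injective (fun k : ZMod 3 => (⟨_, hmem k⟩ : Dn D a0)) := fun k l hkl => by
        have hkl' := congrArg Subtype.val hkl
        simp only at hkl'
        have : l - k = 0 := by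
          refine hsd _ ?_
          have e1 : tp s l = tp s k * tp s (l - k) := by rw [tp_add s s3, add_sub_cancel]
          rw [e1, mul_inv_rev] at hkl'
          have h2 : tp s (l - k) * d * (tp s (l - k))⁻¹ = d := by
            have := congrArg (fun w => (tp s k)⁻¹ * w * tp s k) hkl'
            simp only [mul_assoc, inv_mul_cancel_left, inv_mul_cancel, mul_one] at this
            simpa only [mul_assoc] using this.symm
          exact mul_inv_eq_iff_eq_mul.1 h2
        exact (sub_eq_zero.1 this).symm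
      have hsurj : Function.Surjective (fun k : ZMod 3 => (⟨_, hmem k⟩ : Dn D a0)) :=
        (hinj.bijective_of_nat_card_le (le_of_eq ((ncard_three h hline ha0.1).trans (Nat.card_zmod 3).symm))).2
      obtain ⟨k, hk⟩ := hsurj ⟨g * d * g⁻¹, hmaps g hg a0 ha0.1 d hdA⟩
      refine ⟨k, trivial, mul_inv_eq_iff_eq_mul.1 ?_⟩
      have hk' : tp s k * d * (tp s k)⁻¹ = g * d * g⁻¹ := congrArg Subtype.val hk
      calc (tp s k)⁻¹ * g * d * ((tp s k)⁻¹ * g)⁻¹ = (tp s k)⁻¹ * (g * d * g⁻¹) * tp s k := by group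
        _ = d := by rw [← hk']; group
    obtain ⟨i, hi⟩ := Subgroup.mem_zpowers_iff.1 (hUt _ (mul_mem (inv_mem (pow_mem hsT _)) hg) hfix)
    refine ⟨(i : ZMod 3), k, ?_⟩
    have hti : t ^ i = tp t (i : ZMod 3) := by
      show t ^ i = t ^ (i : ZMod 3).val
      rw [← zpow_natCast, ZMod.val_intCast, ← zpow_eq_zpow_emod' i t3]
    show g = tp t _ * tp s k
    rw [← hti, ((hts.zpow_left i).pow_right k.val : Commute (t ^ i) (tp s k)).eq, hi, mul_inv_cancel_left]
  have θinj : ∀ i j i' j', θ i j = θ i' j' → i = i' ∧ j = j' := by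
    intro i j i' j' he'
    have h0 : θ (i - i') (j - j') = 1 := by
      have h' := θmul (i - i') (j - j') i' j'
      rw [sub_add_cancel, sub_add_cancel, he'] at h'
      exact mul_eq_right.1 h'
    have hj : j - j' = 0 := by
      refine hsd _ ?_
      have h2 : tp s (j - j') = (tp t (i - i'))⁻¹ := (inv_eq_of_mul_eq_one_right h0).symm
      rw [h2]
      exact (htd.pow_left _).inv_left
    have h1 : tp t (i - i') = 1 := by
      have : θ (i - i') 0 = 1 := hj ▸ h0
      simpa [θ, tp, ZMod.val_zero] using this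
    have hi : i - i' = 0 := by
      have h3 : orderOf t = 3 := orderOf_eq_prime t3 t1
      have := orderOf_dvd_of_pow_eq_one h1
      rw [h3] at this
      exact (ZMod.val_eq_zero _).1 (Nat.eq_zero_of_dvd_of_lt this (ZMod.val_lt _))
    exact ⟨sub_eq_zero.1 hi, sub_eq_zero.1 hj⟩
  have θ10 : θ 1 0 = t := by simp [θ, tp, ZMod.val_one, ZMod.val_zero]
  have θ01 : θ 0 1 = s := by simp [θ, tp, ZMod.val_one, ZMod.val_zero]
  have act : ∀ (g : G) (p q r u : ZMod 3), g * t * g⁻¹ = θ p q → g * s * g⁻¹ = θ r u →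
      ∀ i j, g * θ i j * g⁻¹ = θ (p * i + r * j) (q * i + u * j) := by
    intro g p q r u h1 h2 i j
    have pw : ∀ (p q : ZMod 3) (k : ℕ), θ p q ^ k = θ (p * k) (q * k) := by
      intro p q k
      induction k with
      | zero => simp [θ, tp, ZMod.val_zero]
      | succ k ih => rw [pow_succ, ih, θmul, Nat.cast_succ, mul_add, mul_add, mul_one, mul_one]
    calc g * θ i j * g⁻¹ = (g * t * g⁻¹) ^ i.val * (g * s * g⁻¹) ^ j.val := by
          rw [conj_pow, conj_pow]; show g * (tp t i * tp s j) * g⁻¹ = g * tp t i * g⁻¹ * (g * tp s j * g⁻¹); group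
      _ = _ := by rw [h1, h2, pw, pw, θmul, ZMod.natCast_zmod_val, ZMod.natCast_zmod_val]
  have neg1 : ∀ u v : G, u ∈ D → v ∈ D → (u * v) ^ 3 = 1 → u * (u * v) * u⁻¹ = tp (u * v) (-1) := by
    intro u v hu hv h3
    show _ = (u * v) ^ (-1 : ZMod 3).val
    rw [show (-1 : ZMod 3).val = 2 from rfl, inv_eq h hu, mul_cancel h hu]
    have : (u * v) * (u * v) ^ 2 = 1 := by rw [← pow_succ']; exact h3
    rw [← inv_eq_of_mul_eq_one_right this, mul_inv_rev, inv_eq h hu, inv_eq h hv]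
  have A1 : a0 * t * a0⁻¹ = θ (-1) 0 := by
    rw [ht, neg1 a0 b ha0.1 hb.1 (ht ▸ t3)]
    simp [θ, tp, ZMod.val_zero, ← ht]
  have A2 : a0 * s * a0⁻¹ = θ 0 1 := by
    rw [θ01]
    have : Commute a0 s := hs ▸ hd0.2.2.mul_right he.2.2
    rw [this.eq, mul_inv_cancel_right]
  have D1 : d0 * t * d0⁻¹ = θ 1 0 := by
    rw [θ10]
    have hb' : Commute b d0 := by
      have := hd0
      rw [hU d hd a0 ha0 b hb] at this
      exact this.2.2
    have : Commute d0 t := ht ▸ hd0.2.2.symm.mul_right hb'.symm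
    rw [this.eq, mul_inv_cancel_right]
  have D2 : d0 * s * d0⁻¹ = θ 0 (-1) := by
    rw [hs, neg1 d0 e hd0.1 he.1 (hs ▸ s3)]
    simp [θ, tp, ZMod.val_zero, ← hs]
  obtain ⟨p, q, hX1⟩ := hspan _ (hTn.conj_mem t htT x)
  obtain ⟨r, u, hX2⟩ := hspan _ (hTn.conj_mem s hsT x)
  have AA := act a0 _ _ _ _ A1 A2
  have DD := act d0 _ _ _ _ D1 D2
  have XX := act x _ _ _ _ hX1 hX2
  have out : ∀ w ∈ Dn D d, ¬ Commute w x := fun w hw hc => by
    by_cases e1 : x = w
    · exact hxd (e1 ▸ hw)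
    · have : x ∈ Dn D w := ⟨hx, e1, hc⟩
      rw [hU d hd w hw a0 ha0] at this
      exact hxa this
  have outA : ∀ w ∈ Dn D a0, ¬ Commute w x := fun w hw hc => by
    by_cases e1 : x = w
    · exact hxa (e1 ▸ hw)
    · have : x ∈ Dn D w := ⟨hx, e1, hc⟩
      rw [hU a0 ha0.1 w hw d hdA] at this
      exact hxd this
  have comp : ∀ g g' w : G, g * (g' * w * g'⁻¹) * g⁻¹ = g * g' * w * (g * g')⁻¹ := fun g g' w => by group
  have hxx : ∀ i j, x * (x * θ i j * x⁻¹) * x⁻¹ = θ i j := fun i j => by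
    rw [comp, mul_self h hx, one_mul, inv_one, mul_one]
  have hbr : ∀ w ∈ D, ¬ Commute w x → ∀ v, w * (x * (w * v * w⁻¹) * x⁻¹) * w⁻¹ = x * (w * (x * v * x⁻¹) * w⁻¹) * x⁻¹ := by
    intro w hw hn v
    rw [comp, comp, comp, comp, braid h hw hx hn]
  have nofix : ∀ w w' : G, w ∈ D → w' ∈ D → ¬ Commute w x → ¬ Commute w' x → x * (w * w') * x⁻¹ = w * w' → w = w' := by
    intro w w' hw hw' hn hn' e1
    have h2 : x * w * x = w * w' * (x * w' * x) := by
      calc x * w * x = (x * (w * w') * x⁻¹) * (x * w' * x) := by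
            simp only [inv_eq h hx, mul_assoc, mul_cancel h hx, mul_cancel h hw']
        _ = _ := by rw [e1]
    rw [← braid h hw' hx hn'] at h2
    simp only [mul_assoc, mul_cancel h hw'] at h2
    rw [← mul_assoc x w x, ← braid h hw hx hn] at h2
    simp only [mul_assoc] at h2
    exact mul_left_cancel (mul_left_cancel h2)
  have hb1 := hbr a0 ha0.1 (out a0 ha0)
  have hb2 := hbr d0 hd0.1 (outA d0 hd0)
  have q10 := hb1 (θ 1 0); have q01 := hb1 (θ 0 1); have r10 := hb2 (θ 1 0); have r01 := hb2 (θ 0 1)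
  have x10 := hxx 1 0; have x01 := hxx 0 1
  rw [AA, XX, AA, XX, AA, XX] at q10 q01
  rw [DD, XX, DD, XX, DD, XX] at r10 r01
  rw [XX, XX] at x10 x01
  replace q10 := θinj _ _ _ _ q10; replace q01 := θinj _ _ _ _ q01
  replace r10 := θinj _ _ _ _ r10; replace r01 := θinj _ _ _ _ r01
  replace x10 := θinj _ _ _ _ x10; replace x01 := θinj _ _ _ _ x01
  simp only [mul_one, mul_zero, zero_mul, add_zero, zero_add, one_mul, neg_mul, mul_neg, neg_neg, neg_zero] at q10 q01 r10 r01 x10 x01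
  refine no_action p q r u ⟨x10, x01⟩ ?_ ?_ (fun ⟨e1, e2⟩ => ?_) (fun ⟨e1, e2⟩ => ?_)
  · refine ⟨⟨?_, ?_⟩, ?_, ?_⟩ <;> first | linear_combination q10.1 | linear_combination q10.2 | linear_combination q01.1 | linear_combination q01.2
  · refine ⟨⟨?_, ?_⟩, ?_, ?_⟩ <;> first | linear_combination r10.1 | linear_combination r10.2 | linear_combination r01.1 | linear_combination r01.2
  · have he2 := nofix a0 b ha0.1 hb.1 (out _ ha0) (out _ hb) (by rw [← ht, hX1, e1, e2, θ10])
    exact hab (by rw [he2])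
  · have he2 := nofix d0 e hd0.1 he.1 (outA _ hd0) (outA _ he) (by rw [← hs, hX2, e1, e2, θ01])
    exact hde (by rw [he2])

theorem main [Finite G] (h : IsThreeTranspositionSet D) (hconj : ∀ g : G, ∀ d ∈ D, g * d * g⁻¹ ∈ D) (hne : D.Nonempty)
    (hloc : ∀ d ∈ D, Nonempty (↥(Subgroup.closure (Dn D d)) ≃* Perm (Fin 3)) ∧
      Nat.card (Cfsg.pCore 3 ↥(Subgroup.centralizer ({d} : Set G))) = 3) :
    Nonempty (↥(Subgroup.closure D) ≃* Perm (Fin 5)) ∨ Nonempty (↥(Subgroup.closure D) ≃* Perm (Fin 3) × Perm (Fin 3)) := by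
  have hline : ∀ d ∈ D, ∃ a b, a ∈ Dn D d ∧ b ∈ Dn D d ∧ ¬ Commute a b ∧ Dn D d = {a, b, a * b * a} := fun d hd =>
    (local_line h hconj hd (hloc d hd).1.some).1
  have hpair : ∀ d ∈ D, ∀ u ∈ Dn D d, ∀ v ∈ Dn D d, u ≠ v → ¬ Commute u v := fun d hd =>
    (local_line h hconj hd (hloc d hd).1.some).2
  by_cases hU : ∀ d ∈ D, ∀ a ∈ Dn D d, ∀ b ∈ Dn D d, Dn D a = Dn D b
  swap
  · push Not at hU
    obtain ⟨d, hd, a, ha, b, hb, hn⟩ := hU
    exact Or.inl (petersen_case h hconj hline hpair hd ha hb hn)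
  obtain ⟨d, hd⟩ := hne
  obtain ⟨a, b, ha, hb, hab, hdl⟩ := hline d hd
  have hall : D ⊆ Dn D d ∪ Dn D a := by
    intro x hx
    by_contra hn
    rw [Set.mem_union, not_or] at hn
    exact three_core_large h hconj hline hU hd ha hx hn.1 hn.2 (hloc d hd).2
  right
  let L := Subgroup.closure (Dn D d)
  let M := Subgroup.closure (Dn D a)
  have hcomm : ∀ u : L, ∀ v : M, Commute (L.subtype u) (M.subtype v) := by
    intro u v
    have hle : L ≤ Subgroup.centralizer (M : Set G) := by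
      rw [Subgroup.closure_le]
      intro w hw
      rw [SetLike.mem_coe, Subgroup.centralizer_closure, Subgroup.mem_centralizer_iff]
      intro z hz
      rw [hU d hd a ha w hw] at hz
      exact hz.2.2.eq.symm
    exact (Subgroup.mem_centralizer_iff.1 (hle u.2) v.1 v.2).symm
  let Φ : L × M →* G := MonoidHom.noncommCoprod L.subtype M.subtype hcomm
  have hinj : Function.Injective Φ := by
    rw [injective_iff_map_eq_one]
    rintro ⟨u, v⟩ huv
    change u.1 * v.1 = 1 at huv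
    have hu : u = 1 := by
      obtain ⟨e⟩ := (hloc d hd).1
      apply e.injective
      rw [map_one]
      refine perm3_centre _ fun w => ?_
      obtain ⟨w', rfl⟩ := e.surjective w
      rw [← map_mul, ← map_mul]
      refine congrArg e (Subtype.ext ?_)
      show w'.1 * u.1 = u.1 * w'.1
      have hu' : u.1 = v.1⁻¹ := eq_inv_of_mul_eq_one_left huv
      rw [hu']
      exact ((hcomm w' v).inv_right).eq
    subst hu
    rw [Subgroup.coe_one, one_mul] at huv
    exact Prod.ext rfl (Subtype.ext huv)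
  have hrange : Φ.range = Subgroup.closure D := by
    refine le_antisymm ?_ ((Subgroup.closure_le _).2 fun x hx => ?_)
    · rintro _ ⟨⟨u, v⟩, rfl⟩
      exact mul_mem (Subgroup.closure_mono (fun y hy => hy.1) u.2) (Subgroup.closure_mono (fun y hy => hy.1) v.2)
    · rcases hall hx with h1 | h1
      · exact ⟨(⟨x, Subgroup.subset_closure h1⟩, 1), by simp [Φ]⟩
      · exact ⟨(1, ⟨x, Subgroup.subset_closure h1⟩), by simp [Φ]⟩
  exact ⟨((MonoidHom.ofInjective hinj).trans (MulEquiv.subgroupCongr hrange)).symm.trans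
    (MulEquiv.prodCongr (hloc d hd).1.some (hloc a ha.1).1.some)⟩

end CfsgLib.Fischer.LocalSThree
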