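import Cfsg.Agent.Spor.Fischer.Plane
import Mathlib

/-!
The involutions of a Fischer space.
-/

set_option autoImplicit false
set_option linter.unusedSectionVars false

namespace CfsgLib.Fischer

open Cfsg LineSystem

/-- the involution of a point of the dual affine plane, on points -/
def dualMove (p q : DualAffinePoint) : DualAffinePoint :=
  ⟨q.val.map (pairSwap p).toEmbedding, by rw [Finset.card_map]; exact q.2⟩

/-- a description of the involutions of a plane model -/
structure PlaneMove {P : Type*} (M : Set (Set P)) (T : P → P → P) : Prop where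
  line : ∀ μ ∈ M, ∀ p q, p ≠ q → p ∈ μ → q ∈ μ → T p q ≠ p ∧ T p q ≠ q ∧ μ = {p, q, T p q}
  self : ∀ p, T p p = p
  free : ∀ p q, p ≠ q → (∀ μ ∈ M, ¬ (p ∈ μ ∧ q ∈ μ)) → T p q = q
  image : ∀ μ ∈ M, ∀ p, T p '' μ ∈ M

theorem planeMove_affine : PlaneMove affinePlaneThree (fun p q => -p - q) := by
  have third : ∀ p q : Fin 2 → ZMod 3, p ≠ q → -p - q ≠ p ∧ -p - q ≠ q ∧ -p - (-p - q) = q := by
    intro p q hne
    refine ⟨fun e => hne ?_, fun e => hne ?_, by abel⟩ <;>
    · funext i
      have := congrFun e i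
      simp only [Pi.sub_apply, Pi.neg_apply] at this
      revert this
      generalize p i = u; generalize q i = v; revert u v; decide +kernel
  have e3 : ∀ p : Fin 2 → ZMod 3, -p - p = p := fun p => funext fun i => by
    simp only [Pi.sub_apply, Pi.neg_apply]; generalize p i = u; revert u; decide +kernel
  refine ⟨fun μ hμ p q hne hp hq => ⟨(third p q hne).1, (third p q hne).2.1, ?_⟩, e3, fun p q hne hf => ?_,
    fun μ hμ p => ?_⟩
  · obtain ⟨a, b, hab, rfl⟩ := affine_form hμ
    have h1 : -a - (-a - b) = b := (third a b hab).2.2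
    have h2 : -b - (-a - b) = a := by abel
    have h3 : -(-a - b) - a = b := by abel
    have h4 : -(-a - b) - b = a := by abel
    have h5 : -b - a = -a - b := by abel
    rcases hp with rfl | rfl | rfl <;> rcases hq with rfl | rfl | rfl <;>
      first
        | exact absurd rfl hne
        | (simp only [h1, h2, h3, h4, h5]
           all_goals
             ext x
             simp only [Set.mem_insert_iff, Set.mem_singleton_iff]
             tauto)
  · exact absurd ⟨Set.mem_insert _ _, Set.mem_insert_of_mem _ (Set.mem_insert _ _)⟩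
      (hf _ (affine_line p q hne))
  · obtain ⟨a, b, hab, rfl⟩ := affine_form hμ
    simp only [Set.image_insert_eq, Set.image_singleton]
    have : -p - (-a - b) = -(-p - a) - (-p - b) := funext fun i => by
      simp only [Pi.sub_apply, Pi.neg_apply]
      generalize p i = u; generalize a i = v; generalize b i = w; revert u v w; decide +kernel
    rw [this]
    exact affine_line _ _ fun e => hab (by simpa using e)

theorem planeMove_dual : PlaneMove dualAffinePlaneTwo dualMove := by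
  refine ⟨?_, by decide +kernel, fun p q hne hf => ?_, ?_⟩
  · rintro _ ⟨i, rfl⟩ p q hne hp hq
    have key : ∀ (i : Fin 4) (p q : DualAffinePoint), p ≠ q → i ∉ p.val → i ∉ q.val →
        dualMove p q ≠ p ∧ dualMove p q ≠ q ∧
          ∀ s : DualAffinePoint, i ∉ s.val ↔ s = p ∨ s = q ∨ s = dualMove p q := by decide +kernel
    obtain ⟨h1, h2, h3⟩ := key i p q hne hp hq
    exact ⟨h1, h2, Set.ext fun s => by simpa using h3 s⟩
  · have key : ∀ p q : DualAffinePoint, p ≠ q → (∀ i : Fin 4, ¬ (i ∉ p.val ∧ i ∉ q.val)) →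
        dualMove p q = q := by decide +kernel
    exact key p q hne fun i => hf _ ⟨i, rfl⟩
  · rintro _ ⟨i, rfl⟩ p
    have key : ∀ (p : DualAffinePoint) (i : Fin 4),
        (∀ s : DualAffinePoint, i ∉ s.val → pairSwap p i ∉ (dualMove p s).val) ∧
        ∀ s : DualAffinePoint, pairSwap p i ∉ s.val → i ∉ (dualMove p s).val ∧
          dualMove p (dualMove p s) = s := by decide +kernel
    refine ⟨pairSwap p i, Set.ext fun s => ⟨?_, fun hs => ?_⟩⟩
    · rintro ⟨t, ht, rfl⟩
      exact (key p i).1 t ht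
    · obtain ⟨h1, h2⟩ := (key p i).2 s hs
      exact ⟨_, h1, h2⟩

variable {X : Type*} {L : Set (Set X)}

theorem lineMap_line (hL : IsFischerSpace L) {l : Set X} (hl : l ∈ L) {x y : X} (hne : x ≠ y)
    (hx : x ∈ l) (hy : y ∈ l) :
    lineMap L x y ≠ x ∧ lineMap L x y ≠ y ∧ l = {x, y, lineMap L x y} := by
  classical
  obtain ⟨z, hz⟩ : ∃ z, z ∈ l \ {x, y} := by
    refine Set.nonempty_of_ncard_ne_zero ?_
    have hsub : ({x, y} : Set X) ⊆ l := Set.insert_subset hx (Set.singleton_subset_iff.2 hy)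
    rw [Set.ncard_diff hsub, hL.2.1 l hl, Set.ncard_pair hne]
    decide
  have hzx : z ≠ x := fun e => hz.2 (Or.inl e)
  have hzy : z ≠ y := fun e => hz.2 (Or.inr e)
  haveI : Finite l := Set.finite_of_ncard_ne_zero (by rw [hL.2.1 l hl]; decide)
  have hle : l = {x, y, z} := by
    refine (Set.eq_of_subset_of_ncard_le ?_ ?_ (Set.toFinite l)).symm
    · rintro w (rfl | rfl | rfl)
      exacts [hx, hy, hz.1]
    · rw [hL.2.1 l hl, Set.ncard_eq_three.2 ⟨x, y, z, hne, hzx.symm, hzy.symm, rfl⟩]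
  have hex : ∃ z : X, z ≠ x ∧ z ≠ y ∧ x ≠ y ∧ ({x, y, z} : Set X) ∈ L :=
    ⟨z, hzx, hzy, hne, hle ▸ hl⟩
  obtain ⟨h1, h2, -, h3⟩ := hex.choose_spec
  have e : lineMap L x y = hex.choose := by
    simp only [lineMap]
    rw [dif_pos hex]
  rw [e]
  exact ⟨h1, h2, hL.1 l hl _ h3 x y hne hx hy (Set.mem_insert _ _)
    (Set.mem_insert_of_mem _ (Set.mem_insert _ _))⟩

theorem lineMap_free (L : Set (Set X)) {x y : X} (h : ¬ ∃ l ∈ L, x ∈ l ∧ y ∈ l) : lineMap L x y = y := by
  classical
  simp only [lineMap]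
  rw [dif_neg]
  rintro ⟨z, -, -, -, hz⟩
  exact h ⟨_, hz, Set.mem_insert _ _, Set.mem_insert_of_mem _ (Set.mem_insert _ _)⟩

theorem lineMap_self (L : Set (Set X)) (x : X) : lineMap L x x = x := by
  classical
  simp only [lineMap]
  rw [dif_neg]
  rintro ⟨z, -, -, h, -⟩
  exact h rfl

theorem lineMap_lineMap (hL : IsFischerSpace L) (x y : X) : lineMap L x (lineMap L x y) = y := by
  by_cases hne : x = y
  · subst hne; rw [lineMap_self, lineMap_self]
  by_cases hex : ∃ l ∈ L, x ∈ l ∧ y ∈ l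
  · obtain ⟨l, hl, hx, hy⟩ := hex
    obtain ⟨h1, h2, hle⟩ := lineMap_line hL hl hne hx hy
    obtain ⟨h3, h4, hle'⟩ := lineMap_line hL hl (x := x) (y := lineMap L x y) h1.symm hx
      (hle ▸ Set.mem_insert_of_mem _ (Set.mem_insert_of_mem _ rfl))
    have : y ∈ l := hy
    rw [hle'] at this
    rcases this with k | k | k
    · exact absurd k.symm hne
    · exact absurd k.symm h2
    · exact k.symm
  · rw [lineMap_free L hex, lineMap_free L hex]

theorem isSubspace_span (L : Set (Set X)) (S : Set X) : IsSubspace L (span L S) :=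
  fun l hl x hx y hy hne hxl hyl z hz T hT =>
    hT.2 l hl x (hx T hT) y (hy T hT) hne hxl hyl hz

/-- inside a plane the involution of a point follows the model -/
theorem image_in_plane (hL : IsFischerSpace L) {P : Type*} {M : Set (Set P)} {T : P → P → P}
    (hT : PlaneMove M T) {S : Set X} (hS : IsSubspace L S) (e : S ≃ P)
    (he : IsIso (restrict L S) M e) {x : X} (hx : x ∈ S) {l : Set X} (hl : l ∈ L) (hlS : l ⊆ S) :
    lineMap L x '' l ∈ L := by
  have hfw : ∀ l ∈ L, l ⊆ S → e '' {s : S | (s : X) ∈ l} ∈ M := fun l hl hlS =>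
    (he _).1 ⟨l, hl, hlS, rfl⟩
  have hmove : ∀ y : S, ∃ h : lineMap L x y ∈ S, e ⟨lineMap L x y, h⟩ = T (e ⟨x, hx⟩) (e y) := by
    intro y
    by_cases hne : x = (y : X)
    · obtain rfl : y = ⟨x, hx⟩ := Subtype.ext hne.symm
      exact ⟨by rw [lineMap_self]; exact hx, by simp only [lineMap_self, hT.self]⟩
    have hne' : e ⟨x, hx⟩ ≠ e y := fun k => hne (congrArg Subtype.val (e.injective k))
    by_cases hex : ∃ m ∈ L, x ∈ m ∧ (y : X) ∈ m
    · obtain ⟨m, hm, hxm, hym⟩ := hex
      obtain ⟨h1, h2, hme⟩ := lineMap_line hL hm hne hxm hym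
      have hmS := hS m hm x hx y y.2 hne hxm hym
      have hzm : lineMap L x y ∈ m := hme ▸ Set.mem_insert_of_mem _ (Set.mem_insert_of_mem _ rfl)
      refine ⟨hmS hzm, ?_⟩
      obtain ⟨-, -, hμ⟩ := hT.line _ (hfw m hm hmS) _ _ hne' ⟨⟨x, hx⟩, hxm, rfl⟩ ⟨y, hym, rfl⟩
      have hmem : e ⟨lineMap L x y, hmS hzm⟩ ∈ e '' {s : S | (s : X) ∈ m} := ⟨⟨_, hmS hzm⟩, hzm, rfl⟩
      rw [hμ] at hmem
      rcases hmem with k | k | k
      · exact absurd (congrArg Subtype.val (e.injective k)) h1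
      · exact absurd (congrArg Subtype.val (e.injective k)) h2
      · exact k
    · refine ⟨by rw [lineMap_free L hex]; exact y.2, ?_⟩
      simp only [lineMap_free L hex]
      refine (hT.free _ _ hne' fun μ hμ hpq => hex ?_).symm
      obtain ⟨m, hm, hmS, hme⟩ := (he (e ⁻¹' μ)).2 (by rw [Equiv.image_preimage]; exact hμ)
      have h1 : (⟨x, hx⟩ : S) ∈ e ⁻¹' μ := hpq.1
      have h2 : y ∈ e ⁻¹' μ := hpq.2
      rw [hme] at h1 h2
      exact ⟨m, hm, h1, h2⟩
  have himg := hT.image _ (hfw l hl hlS) (e ⟨x, hx⟩)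
  obtain ⟨m, hm, hmS, hme⟩ := (he (e ⁻¹' (T (e ⟨x, hx⟩) '' (e '' {s : S | (s : X) ∈ l})))).2
    (by rw [Equiv.image_preimage]; exact himg)
  convert hm using 1
  ext w
  constructor
  · rintro ⟨y, hy, rfl⟩
    obtain ⟨h, hh⟩ := hmove ⟨y, hlS hy⟩
    have : (⟨_, h⟩ : S) ∈ e ⁻¹' (T (e ⟨x, hx⟩) '' (e '' {s : S | (s : X) ∈ l})) :=
      ⟨_, ⟨⟨y, hlS hy⟩, hy, rfl⟩, hh.symm⟩
    rw [hme] at this
    exact this
  · intro hw
    have : (⟨w, hmS hw⟩ : S) ∈ {s : S | (s : X) ∈ m} := hw
    rw [← hme] at this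
    obtain ⟨_, ⟨y, hy, rfl⟩, hyw⟩ := this
    obtain ⟨h, hh⟩ := hmove y
    exact ⟨y, hy, congrArg Subtype.val (e.injective (hh.trans hyw))⟩

theorem lineMap_image (hL : IsFischerSpace L) (x : X) {l : Set X} (hl : l ∈ L) :
    lineMap L x '' l ∈ L := by
  by_cases hxl : x ∈ l
  · convert hl using 1
    have hmaps : ∀ y ∈ l, lineMap L x y ∈ l := by
      intro y hy
      by_cases hne : x = y
      · subst hne; rw [lineMap_self]; exact hy
      · obtain ⟨-, -, e⟩ := lineMap_line hL hl hne hxl hy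
        exact e.symm.subset (Set.mem_insert_of_mem _ (Set.mem_insert_of_mem _ rfl))
    ext w
    refine ⟨?_, fun hw => ⟨lineMap L x w, hmaps w hw, lineMap_lineMap hL x w⟩⟩
    rintro ⟨y, hy, rfl⟩
    exact hmaps y hy
  by_cases hex : ∃ y ∈ l, ∃ m ∈ L, x ∈ m ∧ y ∈ m
  · obtain ⟨y, hy, m, hm, hxm, hym⟩ := hex
    have hlm : l ≠ m := fun e => hxl (e ▸ hxm)
    have hsub : l ∪ m ⊆ span L (l ∪ m) := fun z hz T hT => hT.1 hz
    rcases hL.2.2 l hl m hm hlm ⟨y, hy, hym⟩ with ⟨e, he⟩ | ⟨e, he⟩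
    · exact image_in_plane hL planeMove_dual (isSubspace_span L _) e he (hsub (Or.inr hxm)) hl
        fun z hz => hsub (Or.inl hz)
    · exact image_in_plane hL planeMove_affine (isSubspace_span L _) e he (hsub (Or.inr hxm)) hl
        fun z hz => hsub (Or.inl hz)
  · convert hl using 1
    ext w
    have hfix : ∀ y ∈ l, lineMap L x y = y := fun y hy =>
      lineMap_free L fun ⟨m, hm, hxm, hym⟩ => hex ⟨y, hy, m, hm, hxm, hym⟩
    exact ⟨fun ⟨y, hy, e⟩ => by rw [← e, hfix y hy]; exact hy, fun hw => ⟨w, hw, hfix w hw⟩⟩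

/-- the involution as a permutation -/
noncomputable def lineInv (hL : IsFischerSpace L) (x : X) : Equiv.Perm X :=
  Function.Involutive.toPerm (lineMap L x) (lineMap_lineMap hL x)

theorem coe_lineInv (hL : IsFischerSpace L) (x : X) : ⇑(lineInv hL x) = lineMap L x := rfl

theorem lineInv_mul_self (hL : IsFischerSpace L) (x : X) : lineInv hL x * lineInv hL x = 1 :=
  Equiv.ext (lineMap_lineMap hL x)

theorem lineInv_conj (hL : IsFischerSpace L) (x y : X) :
    lineInv hL x * lineInv hL y * lineInv hL x = lineInv hL (lineMap L x y) := by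
  refine Equiv.ext fun w => ?_
  show lineMap L x (lineMap L y (lineMap L x w)) = lineMap L (lineMap L x y) w
  obtain ⟨v, rfl⟩ : ∃ v, lineMap L x v = w := ⟨_, lineMap_lineMap hL x w⟩
  rw [lineMap_lineMap hL]
  have hinj : Function.Injective (lineMap L x) := Function.Involutive.injective (lineMap_lineMap hL x)
  by_cases hne : y = v
  · subst hne; rw [lineMap_self, lineMap_self]
  by_cases hex : ∃ m ∈ L, y ∈ m ∧ v ∈ m
  · obtain ⟨m, hm, hym, hvm⟩ := hex
    obtain ⟨h1, h2, hme⟩ := lineMap_line hL hm hne hym hvm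
    have him : lineMap L y v ∈ m := hme ▸ Set.mem_insert_of_mem _ (Set.mem_insert_of_mem _ rfl)
    obtain ⟨-, -, e⟩ := lineMap_line hL (lineMap_image hL x hm) (hinj.ne hne) ⟨y, hym, rfl⟩ ⟨v, hvm, rfl⟩
    have : lineMap L x (lineMap L y v) ∈ lineMap L x '' m := ⟨_, him, rfl⟩
    rw [e] at this
    rcases this with k | k | k
    · exact absurd (hinj k) h1
    · exact absurd (hinj k) h2
    · exact k
  · rw [lineMap_free L hex]
    refine (lineMap_free L ?_).symm
    rintro ⟨m, hm, hym, hvm⟩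
    exact hex ⟨_, lineMap_image hL x hm, ⟨_, hym, lineMap_lineMap hL x y⟩,
      ⟨_, hvm, lineMap_lineMap hL x v⟩⟩

theorem lineInv_pow (hL : IsFischerSpace L) (x y : X) :
    (lineInv hL x * lineInv hL y) ^ 2 = 1 ∨ (lineInv hL x * lineInv hL y) ^ 3 = 1 := by
  by_cases hne : x = y
  · subst hne; left; rw [lineInv_mul_self, one_pow]
  set a := lineInv hL x
  set b := lineInv hL y
  by_cases hex : ∃ m ∈ L, x ∈ m ∧ y ∈ m
  · right
    obtain ⟨m, hm, hxm, hym⟩ := hex
    obtain ⟨h1, h2, hme⟩ := lineMap_line hL hm hne hxm hym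
    obtain ⟨h3, h4, hme'⟩ := lineMap_line hL hm (Ne.symm hne) hym hxm
    have heq : lineMap L y x = lineMap L x y := by
      have : lineMap L y x ∈ m := hme' ▸ Set.mem_insert_of_mem _ (Set.mem_insert_of_mem _ rfl)
      rw [hme] at this
      rcases this with k | k | k
      · exact absurd k h4
      · exact absurd k h3
      · exact k
    have e : a * b * a = b * a * b := by rw [lineInv_conj, lineInv_conj, heq]
    calc (a * b) ^ 3 = (a * b * a) * (b * a * b) := by simp [pow_succ, mul_assoc]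
      _ = (a * b * a) * (a * b * a) := by rw [e]
      _ = 1 := by rw [lineInv_conj]; exact lineInv_mul_self hL _
  · left
    calc (a * b) ^ 2 = (a * b * a) * b := by simp [pow_succ, mul_assoc]
      _ = 1 := by rw [lineInv_conj, lineMap_free L hex]; exact lineInv_mul_self hL y

theorem lineInv_spec (hL : IsFischerSpace L) (hnd : IsNondegenerate L) (x : X) :
    orderOf (lineInv hL x) = 2 ∧ IsIso L L (lineInv hL x) := by
  refine ⟨orderOf_eq_prime ?_ ?_, fun l => ⟨lineMap_image hL x, fun hl => ?_⟩⟩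
  · rw [pow_two]; exact lineInv_mul_self hL x
  · intro e
    obtain ⟨l, hl, hx⟩ := hnd x
    obtain ⟨y, hy, hyx⟩ := Set.exists_ne_of_one_lt_ncard (by rw [hL.2.1 l hl]; norm_num : 1 < l.ncard) x
    exact (lineMap_line hL hl hyx.symm hx hy).2.1
      (by rw [← coe_lineInv hL, e]; rfl)
  · have := lineMap_image hL x hl
    rwa [coe_lineInv, Set.image_image, Set.image_congr fun y _ => lineMap_lineMap hL x y,
      Set.image_id'] at this

end CfsgLib.Fischer
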