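import Cfsg.Agent.Spor.Fischer.Rank
import Mathlib

/-!
The lines of a 3-transposition group: two meeting lines generate a dual affine plane of order two
or an affine plane of order three.
-/

set_option autoImplicit false
set_option linter.unusedSectionVars false

namespace CfsgLib.Fischer

open Cfsg

variable {G : Type*} [Group G] {D : Set G}

theorem line_mem (h : IsThreeTranspositionSet D) (hc : ∀ g : G, ∀ d ∈ D, g * d * g⁻¹ ∈ D) {x y : D}
    (hxy : ¬ Commute (x : G) y) :
    ({x, y, ⟨(x : G) * y * x, conj_mem h hc x.2 y.2⟩} : Set D) ∈ threeTranspositionLines D := by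
  refine ⟨x, y, hxy, Set.ext fun z => ?_⟩
  simp only [Set.mem_insert_iff, Set.mem_singleton_iff, Set.mem_setOf_eq, Subtype.ext_iff,
    inv_eq h y.2, braid h x.2 y.2 hxy]

theorem line_form (h : IsThreeTranspositionSet D) (hc : ∀ g : G, ∀ d ∈ D, g * d * g⁻¹ ∈ D)
    {l : Set D} (hl : l ∈ threeTranspositionLines D) {p q : D} (hp : p ∈ l) (hq : q ∈ l) (hne : p ≠ q) :
    ¬ Commute (p : G) q ∧ l = {p, q, ⟨(p : G) * q * p, conj_mem h hc p.2 q.2⟩} := by
  obtain ⟨x, y, hxy, rfl⟩ := hl
  obtain ⟨x, hx⟩ := x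
  obtain ⟨y, hy⟩ := y
  obtain ⟨p, hpD⟩ := p
  obtain ⟨q, hqD⟩ := q
  simp only [inv_eq h hy, Set.mem_setOf_eq] at hxy hp hq
  have hb := braid h hx hy hxy
  have hzx : y * x * y = x * y * x := hb.symm
  have hxz : x * (x * y * x) * x = y := by
    simp only [mul_assoc, mul_cancel h hx, mul_self h hx, mul_one]
  have hyz : y * (x * y * x) * y = x := by
    rw [hb]; simp only [mul_assoc, mul_cancel h hy, mul_self h hy, mul_one]
  have nxz : ¬ Commute x (x * y * x) := by
    rw [← invconj h hx]; exact fun k => hxy ((commute_conj_fixed (Commute.refl x)).1 k)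
  have nyz : ¬ Commute y (x * y * x) := by
    rw [hb, ← invconj h hy]; exact fun k => hxy ((commute_conj_fixed (Commute.refl y)).1 k).symm
  have hne' : p ≠ q := fun e => hne (Subtype.ext e)
  have hzy : (x * y * x) * y * (x * y * x) = x := by
    rw [← braid h hy (conj_mem h hc hx hy) nyz, hyz]
  have hzx' : (x * y * x) * x * (x * y * x) = y := by
    rw [← braid h hx (conj_mem h hc hx hy) nxz, hxz]
  rcases hp with rfl | rfl | rfl <;> rcases hq with rfl | rfl | rfl <;>
    first
      | exact absurd rfl hne'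
      | exact absurd hzx.symm hne'
      | exact absurd hzx hne'
      | refine ⟨?_, Set.ext fun z => ?_⟩
        · first
            | exact hxy
            | exact fun k => hxy k.symm
            | (simp only [hzx]; exact nxz)
            | (simp only [hzx]; exact nyz)
            | (simp only [hzx]; exact fun k => nxz k.symm)
            | (simp only [hzx]; exact fun k => nyz k.symm)
        · simp only [Set.mem_setOf_eq, Set.mem_insert_iff, Set.mem_singleton_iff, Subtype.ext_iff,
            inv_eq h hy, hzx, hxz, hyz, hzy, hzx']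
          all_goals tauto

theorem lines_three (h : IsThreeTranspositionSet D) (hc : ∀ g : G, ∀ d ∈ D, g * d * g⁻¹ ∈ D)
    {l : Set D} (hl : l ∈ threeTranspositionLines D) : l.ncard = 3 := by
  obtain ⟨x, y, hxy, rfl⟩ := hl
  have hne : x ≠ y := fun e => hxy (e ▸ Commute.refl _)
  rw [(line_form h hc (l := {z : D | (z : G) = x ∨ (z : G) = y ∨ (z : G) = (y : G) * x * (y : G)⁻¹})
    ⟨x, y, hxy, rfl⟩ (p := x) (q := y) (Or.inl rfl) (Or.inr (Or.inl rfl)) hne).2, Set.ncard_eq_three]
  refine ⟨x, y, _, hne, fun e => hxy ?_, fun e => hxy ?_, rfl⟩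
  · have := congrArg (fun z : D => (x : G) * z * x) e
    simp only [mul_assoc, mul_cancel h x.2, mul_self h x.2, mul_one, one_mul] at this
    rw [← this]
  · exact (commute_iff_conj h x.2 y).2 (congrArg Subtype.val e).symm

/-- a parametrised plane -/
theorem plane_of_param (h : IsThreeTranspositionSet D) (hc : ∀ g : G, ∀ d ∈ D, g * d * g⁻¹ ∈ D)
    {P : Type*} (M : Set (Set P)) (F : P → D) (hinj : Function.Injective F)
    (h1 : ∀ p q, ¬ Commute (F p : G) (F q) →
      ∃ r, (F p : G) * F q * F p = F r ∧ ({p, q, r} : Set P) ∈ M)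
    (h2 : ∀ m ∈ M, ∃ p q r, ¬ Commute (F p : G) (F q) ∧ (F p : G) * F q * F p = F r ∧
      m = {p, q, r})
    (S : Set D) (hS : S ⊆ Set.range F)
    (h3 : ∀ T : Set D, LineSystem.IsSubspace (threeTranspositionLines D) T → S ⊆ T → ∀ p, F p ∈ T) :
    LineSystem.Isomorphic (LineSystem.restrict (threeTranspositionLines D)
      (LineSystem.span (threeTranspositionLines D) S)) M := by
  set L := threeTranspositionLines D
  have himg : ∀ p q r, (F p : G) * F q * F p = F r →
      (⟨(F p : G) * F q * F p, conj_mem h hc (F p).2 (F q).2⟩ : D) = F r := fun p q r e => Subtype.ext e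
  have hsub : LineSystem.IsSubspace L (Set.range F) := by
    rintro l hl _ ⟨p, rfl⟩ _ ⟨q, rfl⟩ hne hp hq
    obtain ⟨hn, rfl⟩ := line_form h hc hl hp hq hne
    obtain ⟨r, hr, -⟩ := h1 p q hn
    rintro z (rfl | rfl | rfl)
    exacts [⟨p, rfl⟩, ⟨q, rfl⟩, ⟨r, (himg p q r hr).symm⟩]
  have hspan : LineSystem.span L S = Set.range F := by
    refine subset_antisymm (Set.sInter_subset_of_mem ⟨hS, hsub⟩) ?_
    rintro _ ⟨p, rfl⟩ T ⟨hT1, hT2⟩
    exact h3 T hT2 hT1 p
  rw [hspan]
  refine ⟨(Equiv.ofInjective F hinj).symm, fun s => ?_⟩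
  have hmem : ∀ p, p ∈ (Equiv.ofInjective F hinj).symm '' s ↔ (⟨F p, p, rfl⟩ : Set.range F) ∈ s := by
    intro p
    rw [Equiv.image_eq_preimage_symm]
    rfl
  constructor
  · rintro ⟨l, hl, hlr, rfl⟩
    obtain ⟨x, hx, y, hy, hne⟩ : ∃ x ∈ l, ∃ y ∈ l, x ≠ y := by
      obtain ⟨x, y, z, hxy, -, -, rfl⟩ := Set.ncard_eq_three.1 (lines_three h hc hl)
      exact ⟨x, by simp, y, by simp, hxy⟩
    obtain ⟨p, rfl⟩ := hlr hx
    obtain ⟨q, rfl⟩ := hlr hy
    obtain ⟨hn, e⟩ := line_form h hc hl hx hy hne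
    obtain ⟨r, hr, hM⟩ := h1 p q hn
    rw [himg p q r hr] at e
    convert hM using 1
    ext t
    rw [hmem, Set.mem_setOf_eq, e]
    simp [hinj.eq_iff]
  · intro hs
    obtain ⟨p, q, r, hn, hr, e⟩ := h2 _ hs
    have hl := line_mem h hc hn
    rw [himg p q r hr] at hl
    refine ⟨_, hl, ?_, Set.ext fun ⟨z, t, ht⟩ => ?_⟩
    · rintro z (rfl | rfl | rfl) <;> exact ⟨_, rfl⟩
    · subst ht
      rw [← hmem, e]
      simp [hinj.eq_iff]

/-- the transposition of a two-element set -/
def pairSwap (s : DualAffinePoint) : Equiv.Perm (Fin 4) :=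
  Equiv.swap (s.val.min' (Finset.card_pos.1 (by rw [s.2]; decide)))
    (s.val.max' (Finset.card_pos.1 (by rw [s.2]; decide)))

/-- the third point of a line of the affine plane -/
theorem affine_line (p q : Fin 2 → ZMod 3) (hne : p ≠ q) :
    ({p, q, -p - q} : Set (Fin 2 → ZMod 3)) ∈ affinePlaneThree := by
  refine ⟨p, q - p, sub_ne_zero.2 hne.symm, Set.ext fun x => ?_⟩
  simp only [Set.mem_insert_iff, Set.mem_singleton_iff, Set.mem_setOf_eq]
  constructor
  · rintro (rfl | rfl | rfl)
    · exact ⟨0, by simp⟩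
    · exact ⟨1, by simp⟩
    · exact ⟨2, funext fun i => by
        simp only [Pi.sub_apply, Pi.neg_apply, Pi.add_apply, Pi.smul_apply, smul_eq_mul]
        generalize p i = u; generalize q i = v; revert u v; decide +kernel⟩
  · rintro ⟨c, rfl⟩
    rcases (show ∀ c : ZMod 3, c = 0 ∨ c = 1 ∨ c = 2 by decide +kernel) c with rfl | rfl | rfl
    · exact Or.inl (by simp)
    · exact Or.inr (Or.inl (by simp))
    · exact Or.inr (Or.inr (funext fun i => by
        simp only [Pi.sub_apply, Pi.neg_apply, Pi.add_apply, Pi.smul_apply, smul_eq_mul]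
        generalize p i = u; generalize q i = v; revert u v; decide +kernel))

theorem affine_form {m : Set (Fin 2 → ZMod 3)} (hm : m ∈ affinePlaneThree) :
    ∃ p q, p ≠ q ∧ m = {p, q, -p - q} := by
  obtain ⟨v, w, hw, rfl⟩ := hm
  refine ⟨v, v + w, by simpa using hw, Set.ext fun x => ?_⟩
  simp only [Set.mem_insert_iff, Set.mem_singleton_iff, Set.mem_setOf_eq]
  constructor
  · rintro ⟨c, rfl⟩
    rcases (show ∀ c : ZMod 3, c = 0 ∨ c = 1 ∨ c = 2 by decide +kernel) c with rfl | rfl | rfl
    · exact Or.inl (by simp)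
    · exact Or.inr (Or.inl (by simp))
    · exact Or.inr (Or.inr (funext fun i => by
        simp only [Pi.sub_apply, Pi.neg_apply, Pi.add_apply, Pi.smul_apply, smul_eq_mul]
        generalize v i = u; generalize w i = t; revert u t; decide +kernel))
  · rintro (rfl | rfl | rfl)
    · exact ⟨0, by simp⟩
    · exact ⟨1, by simp⟩
    · exact ⟨2, funext fun i => by
        simp only [Pi.sub_apply, Pi.neg_apply, Pi.add_apply, Pi.smul_apply, smul_eq_mul]
        generalize v i = u; generalize w i = t; revert u t; decide +kernel⟩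

/-- the dual affine case -/
theorem plane_dual (h : IsThreeTranspositionSet D) (hc : ∀ g : G, ∀ d ∈ D, g * d * g⁻¹ ∈ D)
    (a b c : D) (hab : ¬ Commute (a : G) b) (hac : ¬ Commute (a : G) c) (hbc : Commute (b : G) c)
    (hne : b ≠ c) :
    LineSystem.Isomorphic (LineSystem.restrict (threeTranspositionLines D)
      (LineSystem.span (threeTranspositionLines D)
        ({a, b, ⟨(a : G) * b * a, conj_mem h hc a.2 b.2⟩} ∪
          {a, c, ⟨(a : G) * c * a, conj_mem h hc a.2 c.2⟩}))) dualAffinePlaneTwo := by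
  obtain ⟨φ, hinj, fb, fa, fc⟩ := exists_hom_perm_four h b.2 a.2 c.2 (fun e => hne (Subtype.ext e))
    hbc (fun k => hab k.symm) hac
  have f02 : φ (Equiv.swap 0 2) = (a : G) * b * a := by
    rw [← fa, ← fb, ← map_mul, ← map_mul]; congr 1; decide +kernel
  have f13 : φ (Equiv.swap 1 3) = (a : G) * c * a := by
    rw [← fa, ← fc, ← map_mul, ← map_mul]; congr 1; decide +kernel
  have f03 : φ (Equiv.swap 0 3) = (a : G) * b * a * c * ((a : G) * b * a) := by
    rw [← f02, ← fc, ← map_mul, ← map_mul]; congr 1; decide +kernel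
  have hD : ∀ s : DualAffinePoint, φ (pairSwap s) ∈ D := by
    intro s
    have key : ∀ s : DualAffinePoint, pairSwap s = Equiv.swap 0 1 ∨ pairSwap s = Equiv.swap 1 2 ∨
        pairSwap s = Equiv.swap 2 3 ∨ pairSwap s = Equiv.swap 0 2 ∨ pairSwap s = Equiv.swap 1 3 ∨
        pairSwap s = Equiv.swap 0 3 := by decide +kernel
    rcases key s with e | e | e | e | e | e <;> rw [e]
    · rw [fb]; exact b.2
    · rw [fa]; exact a.2
    · rw [fc]; exact c.2
    · rw [f02]; exact conj_mem h hc a.2 b.2
    · rw [f13]; exact conj_mem h hc a.2 c.2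
    · rw [f03]; exact conj_mem h hc (conj_mem h hc a.2 b.2) c.2
  let F : DualAffinePoint → D := fun s => ⟨φ (pairSwap s), hD s⟩
  have hval : ∀ p q, Commute (F p : G) (F q) ↔ pairSwap p * pairSwap q = pairSwap q * pairSwap p := by
    intro p q
    show φ _ * φ _ = φ _ * φ _ ↔ _
    rw [← map_mul, ← map_mul, hinj.eq_iff]
  refine plane_of_param h hc dualAffinePlaneTwo F (fun p q e => ?_) (fun p q hn => ?_) ?_ _ ?_ ?_
  · have key : ∀ p q : DualAffinePoint, pairSwap p = pairSwap q → p = q := by decide +kernel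
    exact key p q (hinj (congrArg Subtype.val e))
  · rw [hval] at hn
    have key : ∀ p q : DualAffinePoint, ¬ pairSwap p * pairSwap q = pairSwap q * pairSwap p →
        ∃ r, pairSwap p * pairSwap q * pairSwap p = pairSwap r ∧
          ∃ i : Fin 4, ∀ s : DualAffinePoint, i ∉ s.val ↔ s = p ∨ s = q ∨ s = r := by decide +kernel
    obtain ⟨r, hr, i, hi⟩ := key p q hn
    refine ⟨r, by show φ _ * φ _ * φ _ = φ _; rw [← map_mul, ← map_mul, hr],
      ⟨i, Set.ext fun s => ?_⟩⟩
    simpa using (hi s).symm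
  · rintro _ ⟨i, rfl⟩
    have key : ∀ i : Fin 4, ∃ p q r : DualAffinePoint,
        ¬ pairSwap p * pairSwap q = pairSwap q * pairSwap p ∧
        pairSwap p * pairSwap q * pairSwap p = pairSwap r ∧
        ∀ s : DualAffinePoint, i ∉ s.val ↔ s = p ∨ s = q ∨ s = r := by decide +kernel
    obtain ⟨p, q, r, hn, hr, hi⟩ := key i
    exact ⟨p, q, r, (hval p q).not.2 hn, by show φ _ * φ _ * φ _ = φ _; rw [← map_mul, ← map_mul, hr],
      Set.ext fun s => by simpa using hi s⟩
  · have mem : ∀ (i j : Fin 4) (hij : ({i, j} : Finset (Fin 4)).card = 2) (x : D),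
        (x : G) = φ (pairSwap ⟨{i, j}, hij⟩) → x ∈ Set.range F :=
      fun i j hij x e => ⟨⟨{i, j}, hij⟩, Subtype.ext e.symm⟩
    rintro x ((rfl | rfl | rfl) | (rfl | rfl | rfl))
    · exact mem 1 2 (by decide) _ (by rw [← fa]; exact congrArg φ (by decide +kernel))
    · exact mem 0 1 (by decide) _ (by rw [← fb]; exact congrArg φ (by decide +kernel))
    · exact mem 0 2 (by decide) _ (f02.symm.trans (congrArg φ (by decide +kernel)))
    · exact mem 1 2 (by decide) _ (by rw [← fa]; exact congrArg φ (by decide +kernel))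
    · exact mem 2 3 (by decide) _ (by rw [← fc]; exact congrArg φ (by decide +kernel))
    · exact mem 1 3 (by decide) _ (f13.symm.trans (congrArg φ (by decide +kernel)))
  · intro T hT hS p
    have key : ∀ p : DualAffinePoint, pairSwap p = Equiv.swap 0 1 ∨ pairSwap p = Equiv.swap 1 2 ∨
        pairSwap p = Equiv.swap 2 3 ∨ pairSwap p = Equiv.swap 0 2 ∨ pairSwap p = Equiv.swap 1 3 ∨
        pairSwap p = Equiv.swap 0 3 := by decide +kernel
    have hmem : ∀ x : D, x ∈ T → (F p : G) = x → F p ∈ T := fun x hx e => (Subtype.ext e : F p = x) ▸ hx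
    have hm2 : (⟨(a : G) * b * a, conj_mem h hc a.2 b.2⟩ : D) ∈ T := hS (Or.inl (by simp))
    rcases key p with e | e | e | e | e | e
    · exact hmem b (hS (Or.inl (by simp))) (by show φ _ = _; rw [e, fb])
    · exact hmem a (hS (Or.inl (by simp))) (by show φ _ = _; rw [e, fa])
    · exact hmem c (hS (Or.inr (by simp))) (by show φ _ = _; rw [e, fc])
    · exact hmem _ hm2 (by show φ _ = _; rw [e, f02])
    · exact hmem ⟨_, conj_mem h hc a.2 c.2⟩ (hS (Or.inr (by simp))) (by show φ _ = _; rw [e, f13])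
    · have hn : ¬ Commute ((a : G) * b * a) c := by
        rw [← f02, ← fc]
        intro k
        have k' : φ (Equiv.swap 0 2 * Equiv.swap 2 3) = φ (Equiv.swap 2 3 * Equiv.swap 0 2) := by
          rw [map_mul, map_mul]; exact k.eq
        exact absurd (hinj k') (by decide +kernel)
      have hl := line_mem h hc (x := ⟨_, conj_mem h hc a.2 b.2⟩) (y := c) hn
      refine hmem _ (hT _ hl _ hm2 c (hS (Or.inr (by simp))) ?_ (by simp) (by simp)
        (Set.mem_insert_of_mem _ (Set.mem_insert_of_mem _ rfl))) (by show φ _ = _; rw [e, f03])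
      exact fun k => hn (by rw [← congrArg Subtype.val k])

/-- the affine case -/
theorem plane_affine (h : IsThreeTranspositionSet D) (hc : ∀ g : G, ∀ d ∈ D, g * d * g⁻¹ ∈ D)
    (a b c : D) (hab : ¬ Commute (a : G) b) (hac : ¬ Commute (a : G) c) (hbc : ¬ Commute (b : G) c)
    (hbac : ¬ Commute (b : G) ((a : G) * c * a)) (hcl : (c : G) ≠ (a : G) * b * a) :
    LineSystem.Isomorphic (LineSystem.restrict (threeTranspositionLines D)
      (LineSystem.span (threeTranspositionLines D)
        ({a, b, ⟨(a : G) * b * a, conj_mem h hc a.2 b.2⟩} ∪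
          {a, c, ⟨(a : G) * c * a, conj_mem h hc a.2 c.2⟩}))) affinePlaneThree := by
  obtain ⟨a, ha⟩ := a
  obtain ⟨b, hb⟩ := b
  obtain ⟨c, hC⟩ := c
  simp only at hab hac hbc hbac hcl
  have bab := braid h ha hb hab
  have bac := braid h ha hC hac
  have bbc := braid h hb hC hbc
  have hbD := conj_mem h hc hb hC
  have hcD := conj_mem h hc ha hC
  have hbbac := braid h hb hcD hbac
  have habcb : ¬ Commute a (b * c * b) := by
    intro k
    apply hbac
    have k1 : Commute (b * a * b⁻¹) (b * (b * c * b) * b⁻¹) := (commute_conj_iff b).2 k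
    rw [invconj h hb, invconj h hb, ← bab] at k1
    simp only [mul_assoc, mul_cancel h hb, mul_self h hb, mul_one] at k1
    have k2 : Commute (a * (a * b * a) * a⁻¹) (a * c * a⁻¹) :=
      (commute_conj_iff a).2 (by rw [mul_assoc a b a]; exact k1)
    rw [invconj h ha, invconj h ha] at k2
    simpa only [mul_assoc, mul_cancel h ha, mul_self h ha, mul_one] using k2
  have habb := braid h ha hbD habcb
  let F : (Fin 2 → ZMod 3) → D := fun v =>
    if v = ![0, 0] then ⟨a, ha⟩ else if v = ![1, 0] then ⟨b, hb⟩ else if v = ![0, 1] then ⟨c, hC⟩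
    else if v = ![2, 0] then ⟨_, conj_mem h hc ha hb⟩
    else if v = ![0, 2] then ⟨_, hcD⟩
    else if v = ![2, 2] then ⟨_, hbD⟩
    else if v = ![1, 1] then ⟨_, conj_mem h hc ha hbD⟩
    else if v = ![1, 2] then ⟨_, conj_mem h hc hC (conj_mem h hc ha hb)⟩
    else ⟨_, conj_mem h hc hb hcD⟩
  have hcases : ∀ v : Fin 2 → ZMod 3, v = ![0, 0] ∨ v = ![1, 0] ∨ v = ![0, 1] ∨ v = ![2, 0] ∨
      v = ![0, 2] ∨ v = ![2, 2] ∨ v = ![1, 1] ∨ v = ![1, 2] ∨ v = ![2, 1] := by decide +kernel
  have f00 : (F ![0, 0] : G) = a := rfl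
  have f10 : (F ![1, 0] : G) = b := rfl
  have f01 : (F ![0, 1] : G) = c := rfl
  have f20 : (F ![2, 0] : G) = a * b * a := rfl
  have f02 : (F ![0, 2] : G) = a * c * a := rfl
  have f22 : (F ![2, 2] : G) = b * c * b := rfl
  have f11 : (F ![1, 1] : G) = a * (b * c * b) * a := rfl
  have f12 : (F ![1, 2] : G) = c * (a * b * a) * c := rfl
  have f21 : (F ![2, 1] : G) = b * (a * c * a) * b := rfl
  set R := fun p => ∀ q, (F p : G) * F q * F p = F (-p - q)
  have hstep : ∀ p s, R p → R s → R (-p - s) := by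
    intro p s hp hs q
    have e : -(-p - s) - q = -p - (-s - (-p - q)) := funext fun i => by
      simp only [Pi.sub_apply, Pi.neg_apply]
      generalize p i = u; generalize s i = v; generalize q i = w; revert u v w; decide +kernel
    rw [e, ← hp (-s - (-p - q)), ← hs (-p - q), ← hp q, ← hp s]
    simp only [mul_assoc]
  have hR0 : R ![0, 0] := by
    intro q
    rcases hcases q with rfl | rfl | rfl | rfl | rfl | rfl | rfl | rfl | rfl
    · rw [show -![(0 : ZMod 3), 0] - ![0, 0] = ![0, 0] by decide +kernel, f00, mul_self h ha, one_mul]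
    · rw [show -![(0 : ZMod 3), 0] - ![1, 0] = ![2, 0] by decide +kernel, f00, f10, f20]
    · rw [show -![(0 : ZMod 3), 0] - ![0, 1] = ![0, 2] by decide +kernel, f00, f01, f02]
    · rw [show -![(0 : ZMod 3), 0] - ![2, 0] = ![1, 0] by decide +kernel, f00, f10, f20]
      simp only [mul_assoc, mul_cancel h ha, mul_self h ha, mul_one]
    · rw [show -![(0 : ZMod 3), 0] - ![0, 2] = ![0, 1] by decide +kernel, f00, f01, f02]
      simp only [mul_assoc, mul_cancel h ha, mul_self h ha, mul_one]
    · rw [show -![(0 : ZMod 3), 0] - ![2, 2] = ![1, 1] by decide +kernel, f00, f22, f11]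
    · rw [show -![(0 : ZMod 3), 0] - ![1, 1] = ![2, 2] by decide +kernel, f00, f22, f11]
      simp only [mul_assoc, mul_cancel h ha, mul_self h ha, mul_one]
    · rw [show -![(0 : ZMod 3), 0] - ![1, 2] = ![2, 1] by decide +kernel, f00, f12, f21, hbbac]
      simp only [mul_assoc]
    · rw [show -![(0 : ZMod 3), 0] - ![2, 1] = ![1, 2] by decide +kernel, f00, f12, f21, hbbac]
      simp only [mul_assoc, mul_cancel h ha, mul_self h ha, mul_one]
  have e12 : b * (c * (a * b * a) * c) * b = a * (b * c * b) * a := by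
    rw [habb, bab]; simp only [mul_assoc]
  have hR1 : R ![1, 0] := by
    intro q
    rcases hcases q with rfl | rfl | rfl | rfl | rfl | rfl | rfl | rfl | rfl
    · rw [show -![(1 : ZMod 3), 0] - ![0, 0] = ![2, 0] by decide +kernel, f10, f00, f20, bab]
    · rw [show -![(1 : ZMod 3), 0] - ![1, 0] = ![1, 0] by decide +kernel, f10, mul_self h hb, one_mul]
    · rw [show -![(1 : ZMod 3), 0] - ![0, 1] = ![2, 2] by decide +kernel, f10, f01, f22]
    · rw [show -![(1 : ZMod 3), 0] - ![2, 0] = ![0, 0] by decide +kernel, f10, f00, f20, bab]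
      simp only [mul_assoc, mul_cancel h hb, mul_self h hb, mul_one]
    · rw [show -![(1 : ZMod 3), 0] - ![0, 2] = ![2, 1] by decide +kernel, f10, f02, f21]
    · rw [show -![(1 : ZMod 3), 0] - ![2, 2] = ![0, 1] by decide +kernel, f10, f01, f22]
      simp only [mul_assoc, mul_cancel h hb, mul_self h hb, mul_one]
    · rw [show -![(1 : ZMod 3), 0] - ![1, 1] = ![1, 2] by decide +kernel, f10, f11, f12, ← e12]
      simp only [mul_assoc, mul_cancel h hb, mul_self h hb, mul_one]
    · rw [show -![(1 : ZMod 3), 0] - ![1, 2] = ![1, 1] by decide +kernel, f10, f11, f12, e12]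
    · rw [show -![(1 : ZMod 3), 0] - ![2, 1] = ![0, 2] by decide +kernel, f10, f02, f21]
      simp only [mul_assoc, mul_cancel h hb, mul_self h hb, mul_one]
  have e21 : c * (b * (a * c * a) * b) * c = a * (b * c * b) * a := by
    rw [hbbac, bbc]
    calc c * (a * c * a * b * (a * c * a)) * c = (c * a * c) * (a * b * a) * (c * a * c) := by
          simp only [mul_assoc]
      _ = a * (c * b * c) * a := by
          rw [← bac]; simp only [mul_assoc, mul_cancel h ha]
  have hR2 : R ![0, 1] := by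
    intro q
    rcases hcases q with rfl | rfl | rfl | rfl | rfl | rfl | rfl | rfl | rfl
    · rw [show -![(0 : ZMod 3), 1] - ![0, 0] = ![0, 2] by decide +kernel, f01, f00, f02, bac]
    · rw [show -![(0 : ZMod 3), 1] - ![1, 0] = ![2, 2] by decide +kernel, f01, f10, f22, bbc]
    · rw [show -![(0 : ZMod 3), 1] - ![0, 1] = ![0, 1] by decide +kernel, f01, mul_self h hC, one_mul]
    · rw [show -![(0 : ZMod 3), 1] - ![2, 0] = ![1, 2] by decide +kernel, f01, f20, f12]
    · rw [show -![(0 : ZMod 3), 1] - ![0, 2] = ![0, 0] by decide +kernel, f01, f00, f02, bac]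
      simp only [mul_assoc, mul_cancel h hC, mul_self h hC, mul_one]
    · rw [show -![(0 : ZMod 3), 1] - ![2, 2] = ![1, 0] by decide +kernel, f01, f10, f22, bbc]
      simp only [mul_assoc, mul_cancel h hC, mul_self h hC, mul_one]
    · rw [show -![(0 : ZMod 3), 1] - ![1, 1] = ![2, 1] by decide +kernel, f01, f11, f21, ← e21]
      simp only [mul_assoc, mul_cancel h hC, mul_self h hC, mul_one]
    · rw [show -![(0 : ZMod 3), 1] - ![1, 2] = ![2, 0] by decide +kernel, f01, f20, f12]
      simp only [mul_assoc, mul_cancel h hC, mul_self h hC, mul_one]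
    · rw [show -![(0 : ZMod 3), 1] - ![2, 1] = ![1, 1] by decide +kernel, f01, f11, f21, e21]
  have hR20 : R ![2, 0] := by
    rw [show (![2, 0] : Fin 2 → ZMod 3) = -![0, 0] - ![1, 0] by decide +kernel]; exact hstep _ _ hR0 hR1
  have hR02 : R ![0, 2] := by
    rw [show (![0, 2] : Fin 2 → ZMod 3) = -![0, 0] - ![0, 1] by decide +kernel]; exact hstep _ _ hR0 hR2
  have hR22 : R ![2, 2] := by
    rw [show (![2, 2] : Fin 2 → ZMod 3) = -![1, 0] - ![0, 1] by decide +kernel]; exact hstep _ _ hR1 hR2
  have hR : ∀ p, R p := by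
    intro p
    rcases hcases p with rfl | rfl | rfl | rfl | rfl | rfl | rfl | rfl | rfl
    exacts [hR0, hR1, hR2, hR20, hR02, hR22,
      (show (![1, 1] : Fin 2 → ZMod 3) = -![0, 0] - ![2, 2] by decide +kernel) ▸ hstep _ _ hR0 hR22,
      (show (![1, 2] : Fin 2 → ZMod 3) = -![0, 1] - ![2, 0] by decide +kernel) ▸ hstep _ _ hR2 hR20,
      (show (![2, 1] : Fin 2 → ZMod 3) = -![1, 0] - ![0, 2] by decide +kernel) ▸ hstep _ _ hR1 hR02]
  have hinj : Function.Injective F := by
    intro p q hpq
    by_contra hne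
    -- a coincidence makes the parametrisation periodic
    have hper : ∀ s, F (s + (p - q)) = F s := by
      intro s
      have h1 : F (-(-s - p) - q) = F (-(-s - p) - p) :=
        Subtype.ext (by rw [← hR (-s - p) q, ← hR (-s - p) p, hpq])
      have e1 : -(-s - p) - p = s := by abel
      have e2 : -(-s - p) - q = s + (p - q) := by abel
      rwa [e1, e2] at h1
    have hv : p - q ≠ 0 := sub_ne_zero.2 hne
    have h0 := congrArg Subtype.val (hper ![0, 0])
    rcases hcases (p - q) with e | e | e | e | e | e | e | e | e <;> rw [e] at h0 hv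
    · exact hv (by decide +kernel)
    · rw [show ![(0 : ZMod 3), 0] + ![1, 0] = ![1, 0] by decide +kernel, f10, f00] at h0
      exact hab (h0 ▸ Commute.refl _)
    · rw [show ![(0 : ZMod 3), 0] + ![0, 1] = ![0, 1] by decide +kernel, f01, f00] at h0
      exact hac (h0 ▸ Commute.refl _)
    · rw [show ![(0 : ZMod 3), 0] + ![2, 0] = ![2, 0] by decide +kernel, f20, f00] at h0
      refine hab ((commute_iff_conj h ha b).2 ?_)
      have := congrArg (fun x => a * x * a) h0
      simp only [mul_assoc, mul_cancel h ha, mul_self h ha, mul_one, one_mul] at this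
      rw [this]
      simp only [mul_self h ha, one_mul]
    · rw [show ![(0 : ZMod 3), 0] + ![0, 2] = ![0, 2] by decide +kernel, f02, f00] at h0
      refine hac ((commute_iff_conj h ha c).2 ?_)
      have := congrArg (fun x => a * x * a) h0
      simp only [mul_assoc, mul_cancel h ha, mul_self h ha, mul_one, one_mul] at this
      rw [this]
      simp only [mul_self h ha, one_mul]
    · rw [show ![(0 : ZMod 3), 0] + ![2, 2] = ![2, 2] by decide +kernel, f22, f00] at h0
      exact habcb (h0 ▸ Commute.refl _)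
    · have h3 := congrArg Subtype.val (hper ![2, 0])
      rw [e, show ![(2 : ZMod 3), 0] + ![1, 1] = ![0, 1] by decide +kernel, f01, f20] at h3
      exact hcl h3
    · have h3 := congrArg Subtype.val (hper ![0, 1])
      rw [e, show ![(0 : ZMod 3), 1] + ![1, 2] = ![1, 0] by decide +kernel, f01, f10] at h3
      exact hbc (h3 ▸ Commute.refl _)
    · have h3 := congrArg Subtype.val (hper ![1, 0])
      rw [e, show ![(1 : ZMod 3), 0] + ![2, 1] = ![0, 1] by decide +kernel, f01, f10] at h3
      exact hbc (h3 ▸ Commute.refl _)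
  have hnc : ∀ p q, p ≠ q → ¬ Commute (F p : G) (F q) := by
    intro p q hne k
    have e := hR p q
    rw [(commute_iff_conj h (F p).2 _).1 k] at e
    have e' := hinj (Subtype.ext e)
    apply hne
    funext i
    have := congrFun e' i
    simp only [Pi.sub_apply, Pi.neg_apply] at this
    revert this
    generalize p i = u; generalize q i = v; revert u v; decide +kernel
  refine plane_of_param h hc affinePlaneThree F hinj (fun p q hn => ⟨-p - q, hR p q,
    affine_line p q fun e => hn (e ▸ Commute.refl _)⟩) (fun m hm => ?_) _ ?_ ?_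
  · obtain ⟨p, q, hne, rfl⟩ := affine_form hm
    exact ⟨p, q, -p - q, hnc p q hne, hR p q, rfl⟩
  · rintro x ((rfl | rfl | rfl) | (rfl | rfl | rfl))
    exacts [⟨_, Subtype.ext f00⟩, ⟨_, Subtype.ext f10⟩, ⟨_, Subtype.ext f20⟩, ⟨_, Subtype.ext f00⟩,
      ⟨_, Subtype.ext f01⟩, ⟨_, Subtype.ext f02⟩]
  · intro T hT hS
    have hclosed : ∀ p q, p ≠ q → F p ∈ T → F q ∈ T → F (-p - q) ∈ T := by
      intro p q hne hp hq
      refine hT _ (line_mem h hc (hnc p q hne)) _ hp _ hq (fun e => hne (hinj e)) (by simp) (by simp) ?_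
      exact Set.mem_insert_of_mem _ (Set.mem_insert_of_mem _ (Subtype.ext (hR p q).symm))
    have t00 : F ![0, 0] ∈ T := hS (Or.inl (Or.inl (Subtype.ext f00)))
    have t10 : F ![1, 0] ∈ T := hS (Or.inl (Or.inr (Or.inl (Subtype.ext f10))))
    have t20 : F ![2, 0] ∈ T := hS (Or.inl (Or.inr (Or.inr (Subtype.ext f20))))
    have t01 : F ![0, 1] ∈ T := hS (Or.inr (Or.inr (Or.inl (Subtype.ext f01))))
    have t02 : F ![0, 2] ∈ T := hS (Or.inr (Or.inr (Or.inr (Subtype.ext f02))))
    have t22 : F ![2, 2] ∈ T :=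
      (show -![(1 : ZMod 3), 0] - ![0, 1] = ![2, 2] by decide +kernel) ▸
        hclosed _ _ (by decide +kernel) t10 t01
    intro p
    rcases hcases p with rfl | rfl | rfl | rfl | rfl | rfl | rfl | rfl | rfl
    exacts [t00, t10, t01, t20, t02, t22,
      (show -![(0 : ZMod 3), 0] - ![2, 2] = ![1, 1] by decide +kernel) ▸
        hclosed _ _ (by decide +kernel) t00 t22,
      (show -![(0 : ZMod 3), 1] - ![2, 0] = ![1, 2] by decide +kernel) ▸
        hclosed _ _ (by decide +kernel) t01 t20,
      (show -![(1 : ZMod 3), 0] - ![0, 2] = ![2, 1] by decide +kernel) ▸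
        hclosed _ _ (by decide +kernel) t10 t02]

theorem fischerSpace (hD : IsThreeTranspositionGroup D) : IsFischerSpace (threeTranspositionLines D) := by
  have h := hD.1
  have hc := hD.2.1
  refine ⟨fun l hl m hm x y hne hxl hyl hxm hym => by
    rw [(line_form h hc hl hxl hyl hne).2, (line_form h hc hm hxm hym hne).2],
    fun l hl => lines_three h hc hl, fun l hl m hm hlm ⟨a, hal, ham⟩ => ?_⟩
  have hother : ∀ l ∈ threeTranspositionLines D, a ∈ l → ∃ b ∈ l, b ≠ a := fun l hl hal =>
    Set.exists_ne_of_one_lt_ncard (by rw [lines_three h hc hl]; norm_num) a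
  obtain ⟨b, hbl, hba⟩ := hother l hl hal
  obtain ⟨c, hcm, hca⟩ := hother m hm ham
  obtain ⟨hab, el⟩ := line_form h hc hl hal hbl hba.symm
  obtain ⟨hac, em⟩ := line_form h hc hm ham hcm hca.symm
  have huniq : ∀ z ∈ l, z ≠ a → z ∈ m → False := fun z hz hza hzm => hlm (by
    rw [(line_form h hc hl hal hz hza.symm).2, (line_form h hc hm ham hzm hza.symm).2])
  by_cases hbc : Commute (b : G) c
  · exact Or.inl (el ▸ em ▸ plane_dual h hc a b c hab hac hbc fun e => huniq b hbl hba (e ▸ hcm))
  by_cases hbac : Commute (b : G) ((a : G) * c * a)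
  · set c' : D := ⟨(a : G) * c * a, conj_mem h hc a.2 c.2⟩
    have hc'm : c' ∈ m := em ▸ Set.mem_insert_of_mem _ (Set.mem_insert_of_mem _ rfl)
    have hc'a : c' ≠ a := fun e => hac ((commute_iff_conj h a.2 c).2 (by
      have := congrArg (fun z : D => (a : G) * z * a) e
      simp only [c', mul_assoc, mul_cancel h a.2, mul_self h a.2, mul_one, one_mul] at this
      rw [this]; simp only [mul_self h a.2, one_mul]))
    obtain ⟨hac', em'⟩ := line_form h hc hm ham hc'm hc'a.symm
    exact Or.inl (el ▸ em' ▸ plane_dual h hc a b c' hab hac' hbac fun e => huniq b hbl hba (e ▸ hc'm))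
  · refine Or.inr (el ▸ em ▸ plane_affine h hc a b c hab hac hbc hbac fun e => ?_)
    exact huniq c (el ▸ Set.mem_insert_of_mem _ (Set.mem_insert_of_mem _ (Subtype.ext e))) hca hcm

end CfsgLib.Fischer
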