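import Cfsg.Agent.Lie.Unitary
import Mathlib

/-!
Two facts on the projective special unitary groups over the field with four elements: no non-trivial
normal 2-subgroup, and no two non-trivial commuting normal subgroups generating the group.
-/

set_option autoImplicit false
set_option linter.unusedSectionVars false

namespace CfsgLib.Fischer.PSU

open scoped commutatorElement

open Matrix CfsgLib.Lie CfsgLib.Lie.Herm CfsgLib.Lie.Unitary

/-- the commutator of a transvection with an element commutes with what commutes with that element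
    modulo the centre -/
theorem commutator_commute {G : Type*} [Group G] {t1 t2 x m : G} (h1 : ⁅t2, x⁆ ∈ Subgroup.center G)
    (h2 : ⁅m, x⁆ ∈ Subgroup.center G) (h3 : ⁅m, t1⁆ ∈ Subgroup.center G) :
    Commute m ((t1 * t2) * x * (t1 * t2)⁻¹ * x⁻¹) := by
  simp only [commutatorElement_def] at h1 h2 h3
  set z1 := t2 * x * t2⁻¹ * x⁻¹ with hz1
  set z2 := m * x * m⁻¹ * x⁻¹ with hz2
  set z3 := m * t1 * m⁻¹ * t1⁻¹ with hz3
  have e0 : (t1 * t2) * x * (t1 * t2)⁻¹ * x⁻¹ = t1 * (z1 * x) * t1⁻¹ * x⁻¹ := by rw [hz1]; group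
  have c1 := Subgroup.mem_center_iff.1 h1
  have c2 := Subgroup.mem_center_iff.1 h2
  have c3 := Subgroup.mem_center_iff.1 h3
  have m1 : m * t1 = z3 * t1 * m := by rw [hz3]; group
  have m2 : m * x = z2 * x * m := by rw [hz2]; group
  have e1 : m * (t1 * x * t1⁻¹ * x⁻¹) * m⁻¹ = t1 * x * t1⁻¹ * x⁻¹ := by
    calc m * (t1 * x * t1⁻¹ * x⁻¹) * m⁻¹
        = (m * t1 * m⁻¹) * (m * x * m⁻¹) * (m * t1 * m⁻¹)⁻¹ * (m * x * m⁻¹)⁻¹ := by group
      _ = (z3 * t1) * (z2 * x) * (z3 * t1)⁻¹ * (z2 * x)⁻¹ := by rw [hz3, hz2]; group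
      _ = z3 * (t1 * z2) * x * t1⁻¹ * z3⁻¹ * x⁻¹ * z2⁻¹ := by group
      _ = (z3 * z2) * (t1 * x * t1⁻¹ * (z3⁻¹ * x⁻¹) * z2⁻¹) := by rw [c2 t1]; group
      _ = (z3 * z2) * (t1 * x * t1⁻¹ * x⁻¹) * (z3⁻¹ * z2⁻¹) := by
          rw [← Subgroup.mem_center_iff.1 (inv_mem h3) x⁻¹]; group
      _ = (t1 * x * t1⁻¹ * x⁻¹) * ((z3 * z2) * (z3⁻¹ * z2⁻¹)) := by
          rw [← Subgroup.mem_center_iff.1 (mul_mem h3 h2) _]; group
      _ = _ := by rw [show z2 = z2 from rfl, ← c3 z2]; group
  rw [e0, show t1 * (z1 * x) * t1⁻¹ * x⁻¹ = (t1 * z1) * x * t1⁻¹ * x⁻¹ by group, c1 t1,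
    show z1 * t1 * x * t1⁻¹ * x⁻¹ = z1 * (t1 * x * t1⁻¹ * x⁻¹) by group]
  refine Commute.mul_right (c1 m) ?_
  exact mul_inv_eq_iff_eq_mul.1 e1

variable {F : Type*} [Field F] [Fintype F] {n : ℕ}

local notation "h" => Cfsg.hermForm n F 2

variable (hF : Fintype.card F = 4)
include hF

theorem card_sq : Fintype.card F = 2 ^ 2 := by rw [hF]; norm_num

theorem two_zero : (2 : F) = 0 := by
  have h4 : ((4 : ℕ) : F) = 0 := hF ▸ FiniteField.cast_card_eq_zero F
  have h22 : (2 : F) * 2 = 0 := by rw [← h4]; norm_num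
  rcases mul_eq_zero.1 h22 with k | k <;> exact k

theorem add_self_zero (x : F) : x + x = 0 := by rw [← two_mul, two_zero hF, zero_mul]

theorem pow_three {x : F} (hx : x ≠ 0) : x ^ 3 = 1 := by
  simpa [hF] using FiniteField.pow_card_sub_one_eq_one x hx

/-- the matrix of an element of SU -/
local notation "mat" g:max => ((Subtype.val g : Matrix.SpecialLinearGroup (Fin n) F) : Matrix (Fin n) (Fin n) F)

/-- the transvection at an isotropic vector -/
theorem exists_transvection {v : Fin n → F} (hv : h v v = 0) :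
    ∃ t : Cfsg.SU n F 2, ∀ x, (mat t) *ᵥ x = x + h x v • v := by
  set T := Cfsg.unitaryTransvection n 2 v (1 : F) with hT
  have hTx : ∀ x, T *ᵥ x = x + h x v • v := fun x => by rw [hT, transvection_mulVec, one_mul]
  have hT2 : T * T = 1 := by
    refine Matrix.toLin'.injective (LinearMap.ext fun x => ?_)
    rw [Matrix.toLin'_apply, Matrix.toLin'_apply, ← Matrix.mulVec_mulVec, hTx, hTx, Matrix.one_mulVec,
      form_add_left, form_smul_left, hv, mul_zero, add_zero, add_assoc, ← add_smul, add_self_zero hF,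
      zero_smul, add_zero]
  have hdet : T.det = 1 := by
    have h1 : T.det * T.det = 1 := by rw [← Matrix.det_mul, hT2, Matrix.det_one]
    have h2 : (T.det - 1) * (T.det - 1) = 0 := by
      linear_combination h1 - (T.det - 1) * two_zero hF
    exact sub_eq_zero.1 (mul_self_eq_zero.1 h2)
  refine ⟨⟨⟨T, hdet⟩, ?_⟩, fun x => hTx x⟩
  by_cases hv0 : v = 0
  · intro x y
    show h (T *ᵥ x) (T *ᵥ y) = h x y
    rw [hTx, hTx, hv0]; simp
  · refine (transvection_isometry_iff (card_sq hF) hv0 hv 1).2 (Or.inr ?_)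
    rw [one_pow]
    linear_combination two_zero hF

theorem mat_mul (a b : Cfsg.SU n F 2) (x : Fin n → F) :
    (mat (a * b)) *ᵥ x = (mat a) *ᵥ ((mat b) *ᵥ x) := by
  rw [Matrix.mulVec_mulVec]; rfl

theorem mat_one (x : Fin n → F) : (mat (1 : Cfsg.SU n F 2)) *ᵥ x = x := Matrix.one_mulVec x

theorem mat_inv (a : Cfsg.SU n F 2) (x : Fin n → F) : (mat a⁻¹) *ᵥ ((mat a) *ᵥ x) = x := by
  rw [← mat_mul hF, inv_mul_cancel, mat_one hF]

theorem mat_ext {a b : Cfsg.SU n F 2} (hab : ∀ x, (mat a) *ᵥ x = (mat b) *ᵥ x) : a = b :=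
  Subtype.ext (Subtype.ext (Matrix.toLin'.injective (LinearMap.ext fun x => by
    rw [Matrix.toLin'_apply, Matrix.toLin'_apply]; exact hab x)))

theorem preserve (a : Cfsg.SU n F 2) (x y : Fin n → F) : h ((mat a) *ᵥ x) ((mat a) *ᵥ y) = h x y :=
  a.2 x y

/-- `v i j c` -/
theorem iso_pair {i j : Fin n} (hij : i ≠ j) {c : F} (hc : c ≠ 0) :
    h (Pi.single i 1 + c • Pi.single j 1) (Pi.single i 1 + c • Pi.single j 1) = 0 := by
  rw [form_add_right (card_sq hF), form_smul_right, form_single (card_sq hF), form_single (card_sq hF)]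
  simp only [Pi.add_apply, Pi.smul_apply, smul_eq_mul, Pi.single_eq_same, Pi.single_eq_of_ne hij,
    Pi.single_eq_of_ne hij.symm, mul_zero, mul_one, add_zero, zero_add]
  rw [← pow_succ, pow_three hF hc, add_self_zero hF]

theorem exists_two_ne (a : F) : ∃ c c' : F, c ≠ 0 ∧ c' ≠ 0 ∧ c ≠ c' ∧ c ≠ a ∧ c' ≠ a := by
  classical
  have h1 : 1 < ((Finset.univ : Finset F).erase 0 |>.erase a).card := by
    have e1 := Finset.pred_card_le_card_erase (s := (Finset.univ : Finset F)) (a := (0 : F))
    have e2 := Finset.pred_card_le_card_erase (s := (Finset.univ : Finset F).erase 0) (a := a)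
    rw [Finset.card_univ, hF] at e1
    omega
  obtain ⟨c, hc, c', hc', hne⟩ := Finset.one_lt_card.1 h1
  simp only [Finset.mem_erase, Finset.mem_univ, and_true] at hc hc'
  exact ⟨c, c', hc.2, hc'.2, hne, hc.1, hc'.1⟩

/-- invariant subspaces are trivial -/
theorem irreducible (W : Submodule F (Fin n → F))
    (hW : ∀ g : Cfsg.SU n F 2, ∀ x ∈ W, (mat g) *ᵥ x ∈ W) : W = ⊥ ∨ W = ⊤ := by
  classical
  refine or_iff_not_imp_left.2 fun hne => ?_
  obtain ⟨w, hw, hw0⟩ := Submodule.exists_mem_ne_zero_of_ne_bot hne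
  obtain ⟨i, hi⟩ := Function.ne_iff.1 hw0
  simp only [Pi.zero_apply] at hi
  have key : ∀ v, h v v = 0 → h w v ≠ 0 → v ∈ W := by
    intro v hv hwv
    obtain ⟨t, ht⟩ := exists_transvection hF hv
    have := W.sub_mem (hW t w hw) hw
    rw [ht, add_sub_cancel_left] at this
    exact (Submodule.smul_mem_iff W hwv).1 this
  have hj : ∀ j, j ≠ i → (Pi.single j 1 : Fin n → F) ∈ W ∧ (Pi.single i 1 : Fin n → F) ∈ W := by
    intro j hji
    -- the only bad scalar
    obtain ⟨c, c', hc, hc', hne', hca, hca'⟩ := exists_two_ne hF ((-(w i) / w j) ^ 2)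
    have good : ∀ c : F, c ≠ 0 → c ≠ (-(w i) / w j) ^ 2 →
        (Pi.single i 1 + c • Pi.single j 1 : Fin n → F) ∈ W := by
      intro c hc hca
      refine key _ (iso_pair hF (Ne.symm hji) hc) fun hz => ?_
      rw [form_add_right (card_sq hF), form_smul_right, form_single (card_sq hF),
        form_single (card_sq hF)] at hz
      by_cases hwj : w j = 0
      · rw [hwj, mul_zero, add_zero] at hz; exact hi hz
      · apply hca
        have e : c ^ 2 = -(w i) / w j := by rw [eq_div_iff hwj]; linear_combination hz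
        rw [← e, ← pow_mul, show (2 * 2) = 3 + 1 from rfl, pow_succ, pow_three hF hc, one_mul]
    have m1 := good c hc hca
    have m2 := good c' hc' hca'
    have hd : (c - c') • (Pi.single j 1 : Fin n → F) ∈ W := by
      have := W.sub_mem m1 m2
      rwa [add_sub_add_left_eq_sub, ← sub_smul] at this
    have hjW := (Submodule.smul_mem_iff W (sub_ne_zero.2 hne')).1 hd
    exact ⟨hjW, by simpa using W.sub_mem m1 (W.smul_mem c hjW)⟩
  have hsingle : ∀ j, (Pi.single j 1 : Fin n → F) ∈ W := by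
    intro j
    by_cases hji : j = i
    · subst hji
      by_cases hall : ∃ k, k ≠ j
      · obtain ⟨k, hk⟩ := hall; exact (hj k hk).2
      · push Not at hall
        have : w = w j • (Pi.single j 1 : Fin n → F) := by
          funext k; rw [hall k]; simp
        rw [this] at hw
        exact (Submodule.smul_mem_iff W hi).1 hw
    · exact (hj j hji).1
  refine eq_top_iff.2 fun x _ => ?_
  rw [pi_eq_sum_univ x]
  refine W.sum_mem fun j _ => W.smul_mem _ ?_
  convert hsingle j using 1
  funext k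
  simp [Pi.single_apply, eq_comm]

/-- elements fixing every member of a spanning invariant family of lines have order dividing three -/
theorem pow_three_of_span {N : Subgroup (Cfsg.SU n F 2)} [N.Normal] {v : Fin n → F} (hv : v ≠ 0)
    (hN : ∀ m ∈ N, ∃ a : F, (mat m) *ᵥ v = a • v) : ∀ m ∈ N, m ^ 3 = 1 := by
  intro m hm
  set W := Submodule.span F {u : Fin n → F | ∀ m ∈ N, ∃ a : F, (mat m) *ᵥ u = a • u}
  have hW : ∀ g : Cfsg.SU n F 2, ∀ x ∈ W, (mat g) *ᵥ x ∈ W := by
    intro g x hx
    induction hx using Submodule.span_induction with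
    | mem u hu =>
      refine Submodule.subset_span fun k hk => ?_
      obtain ⟨a, ha⟩ := hu (g⁻¹ * k * g) (Subgroup.Normal.conj_mem' inferInstance k hk g)
      refine ⟨a, ?_⟩
      rw [← Matrix.mulVec_smul, ← ha, ← mat_mul hF, ← mat_mul hF,
        show g * (g⁻¹ * k * g) = k * g by group]
    | zero => rw [Matrix.mulVec_zero]; exact W.zero_mem
    | add a b _ _ ha hb => rw [Matrix.mulVec_add]; exact W.add_mem ha hb
    | smul a b _ hb => rw [Matrix.mulVec_smul]; exact W.smul_mem _ hb
  rcases irreducible hF W hW with hb | ht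
  · exact absurd (hb ▸ Submodule.subset_span hN : v ∈ (⊥ : Submodule F (Fin n → F))) (by simpa using hv)
  refine mat_ext hF fun x => ?_
  have hx : x ∈ W := ht ▸ Submodule.mem_top
  rw [mat_one hF]
  induction hx using Submodule.span_induction with
  | mem u hu =>
    obtain ⟨a, ha⟩ := hu m hm
    by_cases hu0 : u = 0
    · rw [hu0, Matrix.mulVec_zero]
    · have ha0 : a ≠ 0 := fun k => hu0 (by rw [← mat_inv hF m u, ha, k, zero_smul, Matrix.mulVec_zero])
      rw [pow_succ, pow_succ, pow_one, mat_mul hF, mat_mul hF, ha, Matrix.mulVec_smul,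
        Matrix.mulVec_smul, ha, Matrix.mulVec_smul, ha, smul_smul, smul_smul,
        show a * a * a = a ^ 3 by ring, pow_three hF ha0, one_smul]
  | zero => rw [Matrix.mulVec_zero]
  | add a b _ _ ha hb => rw [Matrix.mulVec_add, ha, hb]
  | smul a b _ hb => rw [Matrix.mulVec_smul, hb]

theorem center_three (z : Cfsg.SU n F 2) (hz : z ∈ Subgroup.center (Cfsg.SU n F 2)) (hn : 2 ≤ n) :
    ∃ a : F, a ^ 3 = 1 ∧ ∀ x, (mat z) *ᵥ x = a • x := by
  have hs := scalar_of_commute (card_sq hF) hn (z := mat z) fun A hA hA' => by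
    have := Subgroup.mem_center_iff.1 hz ⟨⟨A, hA⟩, hA'⟩
    exact (congrArg (fun g : Cfsg.SU n F 2 => mat g) this).symm
  set a := (mat z) ⟨0, by omega⟩ ⟨0, by omega⟩
  have hax : ∀ x, (mat z) *ᵥ x = a • x := fun x => by
    conv_lhs => rw [hs]
    rw [Matrix.smul_mulVec, Matrix.one_mulVec]
  refine ⟨a, pow_three hF fun h0 => ?_, hax⟩
  have := mat_inv hF z (Pi.single ⟨0, by omega⟩ 1)
  rw [hax, h0, zero_smul, Matrix.mulVec_zero] at this
  simpa using congrFun this ⟨0, by omega⟩

theorem center_pow_three (z : Cfsg.SU n F 2) (hz : z ∈ Subgroup.center (Cfsg.SU n F 2)) (hn : 2 ≤ n) :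
    z ^ 3 = 1 := by
  obtain ⟨a, ha, hax⟩ := center_three hF z hz hn
  refine mat_ext hF fun x => ?_
  rw [pow_succ, pow_succ, pow_one, mat_mul hF, mat_mul hF, mat_one hF, hax, hax, hax, smul_smul, smul_smul,
    show a * a * a = a ^ 3 by ring, ha, one_smul]

/-- no non-trivial normal 2-subgroup -/
theorem normal_two_bot (hn : 2 ≤ n) (M : Subgroup (Cfsg.PSU n F 2)) [M.Normal] (hM : IsPGroup 2 M) :
    M = ⊥ := by
  classical
  set π := QuotientGroup.mk' (Subgroup.center (Cfsg.SU n F 2)) with hπ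
  set N := M.comap π with hN
  let f : N →* M := (π.comp N.subtype).codRestrict M fun x => x.2
  haveI hnil : Group.IsNilpotent N := by
    haveI : Group.IsNilpotent M := hM.isNilpotent
    refine Subgroup.isNilpotent_of_ker_le_center f (fun x hx => ?_)
    have hxc : (x : Cfsg.SU n F 2) ∈ Subgroup.center (Cfsg.SU n F 2) := by
      have := congrArg Subtype.val (MonoidHom.mem_ker.1 hx)
      exact (QuotientGroup.eq_one_iff _).1 this
    exact Subgroup.mem_center_iff.2 fun y => Subtype.ext (Subgroup.mem_center_iff.1 hxc y)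
  haveI : Fact (Nat.Prime 2) := ⟨Nat.prime_two⟩
  let Q : Sylow 2 N := default
  haveI hQn : (Q : Subgroup N).Normal := ((Group.isNilpotent_of_finite_tfae (G := N)).out 0 3 rfl rfl).mp hnil 2 inferInstance Q
  haveI : (Q : Subgroup N).Characteristic := Q.characteristic_of_normal hQn
  set A : Subgroup (Cfsg.SU n F 2) := (Q : Subgroup N).map N.subtype with hA
  haveI hAn : A.Normal := inferInstance
  have hA2 : IsPGroup 2 A := Q.isPGroup'.map _
  -- a non-zero vector fixed by `A`
  have hA1 : A = ⊥ := by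
    letI : MulAction A (Fin n → F) :=
      { smul := fun a x => (mat (a : Cfsg.SU n F 2)) *ᵥ x
        one_smul := fun x => mat_one hF x
        mul_smul := fun a b x => mat_mul hF _ _ x }
    have h2 : 2 ∣ Nat.card (Fin n → F) := by
      rw [Nat.card_eq_fintype_card, Fintype.card_fun, hF, Fintype.card_fin]
      exact dvd_pow (by norm_num) (by omega)
    obtain ⟨w, hw, hw0⟩ := hA2.exists_fixed_point_of_prime_dvd_card_of_fixed_point (Fin n → F) h2
      (a := 0) (MulAction.mem_fixedPoints.2 fun a => Matrix.mulVec_zero _)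
    refine eq_bot_iff.2 fun a ha => Subgroup.mem_bot.2 ?_
    obtain ⟨k, hk⟩ := hA2 ⟨a, ha⟩
    have hk' : a ^ 2 ^ k = 1 := congrArg Subtype.val hk
    have h3 := pow_three_of_span hF (Ne.symm hw0) (N := A) (fun m hm => ⟨1, by
      rw [one_smul]; exact MulAction.mem_fixedPoints.1 hw ⟨m, hm⟩⟩) a ha
    refine orderOf_eq_one_iff.1 (Nat.eq_one_of_dvd_coprimes ?_ (orderOf_dvd_of_pow_eq_one hk')
      (orderOf_dvd_of_pow_eq_one h3))
    exact Nat.Coprime.pow_left _ (by norm_num)
  refine eq_bot_iff.2 fun x hx => Subgroup.mem_bot.2 ?_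
  obtain ⟨g, rfl⟩ := QuotientGroup.mk'_surjective _ x
  obtain ⟨k, hk⟩ := hM ⟨π g, hx⟩
  have hk' : (π g) ^ 2 ^ k = 1 := congrArg Subtype.val hk
  -- the 2-part of the lift is trivial
  have hg3 : g ^ 3 ∈ N := pow_mem (show g ∈ N from hx) 3
  have hpow : (g ^ 3) ^ 2 ^ k = 1 := by
    rw [← pow_mul, mul_comm, pow_mul]
    exact center_pow_three hF _ ((QuotientGroup.eq_one_iff _).1 (by rw [← hk', ← map_pow]; rfl)) hn
  have hp : IsPGroup 2 (Subgroup.zpowers (⟨g ^ 3, hg3⟩ : N)) := by
    rintro ⟨y, i, rfl⟩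
    refine ⟨k, Subtype.ext ?_⟩
    show ((⟨g ^ 3, hg3⟩ : N) ^ i) ^ 2 ^ k = 1
    rw [← zpow_natCast, zpow_comm, zpow_natCast,
      show (⟨g ^ 3, hg3⟩ : N) ^ 2 ^ k = 1 from Subtype.ext hpow, _root_.one_zpow]
  obtain ⟨P, hP⟩ := hp.exists_le_sylow
  have hPQ : P = Q := by
    letI := Sylow.unique_of_normal Q hQn
    exact Subsingleton.elim _ _
  have hgA : g ^ 3 ∈ A := ⟨⟨g ^ 3, hg3⟩, hPQ ▸ hP (Subgroup.mem_zpowers _), rfl⟩
  rw [hA1, Subgroup.mem_bot] at hgA
  refine orderOf_eq_one_iff.1 (Nat.eq_one_of_dvd_coprimes (Nat.Coprime.pow_left k (by norm_num : Nat.Coprime 2 3))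
    (orderOf_dvd_of_pow_eq_one hk') (orderOf_dvd_of_pow_eq_one ?_))
  rw [← map_pow, hgA, map_one]

theorem scalar_of_fix_all (hn : 3 ≤ n) {m : Cfsg.SU n F 2}
    (hm : ∀ v, h v v = 0 → ∃ a : F, (mat m) *ᵥ v = a • v) : m ∈ Subgroup.center (Cfsg.SU n F 2) := by
  classical
  set A := mat m with hA
  obtain ⟨c, c', hc, hc', hcc, -, -⟩ := exists_two_ne hF (0 : F)
  have key : ∀ i j : Fin n, i ≠ j → (∀ k, k ≠ i → k ≠ j → A k i = 0) ∧ (A i j = 0 → A j i = 0 → A i i = A j j) := by
    intro i j hij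
    have eq : ∀ c : F, c ≠ 0 → ∃ a : F, ∀ k, A k i + c * A k j =
        a * (if k = i then 1 else 0) + a * (c * (if k = j then 1 else 0)) := by
      intro c hc
      obtain ⟨a, ha⟩ := hm _ (iso_pair hF hij hc)
      refine ⟨a, fun k => ?_⟩
      have := congrFun ha k
      rw [Matrix.mulVec_add, Matrix.mulVec_smul, Matrix.mulVec_single_one, Matrix.mulVec_single_one] at this
      simpa [Pi.single_apply, mul_add] using this
    obtain ⟨a, ha⟩ := eq c hc
    obtain ⟨a', ha'⟩ := eq c' hc'
    refine ⟨fun k hki hkj => ?_, fun h1 h2 => ?_⟩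
    · have e1 := ha k
      have e2 := ha' k
      rw [if_neg hki, if_neg hkj] at e1 e2
      have e3 : (c - c') * A k j = 0 := by linear_combination e1 - e2
      rcases mul_eq_zero.1 e3 with e | e
      · exact absurd (sub_eq_zero.1 e) hcc
      · linear_combination e1 - c * e
    · have e1 := ha i
      have e2 := ha j
      rw [if_pos rfl, if_neg hij, h1] at e1
      rw [if_neg hij.symm, if_pos rfl, h2] at e2
      have e3 : c * (A i i - A j j) = 0 := by linear_combination c * e1 - e2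
      rcases mul_eq_zero.1 e3 with e | e
      · exact absurd e hc
      · exact sub_eq_zero.1 e
  have hoff : ∀ k i, k ≠ i → A k i = 0 := by
    intro k i hki
    obtain ⟨j, hj, hj'⟩ := exists_third hn k i
    exact (key i j (Ne.symm hj')).1 k hki (Ne.symm hj)
  set a := A ⟨0, by omega⟩ ⟨0, by omega⟩
  have hdiag : ∀ i, A i i = a := by
    intro i
    by_cases hi : i = ⟨0, by omega⟩
    · rw [hi]
    · exact (key i _ hi).2 (hoff _ _ hi) (hoff _ _ (Ne.symm hi))
  have hAa : A = a • (1 : Matrix (Fin n) (Fin n) F) := by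
    ext k i
    by_cases hki : k = i
    · subst hki; rw [hdiag k]; simp
    · rw [hoff k i hki]; simp [hki]
  refine Subgroup.mem_center_iff.2 fun g => Subtype.ext (Subtype.ext ?_)
  change mat g * A = A * mat g
  rw [hAa]; simp
where
  exists_third (hn : 3 ≤ n) (k i : Fin n) : ∃ j, j ≠ k ∧ j ≠ i := by
    classical
    have h1 : 0 < (((Finset.univ : Finset (Fin n)).erase k).erase i).card := by
      have e1 := Finset.pred_card_le_card_erase (s := (Finset.univ : Finset (Fin n))) (a := k)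
      have e2 := Finset.pred_card_le_card_erase (s := (Finset.univ : Finset (Fin n)).erase k) (a := i)
      rw [Finset.card_univ, Fintype.card_fin] at e1
      omega
    obtain ⟨j, hj⟩ := Finset.card_pos.1 h1
    simp only [Finset.mem_erase, Finset.mem_univ, and_true] at hj
    exact ⟨j, hj.2, hj.1⟩

set_option maxHeartbeats 1000000 in
/-- two commuting normal subgroups generating the group: one is trivial -/
theorem commuting_bot (hn : 3 ≤ n) (Q1 Q2 : Subgroup (Cfsg.PSU n F 2)) [Q1.Normal] [Q2.Normal]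
    (hc : ∀ a ∈ Q1, ∀ b ∈ Q2, Commute a b) (ht : Q1 ⊔ Q2 = ⊤) : Q1 = ⊥ ∨ Q2 = ⊥ := by
  classical
  set Z := Subgroup.center (Cfsg.SU n F 2) with hZ
  set π := QuotientGroup.mk' Z with hπ
  set N1 := Q1.comap π
  set N2 := Q2.comap π
  have hcm : ∀ a ∈ N1, ∀ b ∈ N2, ⁅b, a⁆ ∈ Z ∧ ⁅a, b⁆ ∈ Z := by
    intro a ha b hb
    constructor <;> refine (QuotientGroup.eq_one_iff _).1 ?_ <;> show π _ = 1 <;>
      rw [map_commutatorElement, commutatorElement_eq_one_iff_mul_comm]
    exacts [(hc _ ha _ hb).eq.symm, (hc _ ha _ hb).eq]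
  have hdec : ∀ g, ∃ a ∈ N1, ∃ b ∈ N2, g = a * b := by
    intro g
    have : π g ∈ ((Q1 ⊔ Q2 : Subgroup (Cfsg.PSU n F 2)) : Set _) := by rw [ht]; trivial
    rw [Subgroup.normal_mul] at this
    obtain ⟨p, hp, q, hq, hpq⟩ := Set.mem_mul.1 this
    obtain ⟨a, rfl⟩ := QuotientGroup.mk'_surjective Z p
    refine ⟨a, hp, a⁻¹ * g, ?_, by group⟩
    show π (a⁻¹ * g) ∈ Q2
    rw [map_mul, map_inv, ← hpq, inv_mul_cancel_left]; exact hq
  -- every isotropic line is fixed by one of the two
  have hline : ∀ v, h v v = 0 → v ≠ 0 → (∀ m ∈ N1, ∃ a : F, (mat m) *ᵥ v = a • v) ∨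
      (∀ m ∈ N2, ∃ a : F, (mat m) *ᵥ v = a • v) := by
    intro v hv hv0
    by_contra hcon
    push Not at hcon
    obtain ⟨⟨n1, hn1, hm1⟩, n2, hn2, hm2⟩ := hcon
    obtain ⟨t, htv⟩ := exists_transvection hF hv
    -- each moved image controls the plane
    have plane : ∀ (A B : Subgroup (Cfsg.SU n F 2)), (∀ g, ∃ a ∈ A, ∃ b ∈ B, g = a * b) →
        (∀ a ∈ A, ∀ b ∈ B, ⁅b, a⁆ ∈ Z) → ∀ x ∈ A, (∀ a : F, (mat x) *ᵥ v ≠ a • v) → ∀ m ∈ B,
        (mat m) *ᵥ v ∈ Submodule.span F ({v, (mat x) *ᵥ v} : Set (Fin n → F)) := by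
      intro A B hdAB hAB x hx hxv m hm
      obtain ⟨t1, ht1, t2, ht2, rfl⟩ := hdAB t
      set g1 := (t1 * t2) * x * (t1 * t2)⁻¹ * x⁻¹ with hg1
      have hcom : Commute m g1 :=
        commutator_commute (hAB x hx t2 ht2) (hAB x hx m hm) (hAB t1 ht1 m hm)
      set w := (mat x) *ᵥ v with hw
      have hww : h w w = 0 := by rw [hw, preserve hF]; exact hv
      obtain ⟨s, hs⟩ := exists_transvection hF hww
      have ht' : (t1 * t2)⁻¹ = t1 * t2 := by
        refine inv_eq_of_mul_eq_one_right (mat_ext hF fun y => ?_)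
        rw [mat_mul hF, htv, htv, mat_one hF, form_add_left, form_smul_left, hv, mul_zero, add_zero,
          add_assoc, ← add_smul, add_self_zero hF, zero_smul, add_zero]
      have hs' : x * (t1 * t2) * x⁻¹ = s := by
        refine mat_ext hF fun y => ?_
        rw [mat_mul hF, mat_mul hF, htv, hs, Matrix.mulVec_add, Matrix.mulVec_smul, ← hw]
        rw [← mat_mul hF, mul_inv_cancel, mat_one hF]
        congr 2
        rw [hw, ← preserve hF x, ← mat_mul hF, mul_inv_cancel, mat_one hF]
      have hg : g1 = (t1 * t2) * s := by rw [hg1, ← hs', ht']; group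
      have hgy : ∀ y, (mat g1) *ᵥ y = y + h y w • w + (h y v + h y w * h w v) • v := by
        intro y
        rw [hg, mat_mul hF, hs, htv, form_add_left, form_smul_left]
      have hind : ∃ y, h y v = 0 ∧ h y w ≠ 0 := by
        obtain ⟨i, hi⟩ := Function.ne_iff.1 hv0
        simp only [Pi.zero_apply] at hi
        obtain ⟨j, hj⟩ : ∃ j, v i * w j - v j * w i ≠ 0 := by
          by_contra hall
          push Not at hall
          apply hxv (w i / v i)
          funext j
          rw [Pi.smul_apply, smul_eq_mul, div_mul_eq_mul_div, eq_div_iff hi]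
          linear_combination hall j
        refine ⟨(v j) ^ 2 • Pi.single i 1 - (v i) ^ 2 • Pi.single j 1, ?_, ?_⟩
        · rw [sub_eq_add_neg, ← neg_smul, form_add_left, form_smul_left, form_smul_left,
            ← form_comm (card_sq hF) v, ← form_comm (card_sq hF) v, form_single (card_sq hF),
            form_single (card_sq hF)]
          ring
        · intro hz
          apply hj
          rw [sub_eq_add_neg, ← neg_smul, form_add_left, form_smul_left, form_smul_left,
            ← form_comm (card_sq hF) w, ← form_comm (card_sq hF) w, form_single (card_sq hF),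
            form_single (card_sq hF)] at hz
          have : (v j * w i - v i * w j) ^ 2 = 0 := by
            linear_combination hz + ((v i * w j) ^ 2 - v j * w i * v i * w j) * two_zero hF
          linear_combination -(sq_eq_zero_iff.1 this)
      obtain ⟨y, hyv, hyw⟩ := hind
      obtain ⟨z, hz⟩ : ∃ z, h z v ≠ 0 := by
        obtain ⟨i, hi⟩ := Function.ne_iff.1 hv0
        refine ⟨Pi.single i 1, ?_⟩
        rw [← form_comm (card_sq hF) v, form_single (card_sq hF)]
        exact pow_ne_zero _ hi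
      set K := Submodule.span F ({v, w} : Set (Fin n → F))
      have hvK : v ∈ K := Submodule.subset_span (Set.mem_insert _ _)
      have hwK : w ∈ K := Submodule.subset_span (Set.mem_insert_of_mem _ rfl)
      have himg : ∀ y, (mat g1) *ᵥ y - y ∈ K := fun y => by
        rw [hgy, show ∀ a b c : Fin n → F, a + b + c - a = b + c from fun a b c => by abel]
        exact K.add_mem (K.smul_mem _ hwK) (K.smul_mem _ hvK)
      have hmimg : ∀ y, (mat m) *ᵥ ((mat g1) *ᵥ y - y) ∈ K := fun y => by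
        rw [Matrix.mulVec_sub, ← mat_mul hF, hcom.eq, mat_mul hF]; exact himg _
      have k1 := hmimg y
      have k2 := hmimg z
      rw [hgy, show ∀ a b c : Fin n → F, a + b + c - a = b + c from fun a b c => by abel,
        Matrix.mulVec_add, Matrix.mulVec_smul, Matrix.mulVec_smul] at k1 k2
      rw [hyv, zero_add] at k1
      have k3 : h z v • (mat m) *ᵥ v ∈ K := by
        have e : h z v • (mat m) *ᵥ v = (h z w • (mat m) *ᵥ w + (h z v + h z w * h w v) • (mat m) *ᵥ v)
            - (h z w / h y w) • (h y w • (mat m) *ᵥ w + (h y w * h w v) • (mat m) *ᵥ v) := by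
          simp only [smul_add, smul_smul, add_smul]
          rw [div_mul_cancel₀ _ hyw, show h z w / h y w * (h y w * h w v) = h z w * h w v by
            field_simp]
          abel
        rw [e]; exact K.sub_mem k2 (K.smul_mem _ k1)
      exact (Submodule.smul_mem_iff K hz).1 k3
    set u1 := (mat n1) *ᵥ v
    set u2 := (mat n2) *ᵥ v
    have hdec' : ∀ g, ∃ a ∈ N2, ∃ b ∈ N1, g = a * b := fun g => by
      obtain ⟨a, ha, b, hb, hg⟩ := hdec g⁻¹
      exact ⟨b⁻¹, inv_mem hb, a⁻¹, inv_mem ha, by rw [← _root_.mul_inv_rev, ← hg, inv_inv]⟩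
    have p12 := plane N1 N2 hdec (fun a ha b hb => (hcm a ha b hb).1)
    have p21 := plane N2 N1 hdec' (fun a ha b hb => (hcm b hb a ha).2)
    set K := Submodule.span F ({v, u1} : Set (Fin n → F))
    have hvK : v ∈ K := Submodule.subset_span (Set.mem_insert _ _)
    have hu1K : u1 ∈ K := Submodule.subset_span (Set.mem_insert_of_mem _ rfl)
    have hu2K : u2 ∈ K := p12 n1 hn1 hm1 n2 hn2
    have hN2K : ∀ m ∈ N2, (mat m) *ᵥ v ∈ K := fun m hm => p12 n1 hn1 hm1 m hm
    have hN1K : ∀ m ∈ N1, (mat m) *ᵥ v ∈ K := by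
      intro m hm
      have : Submodule.span F ({v, u2} : Set (Fin n → F)) ≤ K := Submodule.span_le.2 (by
        rintro x (rfl | rfl)
        exacts [hvK, hu2K])
      exact this (p21 n2 hn2 hm2 m hm)
    -- the orbit of `v` spans an invariant plane
    have hinv : ∀ g : Cfsg.SU n F 2, ∀ x ∈ K, (mat g) *ᵥ x ∈ K := by
      have horb : ∀ g : Cfsg.SU n F 2, (mat g) *ᵥ v ∈ K := by
        intro g
        obtain ⟨a, ha, b, hb, rfl⟩ := hdec g
        rw [mat_mul hF]
        obtain ⟨α, β, hαβ⟩ := Submodule.mem_span_pair.1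
          (p21 n2 hn2 hm2 n1 hn1)
        change α • v + β • u2 = u1 at hαβ
        obtain ⟨γ, δ, hγδ⟩ := Submodule.mem_span_pair.1 (hN2K b hb)
        rw [← hγδ, ← hαβ, Matrix.mulVec_add, Matrix.mulVec_smul, Matrix.mulVec_smul, Matrix.mulVec_add,
          Matrix.mulVec_smul, Matrix.mulVec_smul]
        refine K.add_mem (K.smul_mem _ (hN1K a ha)) (K.smul_mem _
          (K.add_mem (K.smul_mem _ (hN1K a ha)) (K.smul_mem _ ?_)))
        -- `a n2 v` is a multiple of `n2 a v`
        obtain ⟨c, -, hc'⟩ := center_three hF _ (hcm a ha n2 hn2).2 (by omega)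
        have e : (mat a) *ᵥ u2 = c • (mat n2) *ᵥ ((mat a) *ᵥ v) := by
          rw [← hc', ← mat_mul hF, ← mat_mul hF, ← mat_mul hF, commutatorElement_def,
            show a * n2 * a⁻¹ * n2⁻¹ * n2 * a = a * n2 by group]
        rw [e]
        obtain ⟨ε, ζ, hεζ⟩ := Submodule.mem_span_pair.1 (p21 n2 hn2 hm2 a ha)
        rw [← hεζ, Matrix.mulVec_add, Matrix.mulVec_smul, Matrix.mulVec_smul]
        refine K.smul_mem _ (K.add_mem (K.smul_mem _ hu2K) (K.smul_mem _ ?_))
        rw [← mat_mul hF]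
        exact hN2K _ (mul_mem hn2 hn2)
      intro g x hx
      obtain ⟨α, β, rfl⟩ := Submodule.mem_span_pair.1 hx
      rw [Matrix.mulVec_add, Matrix.mulVec_smul, Matrix.mulVec_smul, ← mat_mul hF]
      exact K.add_mem (K.smul_mem _ (horb g)) (K.smul_mem _ (horb (g * n1)))
    rcases irreducible hF K hinv with hb | htop
    · exact hv0 (by simpa [hb] using hvK)
    · have hr : Module.finrank F K ≤ 2 := by
        have h' := finrank_span_finset_le_card (R := F) ({v, u1} : Finset (Fin n → F))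
        rw [Set.finrank, Finset.coe_insert, Finset.coe_singleton] at h'
        exact h'.trans Finset.card_le_two
      rw [htop, finrank_top, Module.finrank_fin_fun] at hr
      omega
  -- a line fixed by the first, one by the second
  by_cases h1 : ∃ v, h v v = 0 ∧ v ≠ 0 ∧ ∀ m ∈ N1, ∃ a : F, (mat m) *ᵥ v = a • v
  · by_cases h2 : ∃ v, h v v = 0 ∧ v ≠ 0 ∧ ∀ m ∈ N2, ∃ a : F, (mat m) *ᵥ v = a • v
    · -- then the whole group has exponent three modulo the centre, but has transvections
      exfalso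
      obtain ⟨v, -, hv0, hf1⟩ := h1
      obtain ⟨v', -, hv0', hf2⟩ := h2
      have e1 := pow_three_of_span hF hv0 hf1
      have e2 := pow_three_of_span hF hv0' hf2
      obtain ⟨w, hw, hwc⟩ : ∃ w, h w w = 0 ∧ ∃ y, h y w • w ≠ 0 := by
        let i : Fin n := ⟨0, by omega⟩
        let j : Fin n := ⟨1, by omega⟩
        have hij : i ≠ j := by simp [i, j, Fin.ext_iff]
        refine ⟨_, iso_pair hF hij one_ne_zero, Pi.single i 1, fun e => ?_⟩
        have e' := congrFun e i
        rw [Pi.smul_apply, ← form_comm (card_sq hF), form_single (card_sq hF)] at e'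
        simp [Pi.single_apply, hij, hij.symm] at e'
      obtain ⟨t, ht'⟩ := exists_transvection hF hw
      obtain ⟨a, ha, b, hb, hab⟩ := hdec t
      have h3 : (π t) ^ 3 = 1 := by
        have hcab : Commute (π a) (π b) := hc _ ha _ hb
        rw [hab, map_mul, hcab.mul_pow, ← map_pow, ← map_pow, e1 a ha, e2 b hb, map_one, one_mul]
      have h22 : t * t = 1 := mat_ext hF fun y => by
        rw [mat_mul hF, ht', ht', mat_one hF, form_add_left, form_smul_left, hw, mul_zero, add_zero,
          add_assoc, ← add_smul, add_self_zero hF, zero_smul, add_zero]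
      have htz : t ∈ Z := by
        rw [← map_pow, pow_succ, pow_two, h22, one_mul] at h3
        exact (QuotientGroup.eq_one_iff t).1 h3
      have ht3 := center_pow_three hF t htz (by omega)
      rw [pow_succ, pow_two, h22, one_mul] at ht3
      obtain ⟨y, hy⟩ := hwc
      apply hy
      have := ht' y
      rw [ht3, mat_one hF] at this
      exact add_eq_left.1 this.symm
    · left
      push Not at h2
      refine eq_bot_iff.2 fun x hx => ?_
      obtain ⟨g, rfl⟩ := QuotientGroup.mk'_surjective Z x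
      rw [Subgroup.mem_bot]
      refine (QuotientGroup.eq_one_iff g).2 (scalar_of_fix_all hF hn fun v hv => ?_)
      by_cases hv0 : v = 0
      · exact ⟨1, by simp [hv0]⟩
      rcases hline v hv hv0 with k | k
      · exact k g hx
      · obtain ⟨m, hm, hne⟩ := h2 v hv hv0
        obtain ⟨a, ha⟩ := k m hm
        exact absurd ha (hne a)
  · right
    push Not at h1
    refine eq_bot_iff.2 fun x hx => ?_
    obtain ⟨g, rfl⟩ := QuotientGroup.mk'_surjective Z x
    rw [Subgroup.mem_bot]
    refine (QuotientGroup.eq_one_iff g).2 (scalar_of_fix_all hF hn fun v hv => ?_)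
    by_cases hv0 : v = 0
    · exact ⟨1, by simp [hv0]⟩
    rcases hline v hv hv0 with k | k
    · obtain ⟨m, hm, hne⟩ := h1 v hv hv0
      obtain ⟨a, ha⟩ := k m hm
      exact absurd ha (hne a)
    · exact k g hx

theorem two_part_card :
    2 ^ 15 ∣ Nat.card (Cfsg.PSU 6 F 2) := by
  have hc := Herm.card_GU (card_sq hF) 6
  have h1 := card_PSU (F := F) (q := 2) (n := 6) (card_sq hF) (by norm_num)
  rw [hc] at h1
  have h2 : 2 ^ 15 ∣ 9 * Nat.card (Cfsg.PSU 6 F 2) := by
    rw [show 9 * Nat.card (Cfsg.PSU 6 F 2) = Nat.gcd 6 (2 + 1) * ((2 + 1) * Nat.card (Cfsg.PSU 6 F 2)) by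
      rw [show Nat.gcd 6 (2 + 1) = 3 by decide]; ring, h1]
    exact Dvd.intro _ rfl
  exact (Nat.Coprime.pow_left 15 (by norm_num : Nat.Coprime 2 9)).dvd_of_dvd_mul_left h2

end CfsgLib.Fischer.PSU
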