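import Cfsg.Agent.Spor.Fischer.Sections
import Cfsg.Agent.Spor.Fischer.PSU6
import Cfsg.Prelude.Def_FischerSpaces
import Mathlib

/-!
Products of at most three commuting members in groups of type M(23) and M(24).
-/

set_option autoImplicit false
set_option linter.unusedSectionVars false

namespace CfsgLib.Fischer

open Cfsg

variable {G : Type*} [Group G] [Finite G]

/-- two commuting lists of three members with one product -/
structure SixRel (D : Set G) (a b c x y z : G) : Prop where
  mem : ∀ p ∈ [a, b, c, x, y, z], p ∈ D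
  nd : [a, b, c, x, y, z].Nodup
  comm : ∀ p ∈ [a, b, c, x, y, z], ∀ q ∈ [a, b, c, x, y, z], Commute p q
  prod : a * b * c = x * y * z

theorem exists_nc_of_sec {S : Set G} {P : Type*} [Group P] (hs : Sec S P) (hP : Nontrivial P) :
    ∃ p ∈ S, ∃ q ∈ S, ¬ Commute p q := by
  by_contra hcon
  push Not at hcon
  obtain ⟨φ, hφ, hk⟩ := hs
  obtain ⟨a, b, hab⟩ := hP
  have key : ∀ p : G, p ∈ Subgroup.closure S → ∀ q ∈ S, Commute p q := by
    intro p hp q hq
    induction hp using Subgroup.closure_induction with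
    | mem u hu => exact hcon u hu q hq
    | one => exact Commute.one_left _
    | mul u v _ _ hu hv => exact hu.mul_left hv
    | inv u _ hu => exact hu.inv_left
  have key2 : ∀ p : G, p ∈ Subgroup.closure S → ∀ q ∈ Subgroup.closure S, Commute p q := by
    intro p hp q hq
    induction hq using Subgroup.closure_induction with
    | mem u hu => exact key p hp u hu
    | one => exact Commute.one_right _
    | mul u v _ _ hu hv => exact hu.mul_right hv
    | inv u _ hu => exact hu.inv_right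
  apply hab
  obtain ⟨u, rfl⟩ := hφ a
  obtain ⟨v, rfl⟩ := hφ b
  have : ∀ u, φ u = 1 := fun u => by
    rw [← MonoidHom.mem_ker, hk]
    exact Subgroup.mem_center_iff.2 fun v => Subtype.ext (key2 v v.2 u u.2).eq
  rw [this, this]

theorem nontrivial_psu (F : Type*) [Field F] [Fintype F] (hF : Fintype.card F = 4) :
    Nontrivial (Cfsg.PSU 6 F 2) := by
  rw [← Finite.one_lt_card_iff_nontrivial]
  have h := Nat.le_of_dvd Nat.card_pos (PSU.two_part_card hF)
  omega

theorem psu_core (F : Type*) [Field F] [Fintype F] (hF : Fintype.card F = 4)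
    (M : Subgroup (Cfsg.PSU 6 F 2)) (hM : M.Normal) (h2 : IsPGroup 2 M) : M = ⊥ :=
  haveI := hM
  PSU.normal_two_bot hF (by norm_num) M h2

/-- no group of order divisible by `2 ^ 15` is a section of a group of projective reflections in
dimension six -/
theorem not_dvd_refl {X : Type*} [Group X] {μ c : ZMod 3} (hX : IsProjReflectionGroupModThree X 6 μ c) :
    ¬ 2 ^ 15 ∣ Nat.card X := by
  obtain ⟨Q, -, -, ⟨e⟩⟩ := hX
  intro hd
  rw [Nat.card_congr e.toEquiv] at hd
  have h1 := (hd.trans (Subgroup.card_quotient_dvd_card _)).trans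
    ((Subgroup.card_subgroup_dvd_card (reflectionSubgroup (⇑Q) c)).trans
      (Subgroup.card_subgroup_dvd_card (isometryGroup (ZMod 3) (⇑Q))))
  rw [show Nat.card (GL (Fin 6) (ZMod 3)) = _ from Matrix.card_GL_field (n := 6) (𝔽 := ZMod 3),
    Fin.prod_univ_six, ZMod.card] at h1
  norm_num at h1

/-- in a transitive reduced set with a local set of type M(22) the local set is reduced -/
theorem red_of_type22 {X : Set G} (h : IsThreeTranspositionSet X) (hX : SelfClosed X) (htX : Trans X)
    (hrX : Red X) {w : G} (hw : w ∈ X) {t c : G} (ht : t ∈ Dd X w) (hc : c ∈ Dd X w)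
    (hnc : ¬ Commute t c) {F : Type*} [Field F] [Fintype F] (hF : Fintype.card F = 4)
    (hT : Sec (Dd (Dd X w) t) (Cfsg.PSU 6 F 2)) {P : Type*} [Group P]
    (hL : Sec (Dd (Dd X w) t ∩ Dd (Dd X w) c) P) (hP : ¬ 2 ^ 15 ∣ Nat.card P) : Red (Dd X w) := by
  classical
  set S := Dd X w with hSdef
  have hS := three_mono h (dd_subset X w)
  have hSc : SelfClosed S := selfClosed_dd h hX w
  have hSn : NoCentral S := noCentral_dd h hX htX hrX hw
  refine red_up hS hSc ?_ ht (core_le_of_sec hT (psu_core F hF))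
    (exists_nc_of_sec hT (nontrivial_psu F hF))
  -- transitivity
  set H := Subgroup.closure S
  set S1 := {v | v ∈ S ∧ ∃ g ∈ H, g * t * g⁻¹ = v}
  set S2 := {v | v ∈ S ∧ v ∉ S1}
  have hS12 : ∀ u ∈ S1, ∀ v ∈ S2, Commute u v := by
    intro u hu v hv
    by_contra k
    obtain ⟨g, hg, hgu⟩ := hu.2
    refine hv.2 ⟨hv.1, u * v * u * g, mul_mem (mul_mem (mul_mem (Subgroup.subset_closure hu.1)
      (Subgroup.subset_closure hv.1)) (Subgroup.subset_closure hu.1)) hg, ?_⟩
    calc u * v * u * g * t * (u * v * u * g)⁻¹ = (u * v * u) * (g * t * g⁻¹) * (u * v * u)⁻¹ := by group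
      _ = v := by rw [hgu]; exact conj_of_nc hS hu.1 hv.1 k
  have ht1 : t ∈ S1 := ⟨ht, 1, one_mem _, by group⟩
  have hc1 : c ∈ S1 := ⟨hc, t * c * t,
    mul_mem (mul_mem (Subgroup.subset_closure ht) (Subgroup.subset_closure hc)) (Subgroup.subset_closure ht),
    conj_of_nc hS ht hc hnc⟩
  have hS2L : S2 ⊆ Dd S t ∩ Dd S c := fun v hv =>
    ⟨⟨hv.1, fun e => hv.2 (e ▸ ht1), hS12 t ht1 v hv⟩, ⟨hv.1, fun e => hv.2 (e ▸ hc1), hS12 c hc1 v hv⟩⟩
  suffices hall : S2 = ∅ by
    intro u hu v hv
    have key : ∀ v ∈ S, ∃ g ∈ H, g * t * g⁻¹ = v := by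
      intro v hv
      by_contra k
      exact (Set.eq_empty_iff_forall_notMem.1 hall v) ⟨hv, fun k' => k k'.2⟩
    obtain ⟨g, hg, rfl⟩ := key u hu
    obtain ⟨g', hg', rfl⟩ := key v hv
    exact ⟨g' * g⁻¹, mul_mem hg' (inv_mem hg), by group⟩
  set T := Dd S t
  have hTc : SelfClosed T := selfClosed_dd hS hSc t
  have hT3 : IsThreeTranspositionSet T := three_mono hS (dd_subset S t)
  obtain ⟨φ, hφ, hk⟩ := hT
  set A := Subgroup.closure {x : Subgroup.closure T | (x : G) ∈ S1}
  set B := Subgroup.closure {x : Subgroup.closure T | (x : G) ∈ S2}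
  have hinv : ∀ (g x : Subgroup.closure T), (x : G) ∈ S1 → ((g * x * g⁻¹ : Subgroup.closure T) : G) ∈ S1 := by
    intro g x hx
    obtain ⟨g', hg', hgx⟩ := hx.2
    have hgH : (g : G) ∈ H := Subgroup.closure_mono (dd_subset S t) g.2
    refine ⟨conj_mem_closure hS hSc hgH _ hx.1, (g : G) * g', mul_mem hgH hg', ?_⟩
    simp only [Subgroup.coe_mul, Subgroup.coe_inv, ← hgx]
    group
  have hinv2 : ∀ (g x : Subgroup.closure T), (x : G) ∈ S2 → ((g * x * g⁻¹ : Subgroup.closure T) : G) ∈ S2 := by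
    intro g x hx
    refine ⟨conj_mem_closure hS hSc (Subgroup.closure_mono (dd_subset S t) g.2) _ hx.1, fun k => hx.2 ?_⟩
    have := hinv g⁻¹ _ k
    rwa [show g⁻¹ * (g * x * g⁻¹) * g⁻¹⁻¹ = x by group] at this
  haveI hAn : A.Normal := normal_closure_of_invariant _ fun g x hx => hinv g x hx
  haveI hBn : B.Normal := normal_closure_of_invariant _ fun g x hx => hinv2 g x hx
  have hAB : A ⊔ B = ⊤ := by
    rw [eq_top_iff, ← Subgroup.closure_closure_coe_preimage (k := T), Subgroup.closure_le]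
    intro x hx
    by_cases k : (x : G) ∈ S1
    · exact Subgroup.mem_sup_left (Subgroup.subset_closure k)
    · exact Subgroup.mem_sup_right (Subgroup.subset_closure ⟨(hx : (x : G) ∈ T).1, k⟩)
  have hcomm : ∀ a ∈ A, ∀ b ∈ B, Commute a b := by
    intro a ha b hb
    refine Subgroup.closure_induction (p := fun a _ => Commute a b) (fun a ha => ?_) (Commute.one_left _)
      (fun _ _ _ _ h1 h2 => h1.mul_left h2) (fun _ _ h1 => h1.inv_left) ha
    refine Subgroup.closure_induction (p := fun b _ => Commute a b) (fun b hb => ?_) (Commute.one_right _)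
      (fun _ _ _ _ h1 h2 => h1.mul_right h2) (fun _ _ h1 => h1.inv_right) hb
    exact Subtype.ext (hS12 _ ha _ hb).eq
  haveI := hAn.map φ hφ
  haveI := hBn.map φ hφ
  rcases PSU.commuting_bot hF (by norm_num) (A.map φ) (B.map φ)
      (by rintro _ ⟨a, ha, rfl⟩ _ ⟨b, hb, rfl⟩; exact (hcomm a ha b hb).map φ)
      (by rw [← Subgroup.map_sup, hAB, Subgroup.map_top_of_surjective _ hφ]) with hA | hB
  · exfalso
    apply hP
    set U := Dd S t ∩ Dd S c
    obtain ⟨ψ0, -, hk0⟩ := hL
    let BB := Subgroup.closure S2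
    let i : BB →* Subgroup.closure U := Subgroup.inclusion (Subgroup.closure_mono hS2L)
    let j : BB →* Subgroup.closure T :=
      Subgroup.inclusion (Subgroup.closure_mono (hS2L.trans Set.inter_subset_left))
    have hjs : Function.Surjective (φ.comp j) := by
      rw [← MonoidHom.range_eq_top, eq_top_iff, ← Subgroup.map_top_of_surjective φ hφ, ← hAB,
        Subgroup.map_sup, hA, bot_sup_eq, MonoidHom.map_closure, Subgroup.closure_le]
      rintro _ ⟨x, hx, rfl⟩
      exact ⟨⟨x, Subgroup.subset_closure hx⟩, rfl⟩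
    have hker : (ψ0.comp i).ker ≤ (φ.comp j).ker := by
      intro g hg
      rw [MonoidHom.mem_ker, MonoidHom.comp_apply, ← MonoidHom.mem_ker, hk0] at hg
      rw [MonoidHom.mem_ker, MonoidHom.comp_apply, ← MonoidHom.mem_ker, hk]
      have hgen : ∀ e ∈ T, Commute e (g : G) := by
        intro e he
        by_cases k : e ∈ S1
        · refine Subgroup.closure_induction (p := fun b _ => Commute e b) (fun b hb => hS12 e k b hb)
            (Commute.one_right _) (fun _ _ _ _ h1 h2 => h1.mul_right h2) (fun _ _ h1 => h1.inv_right) g.2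
        · exact congrArg Subtype.val (Subgroup.mem_center_iff.1 hg
            ⟨e, Subgroup.subset_closure (hS2L ⟨he.1, k⟩)⟩)
      refine Subgroup.mem_center_iff.2 fun y => Subtype.ext ?_
      exact (Subgroup.closure_induction (p := fun b _ => Commute b (g : G)) hgen (Commute.one_left _)
        (fun _ _ _ _ h1 h2 => h1.mul_left h2) (fun _ _ h1 => h1.inv_left) y.2).eq
    have h1 : Nat.card (Cfsg.PSU 6 F 2) ∣ Nat.card (ψ0.comp i).range := by
      rw [← Subgroup.index_ker]
      refine dvd_trans ?_ (Subgroup.index_dvd_of_le hker)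
      rw [Subgroup.index_ker, MonoidHom.range_eq_top.2 hjs, Subgroup.card_top]
    exact ((PSU.two_part_card hF).trans h1).trans (Subgroup.card_subgroup_dvd_card _)
  · rw [Set.eq_empty_iff_forall_notMem]
    intro s hs
    have hsT : s ∈ T := (hS2L hs).1
    have hsz : (⟨s, Subgroup.subset_closure hsT⟩ : Subgroup.closure T) ∈ Subgroup.center _ := by
      rw [← hk, MonoidHom.mem_ker, ← Subgroup.mem_bot, ← hB]
      exact ⟨_, Subgroup.subset_closure hs, rfl⟩
    obtain ⟨e, he, hnc'⟩ := hSn s hs.1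
    by_cases k : e ∈ S1
    · exact hnc' (hS12 e k s hs)
    · exact hnc' (congrArg Subtype.val (Subgroup.mem_center_iff.1 hsz
        ⟨e, Subgroup.subset_closure (hS2L ⟨he, k⟩).1⟩))
where
  normal_closure_of_invariant {K : Type _} [Group K] (U : Set K) (hU : ∀ g : K, ∀ x ∈ U, g * x * g⁻¹ ∈ U) :
      (Subgroup.closure U).Normal := by
    refine ⟨fun k hk g => ?_⟩
    induction hk using Subgroup.closure_induction with
    | mem z hz => exact Subgroup.subset_closure (hU g z hz)
    | one => simp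
    | mul z w _ _ hz hw =>
      rw [show g * (z * w) * g⁻¹ = (g * z * g⁻¹) * (g * w * g⁻¹) by group]; exact mul_mem hz hw
    | inv z _ hz => rw [show g * z⁻¹ * g⁻¹ = (g * z * g⁻¹)⁻¹ by group]; exact inv_mem hz

section Main

variable {D : Set G}

/-- a commuting pair from the local group of `d₀` gives no two members of one commuting set -/
theorem red_local (hD : IsThreeTranspositionGroup D) (hp : IsPrimitiveUnderConj D)
    (hw : ∃ a ∈ D, ∃ b ∈ D, a ≠ b ∧ Commute a b) {d₀ d : G} (hd₀ : d₀ ∈ D) (hd : d ∈ D)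
    (h2 : pCore 2 (Subgroup.closure (Dd D d₀)) ≤ Subgroup.center _) :
    Red (Dd D d) ∧ NoCentral (Dd D d) ∧ Trans (Dd D d) := by
  obtain ⟨h, hc, hgen⟩ := hD
  have hS := selfClosed_of_conj h hc
  have htD : Trans D := fun u hu v hv => by
    obtain ⟨g, hg⟩ := hp.1 u hu v hv
    exact ⟨g, hgen ▸ Subgroup.mem_top g, hg⟩
  have hrD : Red D := red_prim ⟨h, hc, hgen⟩ hp
  have hn : ∀ e ∈ D, NoCentral (Dd D e) := fun e he => noCentral_dd h hS htD hrD he
  have h0 : Red (Dd D d₀) :=
    red_of_core (three_mono h (dd_subset D d₀)) (selfClosed_dd h hS d₀) (hn d₀ hd₀) h2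
  refine ⟨?_, hn d hd, fun u hu v hv => dd_transitive ⟨h, hc, hgen⟩ hp hw hd hu hv⟩
  obtain ⟨g, hg⟩ := hp.1 d hd d₀ hd₀
  intro u hu v hv hsame
  have key := h0 (g * u * g⁻¹) (hg ▸ dd_conj hc g d u hu) (g * v * g⁻¹) (hg ▸ dd_conj hc g d v hv)
    fun e he => by
      have he' : g⁻¹ * e * g ∈ Dd D d := by
        have := dd_conj hc g⁻¹ d₀ e he
        rw [← hg] at this
        simpa [mul_assoc] using this
      have := hsame _ he'
      rw [← commute_conj_iff g (y := u), ← commute_conj_iff g (y := v)] at this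
      simpa [mul_assoc] using this
  simpa using key
where
  red_prim (hD : IsThreeTranspositionGroup D) (hp : IsPrimitiveUnderConj D) : Red D := by
    intro u hu v hv hsame
    obtain ⟨x, hx, hux⟩ := exists_nc hD hp hu
    exact (eq_of_same_commute hD.1 hD.2.1 hp hu hv hx hux
      fun e he => ⟨fun k => ((hsame e he).1 k.symm).symm, fun k => ((hsame e he).2 k.symm).symm⟩).symm

/-- two pairs of commuting members with one product share their members -/
theorem no_pairs (hD : IsThreeTranspositionGroup D) (hp : IsPrimitiveUnderConj D) {a b c d : G}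
    (ha : a ∈ D) (hb : b ∈ D) (hc : c ∈ D) (hd : d ∈ D) (hab : a ≠ b) (hcd : c ≠ d) (cab : Commute a b)
    (ccd : Commute c d) (he : a * b = c * d) :
    (a = c ∧ b = d) ∨ (a = d ∧ b = c) := by
  by_cases e1 : a = c
  · subst e1; exact Or.inl ⟨rfl, mul_left_cancel he⟩
  by_cases e2 : a = d
  · subst e2; rw [ccd.eq] at he; exact Or.inr ⟨rfl, mul_left_cancel he⟩
  exfalso
  have h := hD.1
  by_cases e3 : b = c
  · subst e3; rw [cab.eq] at he; exact e2 (mul_left_cancel he)
  by_cases e4 : b = d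
  · subst e4; exact e1 (mul_right_cancel he)
  have k1 := (commute_prod_two h ha hb hc hab cab).1
    (by rw [he]; exact (Commute.refl c).mul_right ccd)
  have k2 := (commute_prod_two h ha hb hd hab cab).1
    (by rw [he]; exact ccd.symm.mul_right (Commute.refl d))
  refine hab (red_local.red_prim hD hp a ha b hb
    (same_of_four h ha hb hc hd cab e1 e2 k1.1.symm k2.1.symm e3 e4 k1.2.symm k2.2.symm hcd ccd ?_))
  intro e _
  rw [show a * b * c * d = a * b * (c * d) by group, ← he, sq_pair h ha hb cab]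
  exact Commute.one_right e

/-- the local data used against six members -/
def LocalType (D : Set G) : Prop :=
  ∃ d ∈ D, ∃ w ∈ Dd D d, Red (Dd (Dd D d) w) ∧ Trans (Dd D d)

theorem six_false (hD : IsThreeTranspositionGroup D) (hp : IsPrimitiveUnderConj D) (hl : LocalType D)
    {a b c x y z : G} (hs : SixRel D a b c x y z) : False := by
  obtain ⟨d, hd, w, hw, hrS, htX⟩ := hl
  obtain ⟨h, hc, -⟩ := hD
  obtain ⟨g, hg⟩ := hp.1 a (hs.mem a (by simp)) d hd
  have hnd := hs.nd
  simp only [List.nodup_cons, List.mem_cons, List.not_mem_nil, or_false, not_or] at hnd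
  obtain ⟨⟨ab, ac, ax, a_y, az⟩, hrest⟩ := hnd
  have memX : ∀ p, p ∈ [a, b, c, x, y, z] → p ≠ a → g * p * g⁻¹ ∈ Dd D d := fun p hp hpa =>
    ⟨hc g p (hs.mem p hp), fun k => hpa (by rw [← hg] at k; simpa using k),
      hg ▸ (commute_conj_iff g).2 (hs.comm a (by simp) p hp)⟩
  refine no_five (three_mono h (dd_subset D d)) (selfClosed_dd h (selfClosed_of_conj h hc) d) htX hw hrS
    (memX b (by simp) (Ne.symm ab)) (memX c (by simp) (Ne.symm ac)) (memX x (by simp) (Ne.symm ax))
    (memX y (by simp) (Ne.symm a_y)) (memX z (by simp) (Ne.symm az)) ?_ ?_ fun e he => ?_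
  · simpa using hrest
  · intro p hp' q hq'
    simp only [List.mem_cons, List.not_mem_nil, or_false] at hp' hq'
    rcases hp' with rfl | rfl | rfl | rfl | rfl <;> rcases hq' with rfl | rfl | rfl | rfl | rfl <;>
      exact (commute_conj_iff g).2 (hs.comm _ (by simp) _ (by simp))
  · have hprod : b * c * x * y * z = a := by
      have e1 : b * c = a * (x * y * z) := by
        rw [← hs.prod, mul_assoc a b c, mul_cancel h (hs.mem a (by simp))]
      have sq : (x * y * z) * (x * y * z) = 1 := by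
        have cx : Commute x y := hs.comm x (by simp) y (by simp)
        have cz : Commute (x * y) z :=
          (hs.comm x (by simp) z (by simp)).mul_left (hs.comm y (by simp) z (by simp))
        rw [show (x * y * z) * (x * y * z) = (x * y) * (z * (x * y)) * z by group, ← cz.eq,
          show (x * y) * ((x * y) * z) * z = (x * y) * (x * y) * (z * z) by group,
          sq_pair h (hs.mem x (by simp)) (hs.mem y (by simp)) cx,
          mul_self h (hs.mem z (by simp)), one_mul]
      calc b * c * x * y * z = (b * c) * (x * y * z) := by group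
        _ = a := by rw [e1, mul_assoc, sq, mul_one]
    rw [show g * b * g⁻¹ * (g * c * g⁻¹) * (g * x * g⁻¹) * (g * y * g⁻¹) * (g * z * g⁻¹)
      = g * (b * c * x * y * z) * g⁻¹ by group, hprod, hg]
    exact he.2.2.symm

/-- the local set of the witness of a group of type M(22) -/
theorem type22_of {X : Set G} (h : IsThreeTranspositionSet X) (hX : SelfClosed X) (hn : NoCentral X)
    (h22 : IsOfTypeM22 (Subgroup.closure X ⧸ Subgroup.center (Subgroup.closure X)) (img X X)) :
    ∃ t ∈ X, ∃ c ∈ X, ¬ Commute t c ∧ ∃ (F : Type) (_ : Field F) (_ : Fintype F),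
      Fintype.card F = 4 ∧ Sec (Dd X t) (Cfsg.PSU 6 F 2) ∧
        ∃ (n : ℕ) (_ : n = 6) (P : Type) (_ : Group P),
          Sec (Dd X t ∩ Dd X c) P ∧ ¬ 2 ^ 15 ∣ Nat.card P := by
  obtain ⟨-, q, hq, q', hq', hnc, ⟨F, iF, iF', hF, ⟨e⟩⟩, c₃, -, hR⟩ := h22
  obtain ⟨t, ht, rfl⟩ := hq
  obtain ⟨c, hc, rfl⟩ := hq'
  refine ⟨t, ht, c, hc, fun k => hnc (Commute.map (Subtype.ext k.eq : Commute t c) (QuotientGroup.mk' _)),
    F, iF, iF', hF, ?_, 6, rfl, ?_⟩
  · have hs : Sec (Dd (img X X) (t : Subgroup.closure X ⧸ Subgroup.center (Subgroup.closure X)))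
        (Cfsg.PSU 6 F 2) := Sec.of_equiv e
    rw [dd_img h hX hn subset_rfl t ht] at hs
    exact hs.lift h hX hn (dd_subset _ _)
  · have hnd := not_dvd_refl hR
    obtain ⟨Q, -, -, ⟨e'⟩⟩ := hR
    refine ⟨_, inferInstance, ?_, fun k => hnd (by rwa [Nat.card_congr e'.toEquiv])⟩
    have hs : Sec (Dd (img X X) (t : Subgroup.closure X ⧸ Subgroup.center (Subgroup.closure X)) ∩
        Dd (img X X) (c : Subgroup.closure X ⧸ Subgroup.center (Subgroup.closure X))) _ := Sec.of_equiv e'
    rw [dd_img h hX hn subset_rfl t ht, dd_img h hX hn subset_rfl c hc,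
      inter_img h hn (dd_subset _ _) (dd_subset _ _)] at hs
    exact hs.lift h hX hn (Set.inter_subset_left.trans (dd_subset _ _))

theorem localType_23 (hD : IsThreeTranspositionGroup D) (hp : IsPrimitiveUnderConj D)
    (hw : ∃ a ∈ D, ∃ b ∈ D, a ≠ b ∧ Commute a b) {d₀ : G} (hd₀ : d₀ ∈ D)
    (h2 : pCore 2 (Subgroup.closure (Dd D d₀)) ≤ Subgroup.center _) (ht : IsOfTypeM23 G D) :
    LocalType D := by
  obtain ⟨-, d, hd, -, -, -, h22, -⟩ := ht
  obtain ⟨hr, hn, htr⟩ := red_local hD hp hw hd₀ hd h2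
  have hX := selfClosed_dd hD.1 (selfClosed_of_conj hD.1 hD.2.1) d
  have h3 := three_mono hD.1 (dd_subset D d)
  obtain ⟨t, ht, -, -, -, F, _, _, hF, hS, -⟩ := type22_of h3 hX hn h22
  exact ⟨d, hd, t, ht, red_of_core (three_mono h3 (dd_subset _ _)) (selfClosed_dd h3 hX t)
    (noCentral_dd h3 hX htr hr ht) (core_le_of_sec hS (psu_core F hF)), htr⟩

theorem localType_24 (hD : IsThreeTranspositionGroup D) (hp : IsPrimitiveUnderConj D)
    (hw : ∃ a ∈ D, ∃ b ∈ D, a ≠ b ∧ Commute a b) {d₀ : G} (hd₀ : d₀ ∈ D)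
    (h2 : pCore 2 (Subgroup.closure (Dd D d₀)) ≤ Subgroup.center _) (ht : IsOfTypeM24 G D) :
    LocalType D := by
  obtain ⟨-, d, hd, -, -, -, h23, -⟩ := ht
  obtain ⟨hr, hn, htr⟩ := red_local hD hp hw hd₀ hd h2
  set X := Dd D d
  have hX : SelfClosed X := selfClosed_dd hD.1 (selfClosed_of_conj hD.1 hD.2.1) d
  have h3 : IsThreeTranspositionSet X := three_mono hD.1 (dd_subset D d)
  obtain ⟨-, q, hq, q', -, -, h22, -⟩ := h23
  obtain ⟨w, hw', rfl⟩ : q ∈ img X X := hq
  -- the local set of the witness, in the quotient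
  set S := Dd X (w : G)
  have hSn : NoCentral S := noCentral_dd h3 hX htr hr hw'
  have hdd := dd_img h3 hX hn subset_rfl w hw'
  set Xb := img X X
  set Sb := Dd Xb (w : Subgroup.closure X ⧸ Subgroup.center (Subgroup.closure X))
  have hXb3 : IsThreeTranspositionSet Xb := img_three h3 hn
  have hXbc : SelfClosed Xb := img_selfClosed hX
  have hSb3 : IsThreeTranspositionSet Sb := three_mono hXb3 (dd_subset _ _)
  have hSbc : SelfClosed Sb := selfClosed_dd hXb3 hXbc _
  have hSbn : NoCentral Sb := by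
    show NoCentral Sb
    rw [show Sb = img X S from hdd]
    exact img_noCentral h3 hX hn (dd_subset _ _) hSn
  obtain ⟨t', ht', c', hc', hnc, F, _, _, hF, hT, n, -, P, _, hL, hP⟩ := type22_of hSb3 hSbc hSbn h22
  rw [show Sb = img X S from hdd] at ht' hc'
  obtain ⟨t, htS, rfl⟩ := ht'
  obtain ⟨c, hcS, rfl⟩ := hc'
  rw [show Sb = img X S from hdd, dd_img h3 hX hn (dd_subset _ _) t htS.1] at hT
  rw [show Sb = img X S from hdd, dd_img h3 hX hn (dd_subset _ _) t htS.1,
    dd_img h3 hX hn (dd_subset _ _) c hcS.1,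
    inter_img h3 hn ((dd_subset _ _).trans (dd_subset _ _)) ((dd_subset _ _).trans (dd_subset _ _))] at hL
  exact ⟨d, hd, w, hw', red_of_type22 h3 hX htr hr hw' htS hcS
    (fun k => hnc (Commute.map (Subtype.ext k.eq : Commute t c) (QuotientGroup.mk' _))) hF
    (hT.lift h3 hX hn ((dd_subset _ _).trans (dd_subset _ _)))
    (hL.lift h3 hX hn (Set.inter_subset_left.trans ((dd_subset _ _).trans (dd_subset _ _)))) hP, htr⟩

theorem mem_iff_of_prod (hD : IsThreeTranspositionGroup D) (hp : IsPrimitiveUnderConj D) {d₀ : G}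
    (hd₀ : d₀ ∈ D) (h2 : pCore 2 (Subgroup.closure (Dd D d₀)) ≤ Subgroup.center _)
    (ht : IsOfTypeM23 G D ∨ IsOfTypeM24 G D) (m : ℕ) (hm : m ≤ 3) (j : G) (l l' : List G)
    (hl : l.Nodup ∧ l.length = m ∧ (∀ a ∈ l, a ∈ D) ∧ (∀ a ∈ l, ∀ b ∈ l, Commute a b) ∧ l.prod = j)
    (hl' : l'.Nodup ∧ l'.length = m ∧ (∀ a ∈ l', a ∈ D) ∧ (∀ a ∈ l', ∀ b ∈ l', Commute a b) ∧ l'.prod = j) :
    ∀ x : G, x ∈ l ↔ x ∈ l' := by
  obtain ⟨n1, k1, m1, c1, p1⟩ := hl
  obtain ⟨n2, k2, m2, c2, p2⟩ := hl'
  have h := hD.1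
  interval_cases m
  · rw [List.length_eq_zero_iff.1 k1, List.length_eq_zero_iff.1 k2]; simp
  · obtain ⟨a, rfl⟩ := List.length_eq_one_iff.1 k1
    obtain ⟨b, rfl⟩ := List.length_eq_one_iff.1 k2
    simp only [List.prod_cons, List.prod_nil, mul_one] at p1 p2
    rw [p1, p2]; simp
  · obtain ⟨a, b, rfl⟩ := List.length_eq_two.1 k1
    obtain ⟨c, d, rfl⟩ := List.length_eq_two.1 k2
    simp only [List.prod_cons, List.prod_nil, mul_one] at p1 p2
    simp only [List.nodup_cons, List.mem_cons, List.not_mem_nil, or_false] at n1 n2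
    rcases no_pairs hD hp (m1 a (by simp)) (m1 b (by simp)) (m2 c (by simp)) (m2 d (by simp)) n1.1 n2.1
      (c1 a (by simp) b (by simp)) (c2 c (by simp) d (by simp)) (p1.trans p2.symm) with
      ⟨rfl, rfl⟩ | ⟨rfl, rfl⟩ <;> intro x <;> simp [or_comm]
  · obtain ⟨a, b, c, rfl⟩ := List.length_eq_three.1 k1
    obtain ⟨x, y, z, rfl⟩ := List.length_eq_three.1 k2
    simp only [List.prod_cons, List.prod_nil, mul_one] at p1 p2
    have hw : ∃ u ∈ D, ∃ v ∈ D, u ≠ v ∧ Commute u v :=
      ⟨a, m1 a (by simp), b, m1 b (by simp), by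
        simp only [List.nodup_cons, List.mem_cons, not_or] at n1; exact n1.1.1, c1 a (by simp) b (by simp)⟩
    have hl : LocalType D := by
      rcases ht with ht | ht
      exacts [localType_23 hD hp hw hd₀ h2 ht, localType_24 hD hp hw hd₀ h2 ht]
    by_cases hcap : ∃ p ∈ [a, b, c], p ∈ [x, y, z]
    · obtain ⟨p, hp1, hp2⟩ := hcap
      -- bring the common member to the front
      obtain ⟨r, r', e1⟩ := pair_of hp1 n1
      obtain ⟨s, s', e2⟩ := pair_of hp2 n2
      have q1 := e1.prod_eq' (pairwise_of c1 n1)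
      have q2 := e2.prod_eq' (pairwise_of c2 n2)
      simp only [List.prod_cons, List.prod_nil, mul_one] at q1 q2
      have n1' := e1.nodup_iff.1 n1
      have n2' := e2.nodup_iff.1 n2
      simp only [List.nodup_cons, List.mem_cons, List.not_mem_nil, or_false, not_or] at n1' n2'
      have i1 : ∀ q ∈ [p, r, r'], q ∈ [a, b, c] := fun q hq => e1.mem_iff.2 hq
      have i2 : ∀ q ∈ [p, s, s'], q ∈ [x, y, z] := fun q hq => e2.mem_iff.2 hq
      have heq : r * r' = s * s' :=
        mul_left_cancel (a := p) ((q1.symm.trans (p1.trans p2.symm)).trans q2)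
      rcases no_pairs hD hp (m1 r (i1 r (by simp))) (m1 r' (i1 r' (by simp))) (m2 s (i2 s (by simp)))
        (m2 s' (i2 s' (by simp))) n1'.2.1 n2'.2.1 (c1 r (i1 r (by simp)) r' (i1 r' (by simp)))
        (c2 s (i2 s (by simp)) s' (i2 s' (by simp))) heq with ⟨rfl, rfl⟩ | ⟨rfl, rfl⟩
      · intro q; rw [e1.mem_iff, e2.mem_iff]
      · intro q; rw [e1.mem_iff, e2.mem_iff]; simp [or_comm]
    · exfalso
      push Not at hcap
      have hprod : a * b * c = x * y * z := by rw [mul_assoc, mul_assoc]; exact p1.trans p2.symm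
      have cross : ∀ p ∈ [a, b, c], ∀ q ∈ [x, y, z], Commute p q := by
        intro p hp' q hq'
        simp only [List.nodup_cons, List.mem_cons, List.not_mem_nil, or_false, not_or] at n1
        have hq : Commute q (a * b * c) := by
          rw [hprod]
          exact ((c2 q hq' x (by simp)).mul_right (c2 q hq' y (by simp))).mul_right (c2 q hq' z (by simp))
        obtain ⟨k1, k2, k3⟩ := (commute_prod_three h (m1 a (by simp)) (m1 b (by simp)) (m1 c (by simp))
          (m2 q hq') n1.1.1 n1.1.2 n1.2.1 (c1 a (by simp) b (by simp)) (c1 a (by simp) c (by simp))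
          (c1 b (by simp) c (by simp))).1 hq
        simp only [List.mem_cons, List.not_mem_nil, or_false] at hp'
        rcases hp' with rfl | rfl | rfl
        exacts [k1.symm, k2.symm, k3.symm]
      have hsplit : ∀ p ∈ [a, b, c, x, y, z], p ∈ [a, b, c] ∨ p ∈ [x, y, z] := fun p hp' =>
        List.mem_append.1 (show p ∈ [a, b, c] ++ [x, y, z] from hp')
      refine six_false hD hp hl (a := a) (b := b) (c := c) (x := x) (y := y) (z := z) ⟨?_, ?_, ?_, hprod⟩
      · intro p hp'
        rcases hsplit p hp' with k | k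
        exacts [m1 p k, m2 p k]
      · exact List.nodup_append.2 ⟨n1, n2, fun p hp' q hq' e => hcap p hp' (e ▸ hq')⟩
      · intro p hp' q hq'
        rcases hsplit p hp' with k | k <;> rcases hsplit q hq' with k' | k'
        exacts [c1 p k q k', cross p k q k', (cross q k' p k).symm, c2 p k q k']
where
  pair_of {a b c p : G} (hp : p ∈ [a, b, c]) (_ : [a, b, c].Nodup) :
      ∃ r r', [a, b, c].Perm [p, r, r'] := by
    simp only [List.mem_cons, List.not_mem_nil, or_false] at hp
    rcases hp with rfl | rfl | rfl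
    · exact ⟨b, c, List.Perm.refl _⟩
    · exact ⟨a, c, List.Perm.swap _ _ _⟩
    · exact ⟨a, b, (List.Perm.cons a (List.Perm.swap _ _ _)).trans (List.Perm.swap _ _ _)⟩
  pairwise_of {l : List G} (hc : ∀ a ∈ l, ∀ b ∈ l, Commute a b) (_ : l.Nodup) : l.Pairwise Commute := by
    rw [List.pairwise_iff_getElem]
    intro i j hi hj _
    exact hc _ (List.getElem_mem hi) _ (List.getElem_mem hj)

end Main

end CfsgLib.Fischer
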