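import Cfsg.Agent.Lie.SUThreeTwo

set_option autoImplicit false

namespace CfsgLib.Spor.SUThreeLift

open scoped Pointwise

theorem sq_of {G : Type*} [Group G] {g : G} (h : orderOf g = 2) : g * g = 1 := by
  rw [← pow_two]
  exact orderOf_dvd_iff_pow_eq_one.1 (by rw [h])

/-- Two generators with these cube relations generate a 3-group (Burnside, exponent three, rank two). -/
theorem cubes_core {G : Type*} [Group G] [Finite G] (x y : G) (hx : x ^ 3 = 1) (hy : y ^ 3 = 1)
    (h1 : (x * y) ^ 3 = 1) (h2 : (x * y⁻¹) ^ 3 = 1) :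
    IsPGroup 3 ↥(Subgroup.closure ({x, y} : Set G)) ∧ Nat.card ↥(Subgroup.closure ({x, y} : Set G)) ≤ 27 := by
  set u := y * x * y⁻¹ with hu
  set v := y * u * y⁻¹ with hv
  have hyu : y * y * y = 1 := by rw [← hy, pow_succ, pow_two]
  have hyy : y⁻¹ = y * y := inv_eq_of_mul_eq_one_left hyu
  have e1 : x * u * v = 1 := by
    have : x * u * v * (y * y * y) = (x * y) ^ 3 := by
      rw [hu, hv, hu, pow_succ, pow_two]; group
    rw [hyu, mul_one, h1] at this; exact this
  have e2 : x * v * u = 1 := by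
    have hv' : v = y⁻¹ * x * y := by
      have : y * y = y⁻¹ := hyy.symm
      rw [hv, hu, show y * (y * x * y⁻¹) * y⁻¹ = (y * y) * x * (y⁻¹ * y⁻¹) by group, this,
        show y⁻¹ * y⁻¹ = y from by rw [← mul_inv_rev, this, inv_inv]]
    have : (x * y⁻¹) ^ 3 = x * v * u * (y⁻¹ * y⁻¹ * y⁻¹) := by
      rw [hv', hu, pow_succ, pow_two, show y * x * y⁻¹ = (y⁻¹ * y⁻¹) * x * (y * y) by
        rw [← mul_inv_rev, ← hyy, inv_inv]]
      group
    rw [h2, show y⁻¹ * y⁻¹ * y⁻¹ = 1 by rw [← mul_inv_rev, ← mul_inv_rev, ← mul_assoc, hyu, inv_one],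
      mul_one] at this
    exact this.symm
  clear_value u v
  have hvu : v * u = u * v := by
    have h := e1.trans e2.symm
    rw [mul_assoc, mul_assoc x v u] at h
    exact (mul_left_cancel h).symm
  have hxi : x = (u * v)⁻¹ := eq_inv_of_mul_eq_one_left (by rw [← mul_assoc]; exact e1)
  have hxu : Commute x u := by
    rw [hxi]
    refine Commute.inv_left ?_
    show u * v * u = u * (u * v)
    rw [mul_assoc, hvu]
  have hu3 : u ^ 3 = 1 := by
    rw [hu, ← MulAut.conj_apply, ← map_pow, hx, map_one]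
  set A := CfsgLib.Lie.SUThreeTwo.nine x u hx hu3 hxu
  have hA : IsPGroup 3 A := by
    rintro ⟨g, i, j, rfl⟩
    refine ⟨1, Subtype.ext ?_⟩
    show (x ^ i.val * u ^ j.val) ^ (3 ^ 1) = 1
    rw [pow_one, (hxu.pow_pow _ _).mul_pow, ← pow_mul, ← pow_mul, mul_comm i.val, mul_comm j.val, pow_mul, pow_mul,
      hx, hu3, one_pow, one_pow, mul_one]
  have hxA : x ∈ A := ⟨1, 0, by simp⟩
  have huA : u ∈ A := ⟨0, 1, by simp⟩
  have hvA : v ∈ A := by
    have : v = u⁻¹ * x⁻¹ := by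
      have h := eq_inv_of_mul_eq_one_right e1
      rw [h, mul_inv_rev]
    rw [this]; exact mul_mem (inv_mem huA) (inv_mem hxA)
  have hn : y ∈ Subgroup.normalizer (A : Set G) := by
    have hle : A.map (MulAut.conj y).toMonoidHom ≤ A := by
      rintro _ ⟨t, ⟨i, j, rfl⟩, rfl⟩
      rw [map_mul, map_pow, map_pow, show (MulAut.conj y).toMonoidHom x = u from hu.symm,
        show (MulAut.conj y).toMonoidHom u = v from hv.symm]
      exact mul_mem (pow_mem huA _) (pow_mem hvA _)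
    have heq := Subgroup.eq_of_le_of_card_ge hle (Subgroup.card_map_of_injective (MulAut.conj y).injective).ge
    refine Subgroup.mem_normalizer_iff.2 fun t => ⟨fun ht => hle ⟨t, ht, rfl⟩, fun ht => ?_⟩
    obtain ⟨s, hs, hst⟩ := heq.ge ht
    rwa [← (MulAut.conj y).injective hst]
  have hB : IsPGroup 3 (Subgroup.zpowers y) := by
    rintro ⟨g, n, rfl⟩
    refine ⟨1, Subtype.ext ?_⟩
    show (y ^ n) ^ (3 ^ 1) = 1
    rw [pow_one, ← zpow_natCast (y ^ n), ← zpow_mul, mul_comm, zpow_mul, zpow_natCast, hy, one_zpow]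
  have hsup := hA.to_sup_of_normal_left' hB (Subgroup.zpowers_le.2 hn)
  have hle : Subgroup.closure ({x, y} : Set G) ≤ A ⊔ Subgroup.zpowers y := by
    refine (Subgroup.closure_le _).2 ?_
    rintro g (rfl | rfl)
    · exact Subgroup.mem_sup_left hxA
    · exact Subgroup.mem_sup_right (Subgroup.mem_zpowers _)
  refine ⟨hsup.to_le hle, le_trans (Nat.le_of_dvd Nat.card_pos (Subgroup.card_dvd_of_le hle)) ?_⟩
  have hA9 : Nat.card A ≤ 9 := by
    refine le_trans (Nat.card_le_card_of_surjective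
      (fun p : Fin 3 × Fin 3 => (⟨x ^ p.1.val * u ^ p.2.val, p.1, p.2, rfl⟩ : A)) ?_) (by simp)
    rintro ⟨_, i, j, rfl⟩
    exact ⟨(i, j), rfl⟩
  have hy' : Nat.card (Subgroup.zpowers y) ≤ 3 := by
    rw [Nat.card_zpowers]
    exact Nat.le_of_dvd (by omega) (orderOf_dvd_of_pow_eq_one hy)
  calc Nat.card ↥(A ⊔ Subgroup.zpowers y) = Nat.card (((A : Set G) * (Subgroup.zpowers y : Set G) : Set G)) := by
        rw [← Subgroup.coe_mul_of_right_le_normalizer_left A _ (Subgroup.zpowers_le.2 hn)]; rfl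
    _ ≤ Nat.card A * Nat.card (Subgroup.zpowers y) := Set.natCard_mul_le
    _ ≤ 9 * 3 := Nat.mul_le_mul hA9 hy'

theorem pgroup_of_cubes {G : Type*} [Group G] [Finite G] (x y : G) (hx : x ^ 3 = 1) (hy : y ^ 3 = 1)
    (h1 : (x * y) ^ 3 = 1) (h2 : (x * y⁻¹) ^ 3 = 1) :
    IsPGroup 3 ↥(Subgroup.closure ({x, y} : Set G)) :=
  (cubes_core x y hx hy h1 h2).1

/-- In the derived group of `SU₃(2)` there are at most nine involutions and no two of them commute. -/
theorem involutions_le_nine {F : Type*} [Field F] [Fintype F] (hF : Fintype.card F = 4) :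
    Nat.card {g : ↥(commutator (Cfsg.SU 3 F 2)) // orderOf g = 2} ≤ 9 ∧
      ∀ g h : ↥(commutator (Cfsg.SU 3 F 2)), orderOf g = 2 → orderOf h = 2 → g * h = h * g → g = h := by
  obtain ⟨N, hNn, hN9, hN3, ⟨e⟩⟩ := CfsgLib.Lie.SUThreeTwo.structure_thm hF
  haveI := hNn
  haveI : Finite (Cfsg.PSU 3 F 2) := Nat.finite_of_card_ne_zero (by rw [(Cfsg.Agent.S0282.result hF).1]; omega)
  have hc3 : Nat.card (Subgroup.center (Cfsg.SU 3 F 2)) = 3 := by
    rw [CfsgLib.Lie.Unitary.card_center_SU (show Fintype.card F = 2 ^ 2 from hF) (by omega)]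
    rfl
  let ψ : ↥(commutator (Cfsg.SU 3 F 2)) →* Cfsg.PSU 3 F 2 :=
    (QuotientGroup.mk' _).comp (commutator (Cfsg.SU 3 F 2)).subtype
  let f : Cfsg.PSU 3 F 2 →* QuaternionGroup 2 := e.toMonoidHom.comp (QuotientGroup.mk' N)
  have hker : ∀ g, ψ g = 1 → g * g = 1 → g = 1 := by
    intro g hg hgg
    have hz : (g : Cfsg.SU 3 F 2) ∈ Subgroup.center (Cfsg.SU 3 F 2) := (QuotientGroup.eq_one_iff _).1 hg
    haveI : Finite (Subgroup.center (Cfsg.SU 3 F 2)) := Nat.finite_of_card_ne_zero (by omega)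
    have h3 : ((g : Cfsg.SU 3 F 2)) ^ 3 = 1 := by
      have h := pow_card_eq_one' (x := (⟨(g : Cfsg.SU 3 F 2), hz⟩ : Subgroup.center (Cfsg.SU 3 F 2)))
      rw [hc3] at h
      exact congrArg Subtype.val h
    have h2 : ((g : Cfsg.SU 3 F 2)) * g = 1 := congrArg Subtype.val hgg
    refine Subtype.ext ?_
    show (g : Cfsg.SU 3 F 2) = 1
    rw [← h3, pow_succ, pow_two, h2, one_mul]
  have hq : ∀ a b : QuaternionGroup 2, a * b * a⁻¹ * b⁻¹ = 1 ∨ a * b * a⁻¹ * b⁻¹ = QuaternionGroup.a 2 := by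
    decide
  have hcom : ∀ g, f (ψ g) = 1 ∨ f (ψ g) = QuaternionGroup.a 2 := by
    intro g
    have hle : commutator (Cfsg.SU 3 F 2) ≤
        (Subgroup.zpowers (QuaternionGroup.a 2 : QuaternionGroup 2)).comap (f.comp (QuotientGroup.mk' _)) := by
      rw [commutator_def, Subgroup.commutator_le]
      intro a _ b _
      rw [Subgroup.mem_comap, map_commutatorElement, commutatorElement_def]
      rcases hq (f.comp (QuotientGroup.mk' _) a) (f.comp (QuotientGroup.mk' _) b) with h | h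
      · rw [h]; exact one_mem _
      · rw [h]; exact Subgroup.mem_zpowers _
    obtain ⟨n, hn⟩ := hle g.2
    have hn' : QuaternionGroup.a 2 ^ n = f (ψ g) := hn
    rw [← hn']
    rcases Int.even_or_odd' n with ⟨k, rfl | rfl⟩
    · left
      rw [zpow_mul, show (QuaternionGroup.a 2 : QuaternionGroup 2) ^ (2 : ℤ) = 1 by decide, one_zpow]
    · right
      rw [zpow_add, zpow_mul, show (QuaternionGroup.a 2 : QuaternionGroup 2) ^ (2 : ℤ) = 1 by decide, one_zpow,
        one_mul, zpow_one]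
  have hfN : ∀ z, f z = 1 → z ∈ N := fun z hz =>
    (QuotientGroup.eq_one_iff (N := N) z).1 (e.map_eq_one_iff.1 hz)
  have hinv : ∀ g : ↥(commutator (Cfsg.SU 3 F 2)), orderOf g = 2 → f (ψ g) = QuaternionGroup.a 2 := by
    intro g hg
    have hgg : g * g = 1 := sq_of hg
    rcases hcom g with h | h
    · exfalso
      have h3 := hN3 _ (hfN _ h)
      have h2 : ψ g * ψ g = 1 := by rw [← map_mul, hgg, map_one]
      rw [pow_succ, pow_two, h2, one_mul] at h3
      rw [hker g h3 hgg, orderOf_one] at hg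
      omega
    · exact h
  have hcomm : ∀ g h : ↥(commutator (Cfsg.SU 3 F 2)), orderOf g = 2 → orderOf h = 2 → g * h = h * g → g = h := by
    intro g h hg hh hgh
    by_contra hne
    have hgg : g * g = 1 := sq_of hg
    have hhh : h * h = 1 := sq_of hh
    have h2 : orderOf (g * h) = 2 := by
      refine orderOf_eq_prime ?_ fun h1 => hne ?_
      · rw [pow_two, mul_assoc, ← mul_assoc h, ← hgh, mul_assoc g h h, hhh, mul_one, hgg]
      · rw [eq_inv_of_mul_eq_one_left h1, inv_eq_of_mul_eq_one_left hhh]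
    have h3 := hinv _ h2
    rw [map_mul, map_mul, hinv g hg, hinv h hh] at h3
    exact absurd h3 (by decide)
  refine ⟨?_, hcomm⟩
  by_cases hne : Nonempty {g : ↥(commutator (Cfsg.SU 3 F 2)) // orderOf g = 2}
  · obtain ⟨g₀⟩ := hne
    rw [← hN9]
    refine Nat.card_le_card_of_injective (fun g => (⟨ψ g.1 * (ψ g₀.1)⁻¹, hfN _ (by
      rw [map_mul, map_inv, hinv _ g.2, hinv _ g₀.2, mul_inv_cancel])⟩ : N)) fun g h hgh => ?_
    have h1 : ψ g.1 = ψ h.1 := mul_right_cancel (congrArg Subtype.val hgh)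
    refine Subtype.ext (hcomm _ _ g.2 h.2 ?_)
    have hgg : g.1 * g.1 = 1 := sq_of g.2
    have hhh : h.1 * h.1 = 1 := sq_of h.2
    have hz : ψ (g.1 * h.1) = 1 := by
      rw [map_mul, h1, ← map_mul, hhh, map_one]
    have hc : g.1 * h.1 * g.1 = h.1 := by
      have hz' : ((g.1 * h.1 : ↥(commutator (Cfsg.SU 3 F 2))) : Cfsg.SU 3 F 2) ∈ Subgroup.center _ :=
        (QuotientGroup.eq_one_iff _).1 hz
      have := Subgroup.mem_center_iff.1 hz' (g.1 : Cfsg.SU 3 F 2)
      have h4 : g.1 * h.1 * g.1 = g.1 * (g.1 * h.1) := Subtype.ext this.symm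
      rw [h4, ← mul_assoc, hgg, one_mul]
    calc g.1 * h.1 = g.1 * h.1 * g.1 * g.1 := by rw [mul_assoc _ g.1 g.1, hgg, mul_one]
      _ = h.1 * g.1 := by rw [hc]
  · haveI := not_nonempty_iff.1 hne
    simp

end CfsgLib.Spor.SUThreeLift
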