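import Cfsg.Agent.Spor.Fischer.SUThreeLift
import Cfsg.Agent.Solv.Generation
import Mathlib.GroupTheory.SemidirectProduct

set_option autoImplicit false

namespace CfsgLib.Spor.TwoThreeTwo

open scoped Pointwise

open CfsgLib.Spor.SUThreeLift (pgroup_of_cubes)

section General
variable {G : Type*} [Group G]

theorem cube_two_one {u : G} (h3 : u ^ 3 = 1) {j : ℕ} (h2 : u ^ (2 ^ j) = 1) : u = 1 :=
  orderOf_eq_one_iff.1 (Nat.eq_one_of_dvd_coprimes ((Nat.Coprime.pow_right j (by decide : Nat.Coprime 3 2)))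
    (orderOf_dvd_iff_pow_eq_one.2 h3) (orderOf_dvd_iff_pow_eq_one.2 h2))

theorem pg_one {K : Subgroup G} (hK : IsPGroup 2 K) {u : G} (hu : u ∈ K) (h3 : u ^ 3 = 1) : u = 1 := by
  obtain ⟨j, hj⟩ := hK ⟨u, hu⟩
  exact cube_two_one h3 (congrArg Subtype.val hj : u ^ (2 ^ j) = 1)

/-- `W` is generated by fixed points of a pair of elements of order three acting commutatively on it. -/
theorem le_of_pair [Finite G] {W T : Subgroup G} (hW : IsPGroup 2 W) {u v : G}
    (hu : u ∈ Subgroup.normalizer (W : Set G)) (hv : v ∈ Subgroup.normalizer (W : Set G))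
    (hu3 : u ^ 3 = 1) (hv3 : v ^ 3 = 1) (huv : ∀ g ∈ W, u * v * g * (u * v)⁻¹ = v * u * g * (v * u)⁻¹)
    (hT : ∀ i : ℕ, W ⊓ Subgroup.centralizer {u * v ^ i} ≤ T) (hTv : W ⊓ Subgroup.centralizer {v} ≤ T) :
    W ≤ T := by
  let φ : ↥(Subgroup.normalizer (W : Set G)) →* MulAut ↥W := Subgroup.normalizerMonoidHom W
  haveI : Finite (MulAut ↥W) := Finite.of_injective _ (fun a b h => MulEquiv.toEquiv_injective h)
  haveI : Finite (↥W ⋊[MonoidHom.id (MulAut ↥W)] MulAut ↥W) :=
    Finite.of_equiv _ (SemidirectProduct.equivProd).symm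
  let ι : ↥W →* ↥W ⋊[MonoidHom.id (MulAut ↥W)] MulAut ↥W := SemidirectProduct.inl
  let U := φ ⟨u, hu⟩
  let V := φ ⟨v, hv⟩
  have hφ : ∀ (g : G) (hg : g ∈ Subgroup.normalizer (W : Set G)) (x : W), (φ ⟨g, hg⟩ x : G) = g * x * g⁻¹ :=
    fun g hg x => rfl
  have hUV : Commute U V := by
    show U * V = V * U
    rw [← map_mul, ← map_mul]
    exact MulEquiv.ext fun x => Subtype.ext (huv x.1 x.2)
  let u' : ↥W ⋊[MonoidHom.id (MulAut ↥W)] MulAut ↥W := SemidirectProduct.inr U
  let v' : ↥W ⋊[MonoidHom.id (MulAut ↥W)] MulAut ↥W := SemidirectProduct.inr V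
  have e3 : ∀ (g : G) (hg : g ∈ Subgroup.normalizer (W : Set G)), g ^ 3 = 1 →
      (SemidirectProduct.inr (φ ⟨g, hg⟩) : ↥W ⋊[MonoidHom.id (MulAut ↥W)] MulAut ↥W) ^ 3 = 1 := by
    intro g hg h
    rw [← map_pow, ← map_pow, show (⟨g, hg⟩ : Subgroup.normalizer (W : Set G)) ^ 3 = 1 from Subtype.ext h,
      map_one, map_one]
  have hu'3 := e3 u hu hu3
  have hv'3 := e3 v hv hv3
  let A := CfsgLib.Lie.SUThreeTwo.nine u' v' hu'3 hv'3 (hUV.map _)
  haveI : IsMulCommutative A := ⟨⟨by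
    rintro ⟨_, i, j, rfl⟩ ⟨_, k, l, rfl⟩
    refine Subtype.ext ?_
    have h : Commute u' v' := hUV.map _
    exact ((((Commute.refl u').pow_pow _ _).mul_right (h.pow_pow _ _)).mul_left
      ((h.symm.pow_pow _ _).mul_right ((Commute.refl v').pow_pow _ _))).eq⟩⟩
  have hA : IsPGroup 3 A := by
    rintro ⟨g, i, j, rfl⟩
    refine ⟨1, Subtype.ext ?_⟩
    show (u' ^ i.val * v' ^ j.val) ^ (3 ^ 1) = 1
    rw [pow_one, ((hUV.map (SemidirectProduct.inr : MulAut ↥W →* _)).pow_pow _ _).mul_pow, ← pow_mul, ← pow_mul,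
      mul_comm i.val, mul_comm j.val, pow_mul, pow_mul, hu'3, hv'3, one_pow, one_pow, mul_one]
  haveI : Fact (Nat.Prime 3) := ⟨Nat.prime_three⟩
  haveI : Fact (Nat.Prime 2) := ⟨Nat.prime_two⟩
  obtain ⟨n, hn⟩ := IsPGroup.iff_card.1 hA
  obtain ⟨m, hm⟩ := IsPGroup.iff_card.1 hW
  have hK : Nat.card ι.range = Nat.card W :=
    (Nat.card_congr (MonoidHom.ofInjective SemidirectProduct.inl_injective).toEquiv).symm
  have hfix : ∀ (X : MulAut ↥W) (x : W), (ι x) ∈ Subgroup.centralizer {(SemidirectProduct.inr X :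
      ↥W ⋊[MonoidHom.id (MulAut ↥W)] MulAut ↥W)} → X x = x := by
    intro X x hx
    have h := (Subgroup.mem_centralizer_singleton_iff.1 hx).symm
    have h' := congrArg SemidirectProduct.left h
    simpa [ι] using h'
  have hle : ι.range ≤ (T.subgroupOf W).map ι := by
    refine CfsgLib.Solv.le_of_centralizers_pair' (q := 3) (A := A) (u := u') (v := v') ⟨1, 0, by simp⟩
      ⟨0, 1, by simp⟩ ?_ ?_ ?_ (fun x _ => by rw [hu'3]; simp) (fun x _ => by rw [hv'3]; simp) ?_ ?_
    · intro a _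
      haveI : ι.range.Normal := by
        rw [SemidirectProduct.range_inl_eq_ker_rightHom]; infer_instance
      rw [Subgroup.normalizer_eq_top_iff.2 inferInstance]; trivial
    · rw [hn, hK, hm]; exact Nat.Coprime.pow n m (by decide)
    · rw [hK, hm]; exact Nat.Coprime.pow_right m (by decide)
    · rintro i _ ⟨⟨x, rfl⟩, hx⟩
      refine ⟨x, hT i ⟨x.2, Subgroup.mem_centralizer_singleton_iff.2 ?_⟩, rfl⟩
      have hx' : (U * V ^ i) x = x := by
        refine hfix _ x ?_
        rw [map_mul, map_pow]; exact hx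
      have hN : u * v ^ i ∈ Subgroup.normalizer (W : Set G) := mul_mem hu (pow_mem hv i)
      have : U * V ^ i = φ ⟨u * v ^ i, hN⟩ := by
        show φ ⟨u, hu⟩ * φ ⟨v, hv⟩ ^ i = _
        rw [← map_pow, ← map_mul]; rfl
      rw [this] at hx'
      have h2 := congrArg Subtype.val hx'
      rw [hφ, mul_inv_eq_iff_eq_mul] at h2
      exact h2.symm
    · rintro _ ⟨⟨x, rfl⟩, hx⟩
      refine ⟨x, hTv ⟨x.2, Subgroup.mem_centralizer_singleton_iff.2 ?_⟩, rfl⟩
      have h2 := congrArg Subtype.val (hfix V x hx)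
      rw [hφ, mul_inv_eq_iff_eq_mul] at h2
      exact h2.symm
  intro x hx
  obtain ⟨y, hy, hyx⟩ := hle ⟨⟨x, hx⟩, rfl⟩
  have : y = ⟨x, hx⟩ := SemidirectProduct.inl_injective hyx
  rw [this] at hy
  exact hy

end General

/-- the data: `π` with 2-group kernel, a lifting of the normal 3-subgroup `P`, self-centralizing kernel -/
structure Setup (H Q : Type*) [Group H] [Group Q] where
  D : Set H
  π : H →* Q
  P : Subgroup Q
  s : ↥P →* H
  hπs : ∀ x, π (s x) = x
  hker : IsPGroup 2 π.ker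
  hC : Subgroup.centralizer (π.ker : Set H) ≤ π.ker
  hD2 : ∀ d ∈ D, d * d = 1
  hp : ∀ d ∈ D, ∀ e ∈ D, π d ≠ π e → (d * e) ^ 3 = 1
  hconj : ∀ d ∈ D, ∀ g : H, g * d * g⁻¹ ∈ D
  hlift : ∀ f : Q, orderOf f = 2 → ∃ d ∈ D, π d = f
  hPn : ∀ p ∈ P, ∀ g : Q, g * p * g⁻¹ ∈ P
  hP3 : IsPGroup 3 P
  hout : ∀ f : Q, orderOf f = 2 → f ∉ P
  hin : ∀ f g : Q, orderOf f = 2 → orderOf g = 2 → f * g ∈ P
  hgen : Subgroup.closure {f : Q | orderOf f = 2} = ⊤

variable {H Q : Type*} [Group H] [Finite H] [Group Q] [Finite Q] (S : Setup H Q)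

theorem prod_invol (S : Setup H Q) {f x : Q} (hf : orderOf f = 2) (hx : x ∈ S.P) (hi : f * x * f = x⁻¹) :
    orderOf (f * x) = 2 := by
  refine orderOf_eq_prime ?_ fun h => S.hout f hf ?_
  · rw [pow_two, ← mul_assoc, hi, inv_mul_cancel]
  · rw [eq_inv_of_mul_eq_one_left h]; exact inv_mem hx

theorem cube (S : Setup H Q) {f : Q} (hf : orderOf f = 2) {x : ↥S.P} (hi : f * x * f = (x : Q)⁻¹) :
    x ^ 3 = 1 := by
  by_cases h : x = 1
  · rw [h, one_pow]
  obtain ⟨d, hd, hdπ⟩ := S.hlift f hf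
  obtain ⟨e, he, heπ⟩ := S.hlift _ (prod_invol S hf x.2 hi)
  have hne : S.π d ≠ S.π e := fun h' => h (Subtype.ext (by
    rw [hdπ, heπ] at h'; exact (mul_eq_left.1 h'.symm)))
  have h3 := congrArg S.π (S.hp d hd e he hne)
  have hff : f * f = 1 := CfsgLib.Spor.SUThreeLift.sq_of hf
  rw [map_pow, map_mul, hdπ, heπ, ← mul_assoc, hff, one_mul, map_one] at h3
  exact Subtype.ext h3

/-- an involution inverting `x` lifts to a member of `D` inverting the lift of `x` and fixing its fixed points -/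
theorem exists_inverter (S : Setup H Q) {f : Q} (hf : orderOf f = 2) {x : ↥S.P} (hx : x ≠ 1)
    (hi : f * x * f = (x : Q)⁻¹) :
    ∃ d ∈ S.D, S.π d = f ∧ ∀ v ∈ S.π.ker, v * S.s x = S.s x * v → d * v = v * d := by
  have hff : f * f = 1 := CfsgLib.Spor.SUThreeLift.sq_of hf
  obtain ⟨d₀, hd₀, hd₀π⟩ := S.hlift f hf
  obtain ⟨e₀, he₀, he₀π⟩ := S.hlift _ (prod_invol S hf x.2 hi)
  have hxQ : (x : Q) ≠ 1 := fun h => hx (Subtype.ext h)
  have hne : S.π d₀ ≠ S.π e₀ := by
    rw [hd₀π, he₀π]; exact fun h' => hxQ (mul_eq_left.1 h'.symm)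
  set x₁ := S.s x with hx₁
  set x₂ := d₀ * e₀ with hx₂
  have h23 : x₂ ^ 3 = 1 := S.hp d₀ hd₀ e₀ he₀ hne
  have h13 : x₁ ^ 3 = 1 := by rw [hx₁, ← map_pow, cube S hf hi, map_one]
  have hπ1 : S.π x₁ = x := S.hπs x
  have hπ2 : S.π x₂ = x := by rw [hx₂, map_mul, hd₀π, he₀π, ← mul_assoc, hff, one_mul]
  haveI : Fact (Nat.Prime 3) := ⟨Nat.prime_three⟩
  haveI : Fact (Nat.Prime 2) := ⟨Nat.prime_two⟩
  have ho1 : orderOf x₁ = 3 := orderOf_eq_prime h13 fun h => hxQ (by rw [← hπ1, h, map_one])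
  have ho2 : orderOf x₂ = 3 := orderOf_eq_prime h23 fun h => hxQ (by rw [← hπ2, h, map_one])
  haveI hOn : S.π.ker.Normal := inferInstance
  set K := S.π.ker ⊔ Subgroup.zpowers x₁ with hKdef
  have hx2K : x₂ ∈ K := by
    have : x₂ = x₂ * x₁⁻¹ * x₁ := (inv_mul_cancel_right _ _).symm
    rw [this]
    exact mul_mem (Subgroup.mem_sup_left (show S.π (x₂ * x₁⁻¹) = 1 by rw [map_mul, map_inv, hπ1, hπ2, mul_inv_cancel]))
      (Subgroup.mem_sup_right (Subgroup.mem_zpowers _))
  have hx1K : x₁ ∈ K := Subgroup.mem_sup_right (Subgroup.mem_zpowers _)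
  have hidx : ∀ y : H, y ∈ K → ∃ i : ℤ, S.π y = (x : Q) ^ i := by
    intro y hy
    have : y ∈ (Subgroup.zpowers (x : Q)).comap S.π := by
      refine (sup_le ?_ (Subgroup.zpowers_le.2 ?_) : K ≤ _) hy
      · intro z hz; show S.π z ∈ Subgroup.zpowers (x : Q); rw [MonoidHom.mem_ker.1 hz]; exact one_mem _
      · show S.π x₁ ∈ Subgroup.zpowers (x : Q); rw [hπ1]; exact Subgroup.mem_zpowers _
    obtain ⟨i, hi⟩ := this
    exact ⟨i, hi.symm⟩
  -- Sylow three-subgroups of `K` have order three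
  have hcardK : Nat.card K = 3 * Nat.card S.π.ker := by
    have hd : Disjoint (Subgroup.zpowers x₁) S.π.ker := by
      rw [Subgroup.disjoint_def]
      rintro z ⟨n, rfl⟩ hz
      refine pg_one S.hker hz ?_
      rw [← zpow_natCast (x₁ ^ n), ← zpow_mul, mul_comm, zpow_mul, zpow_natCast, h13, one_zpow]
    rw [← ho1, ← Nat.card_zpowers, hKdef, sup_comm]
    calc Nat.card ↥(Subgroup.zpowers x₁ ⊔ S.π.ker)
        = Nat.card ((Subgroup.zpowers x₁ : Set H) * (S.π.ker : Set H) : Set H) := by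
          rw [← Subgroup.mul_normal]; rfl
      _ = _ := by
          rw [← Nat.card_prod]
          exact (Nat.card_congr (Equiv.ofBijective
            (fun p : ↥(Subgroup.zpowers x₁) × ↥S.π.ker => (⟨p.1.1 * p.2.1, Set.mul_mem_mul p.1.2 p.2.2⟩ :
              ((Subgroup.zpowers x₁ : Set H) * (S.π.ker : Set H) : Set H)))
            ⟨fun a b h => Subgroup.mul_injective_of_disjoint hd (congrArg Subtype.val h), by
              rintro ⟨_, a, ha, b, hb, rfl⟩
              exact ⟨(⟨a, ha⟩, ⟨b, hb⟩), rfl⟩⟩)).symm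
  obtain ⟨m, hm⟩ := IsPGroup.iff_card.1 S.hker
  have hsyl : ∀ (y : H) (hy : y ∈ K), orderOf y = 3 → ∃ T : Sylow 3 K, (T : Subgroup K) = Subgroup.zpowers ⟨y, hy⟩ := by
    intro y hy ho
    have hy' : orderOf (⟨y, hy⟩ : K) = 3 := by rwa [Subgroup.orderOf_mk]
    refine ⟨Sylow.ofCard (Subgroup.zpowers ⟨y, hy⟩) ?_, rfl⟩
    rw [Nat.card_zpowers, hy', hcardK, hm, Nat.factorization_mul (by norm_num) (by positivity),
      Finsupp.add_apply, Nat.prime_three.factorization_self, Nat.factorization_pow, Finsupp.smul_apply,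
      Nat.prime_two.factorization, Finsupp.single_apply]
    norm_num
  obtain ⟨T₁, hT₁⟩ := hsyl x₁ hx1K ho1
  obtain ⟨T₂, hT₂⟩ := hsyl x₂ hx2K ho2
  obtain ⟨g, hg⟩ := MulAction.exists_smul_eq K T₂ T₁
  have hg' : g * ⟨x₂, hx2K⟩ * g⁻¹ ∈ Subgroup.zpowers (⟨x₁, hx1K⟩ : K) := by
    rw [← hT₁, ← hg]
    show _ ∈ MulAut.conj g • (T₂ : Subgroup K)
    rw [hT₂]
    exact Subgroup.smul_mem_pointwise_smul _ _ _ (Subgroup.mem_zpowers _)
  obtain ⟨i, hi'⟩ := hidx g.1 g.2
  obtain ⟨n, hn⟩ := hg'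
  have hgx : g.1 * x₂ * g.1⁻¹ = x₁ := by
    have hn' : x₁ ^ n = g.1 * x₂ * g.1⁻¹ := congrArg Subtype.val hn
    have hπn : (x : Q) ^ n = x := by
      have := congrArg S.π hn'
      rw [map_zpow, hπ1, map_mul, map_mul, map_inv, hi', hπ2] at this
      rw [this, ← zpow_add_one, ← zpow_neg, ← zpow_add, show i + 1 + -i = 1 by ring, zpow_one]
    rw [← hn']
    have ho : orderOf (x : Q) = 3 :=
      orderOf_eq_prime (congrArg Subtype.val (cube S hf hi)) hxQ
    conv_rhs => rw [← zpow_one x₁]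
    rw [zpow_eq_zpow_iff_modEq, ho1, ← ho, ← zpow_eq_zpow_iff_modEq, hπn, zpow_one]
  set g' := g.1 * x₂ ^ (-i) with hg'def
  have hg'π : S.π g' = 1 := by
    rw [hg'def, map_mul, map_zpow, hi', hπ2, ← zpow_add, add_neg_cancel, zpow_zero]
  have hg'x : g' * x₂ * g'⁻¹ = x₁ := by
    rw [hg'def, ← hgx]; group
  refine ⟨g' * d₀ * g'⁻¹, S.hconj d₀ hd₀ g', by rw [map_mul, map_mul, map_inv, hg'π, hd₀π]; simp, fun v hv hvx => ?_⟩
  set d := g' * d₀ * g'⁻¹ with hd
  set e := g' * e₀ * g'⁻¹ with he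
  have hdD : d ∈ S.D := S.hconj d₀ hd₀ g'
  have heD : e ∈ S.D := S.hconj e₀ he₀ g'
  have hde : d * e = x₁ := by
    rw [hd, he, ← hg'x, hx₂, ← MulAut.conj_apply, ← MulAut.conj_apply, ← map_mul, MulAut.conj_apply]
  have hdd : d * d = 1 := S.hD2 d hdD
  have hee : e * e = 1 := S.hD2 e heD
  have hdi : d⁻¹ = d := inv_eq_of_mul_eq_one_left hdd
  have he' : e = d * x₁ := by rw [← hde, ← mul_assoc, hdd, one_mul]
  set u := v * d * v⁻¹ * d with hu
  have huK : u ∈ S.π.ker := by
    rw [MonoidHom.mem_ker, hu, map_mul, map_mul, map_mul, map_inv, MonoidHom.mem_ker.1 hv]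
    rw [inv_one, mul_one, one_mul, ← map_mul, hdd, map_one]
  have hxd : d * x₁ * d = x₁⁻¹ := by
    have : x₁⁻¹ = e⁻¹ * d⁻¹ := by rw [← hde, mul_inv_rev]
    rw [this, inv_eq_of_mul_eq_one_left hee, hdi, he']
  have hvx' : Commute v x₁ := hvx
  have hdvd : Commute (d * v⁻¹ * d) x₁ := by
    have h := (hvx'.inv_left.inv_right)
    have h2 := h.map (MulAut.conj d)
    rw [MulAut.conj_apply, MulAut.conj_apply, hdi, ← hxd, show d * (d * x₁ * d) * d = (d * d) * x₁ * (d * d) by group,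
      hdd, one_mul, mul_one] at h2
    exact h2
  have hux : Commute u x₁ := by
    rw [hu, show v * d * v⁻¹ * d = v * (d * v⁻¹ * d) by group]
    exact hvx'.mul_left hdvd
  have h3 := S.hp (v * d * v⁻¹) (S.hconj d hdD v) e heD (by
    simpa only [hd, he, map_mul, map_inv, MonoidHom.mem_ker.1 hv, hg'π, inv_one, one_mul, mul_one] using hne)
  rw [show v * d * v⁻¹ * e = u * x₁ by rw [he', hu]; simp only [mul_assoc], hux.mul_pow, h13, mul_one] at h3
  have hu1 := pg_one S.hker huK h3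
  rw [hu, mul_eq_one_iff_eq_inv, hdi, mul_inv_eq_iff_eq_mul] at hu1
  exact hu1.symm

/-- transfer of a fixed-point set between two inverting involutions -/
theorem fixes (S : Setup H Q) {f : Q} (hf : orderOf f = 2) {x x' y : ↥S.P} (hx : x ≠ 1) (hx' : x' ≠ 1)
    (hy : y ^ 3 = 1)
    (hi : f * x * f = (x : Q)⁻¹) (hyi : f * y * f = (y : Q)⁻¹) (hi' : f * y * x' * (f * y) = (x' : Q)⁻¹)
    (X : Subgroup H) (hX : X ≤ S.π.ker) (hXx : X ≤ Subgroup.centralizer {S.s x})
    (hXx' : X ≤ Subgroup.centralizer {S.s x'}) (hn : S.s y ∈ Subgroup.normalizer (X : Set H)) :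
    ∀ g ∈ X, S.s y * g = g * S.s y := by
  obtain ⟨d, hdD, hdπ, hd⟩ := exists_inverter S hf hx hi
  obtain ⟨e, heD, heπ, he⟩ := exists_inverter S (prod_invol S hf y.2 hyi) hx' hi'
  set k := d * e with hk
  have hkX : ∀ g ∈ X, k * g = g * k := by
    intro g hg
    have h1 : Commute d g := hd g (hX hg) (Subgroup.mem_centralizer_singleton_iff.1 (hXx hg))
    have h2 : Commute e g := he g (hX hg) (Subgroup.mem_centralizer_singleton_iff.1 (hXx' hg))
    exact (h1.mul_left h2).eq
  set v := (S.s y)⁻¹ * k with hv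
  have hvK : v ∈ S.π.ker := by
    rw [MonoidHom.mem_ker, hv, hk, map_mul, map_mul, map_inv, S.hπs, hdπ, heπ, ← mul_assoc f f,
      CfsgLib.Spor.SUThreeLift.sq_of hf, one_mul, inv_mul_cancel]
  obtain ⟨j, hj⟩ := S.hker ⟨v, hvK⟩
  have hj' : v ^ (2 ^ j) = 1 := congrArg Subtype.val hj
  have hyv : ∀ g ∈ X, (S.s y)⁻¹ * g * S.s y = v * g * v⁻¹ := by
    intro g hg
    rw [hv, mul_inv_rev, inv_inv, show (S.s y)⁻¹ * k * g * (k⁻¹ * S.s y) = (S.s y)⁻¹ * (k * g) * k⁻¹ * S.s y by
      group, hkX g hg]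
    group
  have hpow : ∀ n : ℕ, ∀ g ∈ X, ((S.s y)⁻¹) ^ n * g * (((S.s y)⁻¹) ^ n)⁻¹ = v ^ n * g * (v ^ n)⁻¹ := by
    intro n
    induction n with
    | zero => simp
    | succ n ih =>
      intro g hg
      have hg' : (S.s y)⁻¹ * g * S.s y ∈ X := by
        have := (Subgroup.mem_normalizer_iff.1 (inv_mem hn) g).1 hg
        rwa [inv_inv] at this
      rw [pow_succ, pow_succ, mul_inv_rev, mul_inv_rev, inv_inv]
      calc _ = ((S.s y)⁻¹) ^ n * ((S.s y)⁻¹ * g * S.s y) * (((S.s y)⁻¹) ^ n)⁻¹ := by group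
        _ = v ^ n * ((S.s y)⁻¹ * g * S.s y) * (v ^ n)⁻¹ := ih _ hg'
        _ = _ := by rw [hyv g hg]; group
  intro g hg
  have h := hpow (2 ^ j) g hg
  rw [hj', inv_one, one_mul, mul_one, mul_inv_eq_iff_eq_mul] at h
  have hc : Commute ((S.s y)⁻¹ ^ (2 ^ j)) g := h
  have h3 : ((S.s y)⁻¹) ^ 3 = 1 := by rw [inv_pow, ← map_pow, hy, map_one, inv_one]
  have hmod : (2 : ℕ) ^ j % 3 = 1 ∨ (2 : ℕ) ^ j % 3 = 2 := by
    have : ¬ 3 ∣ 2 ^ j := fun h => by
      have := Nat.Prime.dvd_of_dvd_pow Nat.prime_three h; omega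
    omega
  rw [pow_eq_pow_mod _ h3] at hc
  rcases hmod with h' | h' <;> rw [h'] at hc
  · rw [pow_one] at hc
    exact (Commute.inv_left_iff.1 hc).eq
  · have : ((S.s y)⁻¹) ^ 2 = S.s y := by
      rw [← mul_inv_eq_one, ← pow_succ, h3]
    rw [this] at hc
    exact hc.eq

theorem trivial_of_central (S : Setup H Q) {x : ↥S.P} (h : S.π.ker ≤ Subgroup.centralizer {S.s x}) : x = 1 := by
  have h1 := S.hC (Subgroup.mem_centralizer_iff.2 fun g hg => Subgroup.mem_centralizer_singleton_iff.1 (h hg))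
  refine Subtype.ext ?_
  rw [← S.hπs x, MonoidHom.mem_ker.1 h1]; rfl

/-- commuting elements inverted by one involution generate a cyclic group -/
theorem inverted_comm (S : Setup H Q) {f : Q} (hf : orderOf f = 2) {x y : ↥S.P} (hx : x ≠ 1)
    (hix : f * x * f = (x : Q)⁻¹) (hiy : f * y * f = (y : Q)⁻¹) (hxy : x * y = y * x) :
    y ∈ Subgroup.zpowers x := by
  by_contra hy
  haveI : S.π.ker.Normal := inferInstance
  have hnK : ∀ g : H, g ∈ Subgroup.normalizer (S.π.ker : Set H) := fun g => by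
    rw [Subgroup.normalizer_eq_top_iff.2 inferInstance]; trivial
  have hall : ∀ a : ↥S.P, a ≠ 1 → f * a * f = (a : Q)⁻¹ → a * x = x * a →
      S.π.ker ⊓ Subgroup.centralizer {S.s a} ≤ Subgroup.centralizer {S.s x} := by
    intro a ha hia hax g hg
    have hff := CfsgLib.Spor.SUThreeLift.sq_of hf
    have hax' : (a : Q) * x = x * a := congrArg Subtype.val hax
    refine Subgroup.mem_centralizer_singleton_iff.2
      (fixes S hf ha ha (cube S hf hix) hia hix ?_ _ inf_le_left inf_le_right inf_le_right ?_ g hg).symm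
    · calc f * x * a * (f * x) = f * (x * a) * f * x := by simp only [mul_assoc]
        _ = f * (a * x) * f * x := by rw [hax']
        _ = (f * a * f) * (f * x * f) * x := by
              simp only [mul_assoc]; rw [← mul_assoc f f, hff, one_mul]
        _ = _ := by rw [hia, hix, inv_mul_cancel_right]
    · have hc : Commute (S.s x) (S.s a) := (Commute.map (show Commute x a from hax.symm) S.s)
      refine Subgroup.mem_normalizer_iff.2 fun g => ⟨fun hg => ⟨(Subgroup.mem_normalizer_iff.1 (hnK _) g).1 hg.1, ?_⟩,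
        fun hg => ⟨(Subgroup.mem_normalizer_iff.1 (hnK _) g).2 hg.1, ?_⟩⟩
      · refine Subgroup.mem_centralizer_singleton_iff.2 ?_
        have h1 : Commute g (S.s a) := Subgroup.mem_centralizer_singleton_iff.1 hg.2
        exact ((hc.mul_left h1).mul_left hc.inv_left).eq
      · refine Subgroup.mem_centralizer_singleton_iff.2 ?_
        have h1 : Commute (S.s x * g * (S.s x)⁻¹) (S.s a) := Subgroup.mem_centralizer_singleton_iff.1 hg.2
        have h2 := (hc.inv_left.mul_left h1).mul_left hc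
        rwa [show (S.s x)⁻¹ * (S.s x * g * (S.s x)⁻¹) * S.s x = g by group] at h2
  have hx3 := cube S hf hix
  have hy3 := cube S hf hiy
  have hinv : ∀ i : ℕ, f * ((y * x ^ i : ↥S.P) : Q) * f = ((y * x ^ i : ↥S.P) : Q)⁻¹ := by
    intro i
    have hff := CfsgLib.Spor.SUThreeLift.sq_of hf
    have hfi : f⁻¹ = f := inv_eq_of_mul_eq_one_left hff
    have hc : Commute (x : Q) y := congrArg Subtype.val hxy
    have := map_mul (MulAut.conj f) (y : Q) ((x : Q) ^ i)
    rw [map_pow, MulAut.conj_apply, MulAut.conj_apply, MulAut.conj_apply, hfi, hiy, hix] at this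
    push_cast
    rw [this, mul_inv_rev, inv_pow]
    exact ((hc.pow_left i).inv_left.inv_right).eq.symm
  apply hx
  refine trivial_of_central S (le_of_pair (T := Subgroup.centralizer {S.s x}) S.hker (hnK (S.s y)) (hnK (S.s x))
    (by rw [← map_pow, hy3, map_one]) (by rw [← map_pow, hx3, map_one])
    (fun g _ => by rw [← map_mul, ← map_mul, hxy]) (fun i => ?_) (hall x hx hix rfl))
  rw [← map_pow, ← map_mul]
  refine hall _ (fun h => hy ?_) (hinv i) ?_
  · rw [eq_inv_of_mul_eq_one_left h]; exact inv_mem (pow_mem (Subgroup.mem_zpowers x) i)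
  · rw [mul_assoc, ← pow_succ, pow_succ', ← mul_assoc, ← hxy, mul_assoc]


theorem card_le_of_surj {α β : Type*} [Finite α] (F : α → β) (h : Function.Surjective F) (n : ℕ)
    (hn : Nat.card α ≤ n) : Nat.card β ≤ n :=
  le_trans (Nat.card_le_card_of_surjective F h) hn

/-- at most nine involutions -/
theorem nine_le (S : Setup H Q) : Nat.card {q : Q // orderOf q = 2} ≤ 9 := by
  classical
  have hsq : ∀ {f : Q}, orderOf f = 2 → f * f = 1 := fun h => CfsgLib.Spor.SUThreeLift.sq_of h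
  have hfi : ∀ {f : Q}, orderOf f = 2 → f⁻¹ = f := fun h => inv_eq_of_mul_eq_one_left (hsq h)
  have hconjI : ∀ f g : Q, orderOf f = 2 → orderOf g = 2 → ∃ m : ↥S.P, g = m * f * (m : Q)⁻¹ ∧
      (m : Q) = f * g ∧ f * m * f = (m : Q)⁻¹ := by
    intro f g hf hg
    refine ⟨⟨f * g, S.hin f g hf hg⟩, ?_, rfl, ?_⟩
    · have hi : f * (f * g) * f = (f * g)⁻¹ := by rw [mul_inv_rev, hfi hf, hfi hg, ← mul_assoc, hsq hf, one_mul]
      have h3 : (f * g) ^ 3 = 1 := congrArg Subtype.val (cube S hf (x := ⟨f * g, S.hin f g hf hg⟩) hi)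
      show g = f * g * f * (f * g)⁻¹
      rw [mul_inv_rev, hfi hf, hfi hg]
      rw [pow_succ, pow_two] at h3
      have h' := eq_inv_of_mul_eq_one_left (show f * g * f * g * f * g = 1 by simpa only [mul_assoc] using h3)
      rw [hfi hg] at h'
      rw [show f * g * f * (g * f) = f * g * f * g * f by simp only [mul_assoc]]
      exact h'.symm
    · show f * (f * g) * f = (f * g)⁻¹
      rw [mul_inv_rev, hfi hf, hfi hg, ← mul_assoc, hsq hf, one_mul]
  by_cases hA : ∃ f : Q, orderOf f = 2 ∧ ∃ z : ↥S.P, z ≠ 1 ∧ (∀ p, z * p = p * z) ∧ f * z * f = (z : Q)⁻¹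
  · obtain ⟨f, hf, z, hz, hzc, hzi⟩ := hA
    have hz3 := cube S hf hzi
    refine le_trans ?_ (show 3 ≤ 9 by omega)
    let F : Fin 3 → {q : Q // orderOf q = 2} := fun i => ⟨f * ((z ^ i.val : ↥S.P) : Q),
      prod_invol S hf (z ^ i.val).2 (by
        push_cast
        have := map_pow (MulAut.conj f) (z : Q) i.val
        rw [MulAut.conj_apply, MulAut.conj_apply, hfi hf, hzi, inv_pow] at this
        exact this)⟩
    refine card_le_of_surj F (fun g => ?_) 3 (by simp)
    obtain ⟨m, _, hm, hmi⟩ := hconjI f g.1 hf g.2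
    obtain ⟨n, hn⟩ := inverted_comm S hf hz hzi hmi (hzc m)
    refine ⟨⟨(n % 3).toNat, by omega⟩, Subtype.ext ?_⟩
    show f * ((z ^ (n % 3).toNat : ↥S.P) : Q) = g.1
    have h3 : z ^ (3 : ℤ) = 1 := by rw [show (3 : ℤ) = ((3 : ℕ) : ℤ) from rfl, zpow_natCast, hz3]
    have : (z ^ (n % 3).toNat : ↥S.P) = m := by
      rw [← hn, ← zpow_natCast, Int.toNat_of_nonneg (Int.emod_nonneg _ (by norm_num)), zpow_eq_zpow_iff_modEq]
      have h1 : orderOf z = 3 := by
        haveI : Fact (Nat.Prime 3) := ⟨Nat.prime_three⟩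
        exact orderOf_eq_prime hz3 hz
      rw [h1]; exact Int.mod_modEq n 3
    rw [this, hm, ← mul_assoc, hsq hf, one_mul]
  push Not at hA
  have hfix : ∀ (f : Q), orderOf f = 2 → ∀ z : ↥S.P, (∀ p, z * p = p * z) → f * z * f = (z : Q) := by
    intro f hf z hz
    let αz : ↥S.P := ⟨f * z * f, by simpa [hfi hf] using S.hPn z z.2 f⟩
    have hαc : ∀ p, αz * p = p * αz := by
      intro p
      let αp : ↥S.P := ⟨f * p * f, by simpa [hfi hf] using S.hPn p p.2 f⟩
      have h := congrArg (fun q : ↥S.P => f * (q : Q) * f) (hz αp)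
      refine Subtype.ext ?_
      show f * z * f * p = p * (f * z * f)
      have e1 : f * ((z : Q) * (f * p * f)) * f = f * z * f * p * (f * f) := by simp only [mul_assoc]
      have e2 : f * ((f * p * f) * (z : Q)) * f = (f * f) * p * (f * z * f) := by simp only [mul_assoc]
      have h' : f * ((z : Q) * (f * p * f)) * f = f * ((f * p * f) * (z : Q)) * f := h
      rw [e1, e2, hsq hf, mul_one, one_mul] at h'
      exact h'
    by_contra hne
    refine hA f hf (z⁻¹ * αz) (fun h => hne ?_) (fun p => ?_) ?_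
    · exact congrArg Subtype.val (inv_mul_eq_one.1 h).symm
    · rw [mul_assoc, hαc, ← mul_assoc, (show Commute z p from hz p).inv_left.eq, mul_assoc]
    · show f * ((z : Q)⁻¹ * (f * z * f)) * f = ((z : Q)⁻¹ * (f * z * f))⁻¹
      rw [mul_inv_rev, mul_inv_rev, mul_inv_rev, inv_inv, hfi hf]
      calc f * ((z : Q)⁻¹ * (f * z * f)) * f = f * (z : Q)⁻¹ * f * z * (f * f) := by simp only [mul_assoc]
        _ = _ := by rw [hsq hf, mul_one]; simp only [mul_assoc]
  by_cases hab : ∀ p q : ↥S.P, p * q = q * p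
  · refine le_trans ?_ (show 1 ≤ 9 by omega)
    rw [Finite.card_le_one_iff_subsingleton]
    refine ⟨fun g h => Subtype.ext ?_⟩
    obtain ⟨m, _, hm, hmi⟩ := hconjI g.1 h.1 g.2 h.2
    have h1 := hfix g.1 g.2 m (hab m)
    rw [hmi] at h1
    have h2 : (m : Q) = 1 := by
      have h3 := congrArg Subtype.val (cube S g.2 hmi)
      have h4 : (m : Q) * m = 1 := by nth_rewrite 1 [← h1]; exact inv_mul_cancel _
      change (m : Q) ^ 3 = 1 at h3
      rwa [pow_succ, pow_two, h4, one_mul] at h3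
    rw [hm] at h2
    exact (hfi g.2).symm.trans (inv_eq_of_mul_eq_one_right h2)
  push Not at hab
  haveI : Fact (Nat.Prime 3) := ⟨Nat.prime_three⟩
  obtain ⟨w₀, hw₀, hw₀Z⟩ : ∃ w₀ : ↥S.P, (∀ p q, (w₀ * p * w₀⁻¹ * p⁻¹) * q = q * (w₀ * p * w₀⁻¹ * p⁻¹)) ∧
      w₀ ∉ Subgroup.center ↥S.P := by
    haveI : Nontrivial (↥S.P ⧸ Subgroup.center ↥S.P) := by
      refine QuotientGroup.nontrivial_iff.2 fun h => ?_
      obtain ⟨p, q, hpq⟩ := hab
      exact hpq ((Subgroup.mem_center_iff.1 (h.symm ▸ Subgroup.mem_top q)) p)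
    haveI := (S.hP3.to_quotient (Subgroup.center ↥S.P)).center_nontrivial
    obtain ⟨⟨z, hz⟩, hz1⟩ := exists_ne (1 : Subgroup.center (↥S.P ⧸ Subgroup.center ↥S.P))
    obtain ⟨w₀, rfl⟩ := QuotientGroup.mk_surjective z
    refine ⟨w₀, fun p q => ?_, fun h => hz1 (Subtype.ext ((QuotientGroup.eq_one_iff w₀).2 h))⟩
    have h : (((w₀ * p * w₀⁻¹ * p⁻¹ : ↥S.P)) : ↥S.P ⧸ Subgroup.center ↥S.P) = 1 := by
      rw [QuotientGroup.mk_mul, QuotientGroup.mk_mul, QuotientGroup.mk_mul, ← Subgroup.mem_center_iff.1 hz (p : ↥S.P ⧸ _),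
        QuotientGroup.mk_inv, QuotientGroup.mk_inv]
      group
    exact (Subgroup.mem_center_iff.1 ((QuotientGroup.eq_one_iff _).1 h) q).symm
  obtain ⟨f, hf, hfw⟩ : ∃ f : Q, orderOf f = 2 ∧ f * w₀ * f ≠ w₀ := by
    by_contra hc
    push Not at hc
    have hle : (⊤ : Subgroup Q) ≤ Subgroup.centralizer {(w₀ : Q)} := by
      rw [← S.hgen, Subgroup.closure_le]
      intro g hg
      refine Subgroup.mem_centralizer_singleton_iff.2 ?_
      calc g * (w₀ : Q) = g * w₀ * g * g := by rw [mul_assoc _ g g, hsq hg, mul_one]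
        _ = w₀ * g := by rw [hc g hg]
    refine hw₀Z (Subgroup.mem_center_iff.2 fun p => Subtype.ext ?_)
    exact Subgroup.mem_centralizer_singleton_iff.1 (hle (Subgroup.mem_top (p : Q)))
  have hff := hsq hf
  let α : ↥S.P →* ↥S.P := MonoidHom.mk' (fun p => ⟨f * p * f, by simpa [hfi hf] using S.hPn p p.2 f⟩) (fun p q =>
    Subtype.ext (by
      show f * ((p : Q) * q) * f = f * p * f * (f * q * f)
      rw [show f * p * f * (f * q * f) = f * p * (f * f) * q * f by simp only [mul_assoc], hff, mul_one]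
      simp only [mul_assoc]))
  have hαα : ∀ p, α (α p) = p := fun p => Subtype.ext (by
    show f * (f * p * f) * f = (p : Q)
    rw [show f * (f * p * f) * f = (f * f) * p * (f * f) by simp only [mul_assoc], hff, one_mul, mul_one])
  have hαv : ∀ p, ((α p : ↥S.P) : Q) = f * p * f := fun p => rfl
  have hαc : ∀ z : ↥S.P, (∀ p, z * p = p * z) → α z = z := fun z hz => Subtype.ext (hfix f hf z hz)
  set w := w₀⁻¹ * α w₀ with hwdef
  have hwi : α w = w⁻¹ := by rw [hwdef, map_mul, map_inv, hαα, mul_inv_rev, inv_inv]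
  have hwiQ : f * w * f = (w : Q)⁻¹ := congrArg Subtype.val hwi
  have hw1 : w ≠ 1 := fun h => hfw (by
    rw [← hαv, ← inv_mul_eq_one.1 h])
  have hw3 := cube S hf hwiQ
  have hwc : ∀ p q, (w * p * w⁻¹ * p⁻¹) * q = q * (w * p * w⁻¹ * p⁻¹) := by
    -- both `w₀⁻¹` and `α w₀` are central modulo the centre
    let Z2 := (Subgroup.center (↥S.P ⧸ Subgroup.center ↥S.P)).comap (QuotientGroup.mk' (Subgroup.center ↥S.P))
    have hZ2 : ∀ u : ↥S.P, u ∈ Z2 ↔ ∀ p q, (u * p * u⁻¹ * p⁻¹) * q = q * (u * p * u⁻¹ * p⁻¹) := by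
      intro u
      show (u : ↥S.P ⧸ Subgroup.center ↥S.P) ∈ Subgroup.center _ ↔ _
      rw [Subgroup.mem_center_iff]
      constructor
      · intro h p q
        refine (Subgroup.mem_center_iff.1 ((QuotientGroup.eq_one_iff _).1 ?_) q).symm
        rw [QuotientGroup.mk_mul, QuotientGroup.mk_mul, QuotientGroup.mk_mul, ← h (p : ↥S.P ⧸ _),
          QuotientGroup.mk_inv, QuotientGroup.mk_inv]
        group
      · intro h p'
        obtain ⟨p, rfl⟩ := QuotientGroup.mk_surjective p'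
        have h1 : ((u * p * u⁻¹ * p⁻¹ : ↥S.P) : ↥S.P ⧸ Subgroup.center ↥S.P) = 1 :=
          (QuotientGroup.eq_one_iff _).2 (Subgroup.mem_center_iff.2 fun q => (h p q).symm)
        simp only [QuotientGroup.mk_mul, QuotientGroup.mk_inv, mul_inv_eq_one, mul_inv_eq_iff_eq_mul, one_mul] at h1
        exact h1.symm
    refine (hZ2 w).1 (mul_mem (inv_mem ((hZ2 w₀).2 hw₀)) ((hZ2 _).2 fun p q => ?_))
    have h := congrArg α (hw₀ (α p) (α q))
    simpa only [map_mul, map_inv, hαα] using h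
  set φ : ↥S.P → ↥S.P := fun p => w * p * w⁻¹ * p⁻¹ with hφ
  have hφc : ∀ p q, φ p * q = q * φ p := hwc
  have hφmul : ∀ p q, φ (p * q) = φ p * φ q := by
    intro p q
    show w * (p * q) * w⁻¹ * (p * q)⁻¹ = _
    calc _ = (w * p * w⁻¹) * (φ q * p⁻¹) := by simp only [hφ]; group
      _ = (w * p * w⁻¹) * (p⁻¹ * φ q) := by rw [hφc q p⁻¹]
      _ = _ := by simp only [hφ]; group
  have hwp : ∀ p, w * p = φ p * (p * w) := fun p => by simp only [hφ]; group
  have hφ3 : ∀ p, φ p ^ 3 = 1 := by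
    intro p
    have h1 : w * p * w⁻¹ = φ p * p := by rw [hwp]; group
    have hn : ∀ n : ℕ, w ^ n * p * (w ^ n)⁻¹ = φ p ^ n * p := by
      intro n
      induction n with
      | zero => simp
      | succ n ih =>
        rw [pow_succ' w, mul_inv_rev, show w * w ^ n * p * ((w ^ n)⁻¹ * w⁻¹) = w * (w ^ n * p * (w ^ n)⁻¹) * w⁻¹ by group,
          ih, show w * (φ p ^ n * p) * w⁻¹ = (w * φ p ^ n) * (p * w⁻¹) by group,
          ((show Commute (φ p) w from hφc p w).pow_left n).symm.eq, mul_assoc, show w * (p * w⁻¹) = w * p * w⁻¹ by group,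
          h1, ← mul_assoc, ← pow_succ]
    have h := hn 3
    rw [hw3, one_mul, inv_one, mul_one, eq_comm, mul_eq_right] at h
    exact h
  have hφα : ∀ p, φ (α p) = (φ p)⁻¹ := by
    intro p
    have h : α (φ p) = φ p := hαc _ (hφc p)
    have h2 : φ p = w⁻¹ * α p * w * (α p)⁻¹ := by
      conv_lhs => rw [← h]
      simp only [hφ, map_mul, map_inv, hwi, inv_inv]
    have h3 : Commute (φ p) w := hφc p w
    have h4 : φ (α p) = (w * φ p * w⁻¹)⁻¹ := by rw [h2]; simp only [hφ]; group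
    rw [h4, h3.symm.eq, mul_inv_cancel_right]
  have hinv : ∀ p, f * ((p * (α p)⁻¹ : ↥S.P) : Q) * f = ((p * (α p)⁻¹ : ↥S.P) : Q)⁻¹ := fun p => by
    have h : α (p * (α p)⁻¹) = (p * (α p)⁻¹)⁻¹ := by rw [map_mul, map_inv, hαα, mul_inv_rev, inv_inv]
    exact congrArg Subtype.val h
  -- the image of `φ` is cyclic
  have hE : ∀ p q, φ p ≠ 1 → φ q ∈ Subgroup.zpowers (φ p) := by
    intro p₁ p₂ hp1
    by_contra hp2
    refine hw1 (trivial_of_central S ?_)
    haveI : S.π.ker.Normal := inferInstance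
    have hnK : ∀ g : H, g ∈ Subgroup.normalizer (S.π.ker : Set H) := fun g => by
      rw [Subgroup.normalizer_eq_top_iff.2 inferInstance]; trivial
    have hW : ∀ r, φ r ≠ 1 → S.π.ker ⊓ Subgroup.centralizer {S.s (φ r)} ≤ Subgroup.centralizer {S.s w} := by
      intro r hr
      set y := (r * r) * (α (r * r))⁻¹ with hy
      set c := φ r with hc
      have hc3 : c ^ 3 = 1 := hφ3 r
      have hφy : φ y = c := by
        have hinv' : φ ((α (r * r))⁻¹) = φ (r * r) := by
          have h := hφmul ((α (r * r))⁻¹) (α (r * r))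
          rw [inv_mul_cancel, show φ 1 = 1 by simp [hφ], hφα] at h
          exact mul_inv_eq_one.1 h.symm
        rw [hy, hφmul, hinv', hφmul, ← hc]
        calc c * c * (c * c) = c ^ 3 * c := by simp only [pow_succ, pow_zero, one_mul, mul_assoc]
          _ = c := by rw [hc3, one_mul]
      have hyi := hinv (r * r)
      rw [← hy] at hyi
      have hy3 := cube S hf hyi
      have hcw : Commute c w := hφc r w
      have hcy : Commute c y := hφc r y
      set W := S.π.ker ⊓ Subgroup.centralizer {S.s c} with hWdef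
      have hnW : ∀ z, Commute c z → S.s z ∈ Subgroup.normalizer (W : Set H) := by
        intro z hz
        have h1 : Commute (S.s z) (S.s c) := (hz.map S.s).symm
        refine Subgroup.mem_normalizer_iff.2 fun g => ⟨fun hg => ⟨(Subgroup.mem_normalizer_iff.1 (hnK _) g).1 hg.1,
          Subgroup.mem_centralizer_singleton_iff.2 ?_⟩, fun hg => ⟨(Subgroup.mem_normalizer_iff.1 (hnK _) g).2 hg.1,
          Subgroup.mem_centralizer_singleton_iff.2 ?_⟩⟩
        · have h2 : Commute g (S.s c) := Subgroup.mem_centralizer_singleton_iff.1 hg.2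
          exact ((h1.mul_left h2).mul_left h1.inv_left).eq
        · have h2 : Commute (S.s z * g * (S.s z)⁻¹) (S.s c) := Subgroup.mem_centralizer_singleton_iff.1 hg.2
          have h3 := (h1.inv_left.mul_left h2).mul_left h1
          rwa [show (S.s z)⁻¹ * (S.s z * g * (S.s z)⁻¹) * S.s z = g by group] at h3
      have hcW : ∀ g ∈ W, Commute (S.s c) g := fun g hg =>
        (show Commute g (S.s c) from Subgroup.mem_centralizer_singleton_iff.1 hg.2).symm
      refine le_of_pair (T := Subgroup.centralizer {S.s w}) (S.hker.to_le inf_le_left) (hnW y hcy) (hnW w hcw)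
        (by rw [← map_pow, hy3, map_one]) (by rw [← map_pow, hw3, map_one]) ?_ ?_ inf_le_right
      · intro g hg
        have hwy : w * y = c * (y * w) := by rw [hwp, hφy]
        rw [← map_mul, ← map_mul, hwy, map_mul _ c]
        have h1 : S.s (y * w) * g * (S.s (y * w))⁻¹ ∈ W :=
          (Subgroup.mem_normalizer_iff.1 (hnW _ (hcy.mul_right hcw)) g).1 hg
        rw [show S.s c * S.s (y * w) * g * (S.s c * S.s (y * w))⁻¹ =
          S.s c * (S.s (y * w) * g * (S.s (y * w))⁻¹) * (S.s c)⁻¹ by group, (hcW _ h1).eq, mul_inv_cancel_right]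
      · intro i g hg
        set u := y * w ^ i * c ^ (2 * i) with hu
        have hwy : w * y = c * (y * w) := by rw [hwp, hφy]
        have hwiy : ∀ n : ℕ, w ^ n * y = c ^ n * (y * w ^ n) := by
          intro n
          induction n with
          | zero => simp
          | succ n ih =>
            rw [pow_succ w, mul_assoc, hwy, ← mul_assoc, ← (hcw.pow_right n).eq, mul_assoc, ← mul_assoc (w ^ n), ih,
              pow_succ' c]
            simp only [mul_assoc]
        have hui : f * u * f = (u : Q)⁻¹ := by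
          refine congrArg Subtype.val (show α u = u⁻¹ from ?_)
          have hαy : α y = y⁻¹ := Subtype.ext hyi
          have hαc' : α c = c := hαc _ (hφc r)
          rw [hu, map_mul, map_mul, map_pow, map_pow, hαy, hwi, hαc', inv_pow, eq_inv_iff_mul_eq_one]
          calc y⁻¹ * (w ^ i)⁻¹ * c ^ (2 * i) * (y * w ^ i * c ^ (2 * i))
              = (w ^ i * y)⁻¹ * (y * w ^ i) * (c ^ (2 * i) * c ^ (2 * i)) := by
                rw [mul_inv_rev (w ^ i) y, show y⁻¹ * (w ^ i)⁻¹ * c ^ (2 * i) * (y * w ^ i * c ^ (2 * i)) =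
                  y⁻¹ * (w ^ i)⁻¹ * (c ^ (2 * i) * (y * w ^ i)) * c ^ (2 * i) by simp only [mul_assoc],
                  ((show Commute c (y * w ^ i) from hφc r _).pow_left (2 * i)).eq]
                simp only [mul_assoc]
            _ = (c ^ i)⁻¹ * c ^ (i + 3 * i) := by
                rw [hwiy, ← (((hcy.mul_right (hcw.pow_right i))).pow_left i).symm.eq, mul_inv_rev,
                  show (c ^ i)⁻¹ * (y * w ^ i)⁻¹ * (y * w ^ i) = (c ^ i)⁻¹ by group, ← pow_add]
                congr 2; ring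
            _ = 1 := by rw [pow_add, pow_mul, hc3, one_pow, mul_one, inv_mul_cancel]
        have hφu : φ u = c := by
          have hφw : ∀ n : ℕ, φ (w ^ n) = 1 := fun n => by
            simp only [hφ]; rw [← pow_succ', pow_succ, mul_inv_cancel_right, mul_inv_cancel]
          have hφc' : ∀ n : ℕ, φ (c ^ n) = 1 := fun n => by
            simp only [hφ]; rw [((show Commute c w from hcw).pow_left n).symm.eq, mul_inv_cancel_right, mul_inv_cancel]
          rw [hu, hφmul, hφmul, hφw, hφc', mul_one, mul_one, hφy]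
        clear_value u
        have hu1 : u ≠ 1 := fun h => hr (by rw [← hφu, h]; simp [hφ])
        have hu2 : u * c ≠ 1 := fun h => hr (by
          have h' : φ (u * c) = c := by
            rw [hφmul, hφu]; simp only [hφ]; rw [hcw.symm.eq, mul_inv_cancel_right, mul_inv_cancel, mul_one]
          rw [← h', h]; simp [hφ])
        have hX : ∀ g ∈ W ⊓ Subgroup.centralizer {S.s y * S.s w ^ i}, Commute g (S.s (y * w ^ i)) := fun g hg => by
          rw [map_mul, map_pow]; exact Subgroup.mem_centralizer_singleton_iff.1 hg.2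
        refine Subgroup.mem_centralizer_singleton_iff.2 (fixes S hf hu1 hu2 hw3 hui hwiQ ?_
          (W ⊓ Subgroup.centralizer {S.s y * S.s w ^ i}) (inf_le_left.trans inf_le_left) ?_ ?_ ?_ g hg).symm
        · have hφuc : w * u = c * (u * w) := by rw [hwp, hφu]
          have hu' : w⁻¹ * u⁻¹ * w = u⁻¹ * c := by
            rw [show w⁻¹ * u⁻¹ * w = (u * w)⁻¹ * w by group]
            have : u * w = c⁻¹ * (w * u) := by rw [hφuc]; group
            rw [this]
            have hcu : Commute c u⁻¹ := (show Commute c u from hφc r u).inv_right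
            rw [show (c⁻¹ * (w * u))⁻¹ * w = u⁻¹ * (w⁻¹ * c * w) by group, hcw.inv_right.symm.eq, inv_mul_cancel_right]
          have hcf : f * c * f = (c : Q) := hfix f hf c (hφc r)
          have hL : f * w * (u * c : ↥S.P) * (f * w) = ((w⁻¹ * u⁻¹ * w * c : ↥S.P) : Q) := by
            push_cast
            have h1 : f * ((w : Q) * u * c) * f = (f * w * f) * (f * u * f) * (f * c * f) := by
              simp only [mul_assoc]; rw [← mul_assoc f f, hff, one_mul, ← mul_assoc f f, hff, one_mul]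
            calc f * (w : Q) * (u * c) * (f * w) = f * ((w : Q) * u * c) * f * w := by simp only [mul_assoc]
              _ = _ := by
                rw [h1, hwiQ, hui, hcf, mul_assoc _ (c : Q) (w : Q),
                  (show Commute (c : Q) w from congrArg Subtype.val hcw.eq).eq]
                simp only [mul_assoc]
          rw [hL, hu']
          refine congrArg Subtype.val (show u⁻¹ * c * c = (u * c)⁻¹ from ?_)
          rw [mul_inv_rev, ((show Commute c u from hφc r u).inv_left.inv_right).eq, mul_assoc,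
            show c * c = c⁻¹ from eq_inv_of_mul_eq_one_left (by rw [← pow_two, ← pow_succ, hc3])]
        · intro g hg
          refine Subgroup.mem_centralizer_singleton_iff.2 ?_
          have h2 : Commute g (S.s c) := (hcW g hg.1).symm
          rw [hu, map_mul, map_pow]
          exact ((hX g hg).mul_right (h2.pow_right _)).eq
        · intro g hg
          refine Subgroup.mem_centralizer_singleton_iff.2 ?_
          have h2 : Commute g (S.s c) := (hcW g hg.1).symm
          rw [map_mul, hu, map_mul, map_pow]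
          exact (((hX g hg).mul_right (h2.pow_right _)).mul_right h2).eq
        · have hN := hnW w hcw
          have hcy' : Commute c (y * w ^ i) := hcy.mul_right (hcw.pow_right i)
          have e : w⁻¹ * (y * w ^ i) * w = c⁻¹ * (y * w ^ i) := by
            have h : y * w = c⁻¹ * (w * y) := by rw [hwy]; group
            calc w⁻¹ * (y * w ^ i) * w = w⁻¹ * (y * w) * w ^ i := by
                  simp only [mul_assoc]; rw [← pow_succ, pow_succ']
              _ = c⁻¹ * (y * w ^ i) := by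
                  rw [h, ← mul_assoc w⁻¹, hcw.inv_left.inv_right.symm.eq]; group
          have e' : w * (y * w ^ i) * w⁻¹ = c * (y * w ^ i) := by
            rw [show w * (y * w ^ i) * w⁻¹ = (w * y) * (w ^ i * w⁻¹) by group, hwy,
              show c * (y * w) * (w ^ i * w⁻¹) = c * (y * (w * w ^ i) * w⁻¹) by group, ← pow_succ', pow_succ]
            group
          refine Subgroup.mem_normalizer_iff.2 fun g => ⟨fun hg => ?_, fun hg => ?_⟩
          · refine ⟨(Subgroup.mem_normalizer_iff.1 hN g).1 hg.1, Subgroup.mem_centralizer_singleton_iff.2 ?_⟩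
            have hgW : S.s w * g * (S.s w)⁻¹ ∈ W := (Subgroup.mem_normalizer_iff.1 hN g).1 hg.1
            have h1 := (hX g hg).map (MulAut.conj (S.s w))
            rw [MulAut.conj_apply, MulAut.conj_apply, ← map_inv, ← map_mul, ← map_mul, e', map_mul _ c] at h1
            have h2 := (hcW _ hgW).symm.inv_right.mul_right (map_inv S.s w ▸ h1)
            rw [inv_mul_cancel_left] at h2
            rw [← map_pow, ← map_mul]
            exact h2.eq
          · refine ⟨(Subgroup.mem_normalizer_iff.1 hN g).2 hg.1, Subgroup.mem_centralizer_singleton_iff.2 ?_⟩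
            have hgW : g ∈ W := (Subgroup.mem_normalizer_iff.1 hN g).2 hg.1
            have h1 := (hX _ hg).map (MulAut.conj (S.s w)⁻¹)
            rw [MulAut.conj_apply, MulAut.conj_apply, inv_inv,
              show (S.s w)⁻¹ * (S.s w * g * (S.s w)⁻¹) * S.s w = g by group, ← map_inv, ← map_mul, ← map_mul, e,
              map_mul _ c⁻¹, map_inv] at h1
            have h2 := (hcW _ hgW).symm.mul_right h1
            rw [mul_inv_cancel_left] at h2
            rw [← map_pow, ← map_mul]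
            exact h2.eq
    refine le_of_pair (u := S.s (φ p₂)) (v := S.s (φ p₁)) (T := Subgroup.centralizer {S.s w}) S.hker (hnK _) (hnK _)
      (by rw [← map_pow, hφ3, map_one]) (by rw [← map_pow, hφ3, map_one])
      (fun g _ => by rw [← map_mul, ← map_mul, hφc p₂ (φ p₁)]) (fun i => ?_) (hW p₁ hp1)
    have hpow : ∀ n : ℕ, φ (p₁ ^ n) = φ p₁ ^ n := by
      intro n
      induction n with
      | zero => simp [hφ]
      | succ n ih => rw [pow_succ, hφmul, ih, pow_succ]
    rw [← map_pow, ← map_mul, ← hpow, ← hφmul]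
    refine hW _ fun h => hp2 ?_
    rw [hφmul, hpow] at h
    rw [eq_inv_of_mul_eq_one_left h]
    exact inv_mem (pow_mem (Subgroup.mem_zpowers _) i)
  obtain ⟨p₁, hp₁⟩ : ∃ p₁, ∀ p, ∃ i : Fin 3, φ p = φ (p₁ ^ i.val) := by
    have hpow : ∀ p, ∀ n : ℕ, φ (p ^ n) = φ p ^ n := fun p n => by
      induction n with
      | zero => simp [hφ]
      | succ n ih => rw [pow_succ, hφmul, ih, pow_succ]
    by_cases h1 : ∀ p, φ p = 1
    · exact ⟨1, fun p => ⟨0, by rw [h1]; simp [hφ]⟩⟩
    push Not at h1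
    obtain ⟨p₁, hp⟩ := h1
    refine ⟨p₁, fun p => ?_⟩
    obtain ⟨n, hn⟩ := hE p₁ p hp
    refine ⟨⟨(n % 3).toNat, by omega⟩, ?_⟩
    rw [hpow, ← hn, ← zpow_natCast, zpow_eq_zpow_iff_modEq, orderOf_eq_prime (hφ3 p₁) hp,
      Int.toNat_of_nonneg (Int.emod_nonneg _ (by norm_num))]
    exact (Int.mod_modEq n 3).symm
  let F : Fin 3 × Fin 3 → {q : Q // orderOf q = 2} := fun ij =>
    ⟨((p₁ ^ ij.1.val : ↥S.P) : Q) * (((w ^ ij.2.val : ↥S.P) : Q) * f) * ((p₁ ^ ij.1.val : ↥S.P) : Q)⁻¹, by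
      rw [← MulAut.conj_apply, MulEquiv.orderOf_eq]
      have h := prod_invol S hf (w ^ ij.2.val)⁻¹.2 (by
        push_cast
        have := map_inv (MulAut.conj f) ((w : Q) ^ ij.2.val)
        rw [map_pow, MulAut.conj_apply, MulAut.conj_apply, hfi hf, hwiQ, inv_pow] at this
        exact this)
      rw [← orderOf_inv, mul_inv_rev, hfi hf]
      push_cast at h ⊢
      exact h⟩
  refine card_le_of_surj F (fun g => ?_) 9 (by simp)
  obtain ⟨p, hg, -, -⟩ := hconjI f g.1 hf g.2
  obtain ⟨i, hi⟩ := hp₁ p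
  set k := (p₁ ^ i.val)⁻¹ * p with hk
  have hφk : φ k = 1 := by
    have h := hφmul (p₁ ^ i.val) k
    rw [hk, mul_inv_cancel_left, ← hk, hi] at h
    exact left_eq_mul.1 h
  have hφy : φ (k * (α k)⁻¹) = 1 := by
    have h := hφmul (k * (α k)⁻¹) (α k)
    rw [inv_mul_cancel_right, hφk, hφα, hφk, inv_one, mul_one] at h
    exact h.symm
  obtain ⟨n, hn⟩ := inverted_comm S hf hw1 hwiQ (hinv k) (by rw [hwp, hφy, one_mul])
  refine ⟨(i, ⟨(n % 3).toNat, by omega⟩), Subtype.ext ?_⟩
  show ((p₁ ^ i.val : ↥S.P) : Q) * (((w ^ (n % 3).toNat : ↥S.P) : Q) * f) * ((p₁ ^ i.val : ↥S.P) : Q)⁻¹ = g.1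
  have hwn : (w ^ (n % 3).toNat : ↥S.P) = k * (α k)⁻¹ := by
    rw [← hn, ← zpow_natCast, zpow_eq_zpow_iff_modEq, orderOf_eq_prime hw3 hw1,
      Int.toNat_of_nonneg (Int.emod_nonneg _ (by norm_num))]
    exact Int.mod_modEq n 3
  rw [hwn, hg, show p = p₁ ^ i.val * k from (mul_inv_cancel_left _ _).symm]
  push_cast
  rw [hαv, mul_inv_rev, mul_inv_rev, mul_inv_rev, hfi hf]
  simp only [mul_assoc]
  rw [← mul_assoc (f : Q) f, hff, one_mul]

end CfsgLib.Spor.TwoThreeTwo
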