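import Cfsg.Agent.Spor.Fischer.SUThreeDerived
import Cfsg.Agent.Spor.Fischer.TwoThreeTwo

set_option autoImplicit false

namespace CfsgLib.Spor.TwoThreeTwo

open scoped Pointwise
open CfsgLib.Spor.SUThreeLift (cubes_core sq_of)

/-- generators and relations of `3²:2`-like groups of order at most `54` -/
structure Rels {G : Type*} [Group G] (a x y : G) : Prop where
  ha : a * a = 1
  hax : a * x * a = x⁻¹
  hay : a * y * a = y⁻¹
  hx : x ^ 3 = 1
  hy : y ^ 3 = 1
  h1 : (x * y) ^ 3 = 1
  h2 : (x * y⁻¹) ^ 3 = 1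

def gen {G : Type*} [Group G] (a x y : G) : Subgroup G :=
  Subgroup.closure ({x, y} : Set G) ⊔ Subgroup.zpowers a

theorem normalizes {G : Type*} [Group G] {a x y : G} (h : Rels a x y) :
    Subgroup.zpowers a ≤ Subgroup.normalizer (Subgroup.closure ({x, y} : Set G) : Set G) := by
  set M := Subgroup.closure ({x, y} : Set G) with hMdef
  have hai : a⁻¹ = a := inv_eq_of_mul_eq_one_left h.ha
  have hle : M.map (MulAut.conj a).toMonoidHom ≤ M := by
    rw [hMdef, MonoidHom.map_closure, Subgroup.closure_le]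
    rintro _ ⟨t, ht, rfl⟩
    rcases ht with rfl | rfl
    · rw [MulEquiv.coe_toMonoidHom, MulAut.conj_apply, hai, h.hax]
      exact inv_mem (Subgroup.subset_closure (by simp))
    · rw [MulEquiv.coe_toMonoidHom, MulAut.conj_apply, hai, h.hay]
      exact inv_mem (Subgroup.subset_closure (by simp))
  refine Subgroup.zpowers_le.2 (Subgroup.mem_normalizer_iff.2 fun t => ⟨fun ht => ?_, fun ht => ?_⟩)
  · exact hle ⟨t, ht, rfl⟩
  · have : a * (a * t * a⁻¹) * a⁻¹ = t := by
      rw [hai, ← mul_assoc, ← mul_assoc, h.ha, one_mul, mul_assoc, h.ha, mul_one]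
    rw [← this]; exact hle ⟨_, ht, rfl⟩

theorem gen_card_le {G : Type*} [Group G] [Finite G] {a x y : G} (h : Rels a x y) :
    Nat.card ↥(gen a x y) ≤ 54 ∧ (x = y → Nat.card ↥(gen a x y) ≤ 6) := by
  have hM := (cubes_core x y h.hx h.hy h.h1 h.h2).2
  have ha2 : Nat.card (Subgroup.zpowers a) ≤ 2 := by
    rw [Nat.card_zpowers]
    exact Nat.le_of_dvd (by omega) (orderOf_dvd_of_pow_eq_one (by rw [pow_two, h.ha]))
  have hle : Nat.card ↥(gen a x y) ≤ Nat.card (Subgroup.closure ({x, y} : Set G)) * Nat.card (Subgroup.zpowers a) := by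
    calc Nat.card ↥(gen a x y) = Nat.card (((Subgroup.closure ({x, y} : Set G) : Set G) *
        (Subgroup.zpowers a : Set G) : Set G)) := by
          rw [← Subgroup.coe_mul_of_right_le_normalizer_left _ _ (normalizes h)]; rfl
      _ ≤ _ := Set.natCard_mul_le
  refine ⟨le_trans hle (le_trans (Nat.mul_le_mul hM ha2) (by norm_num)), fun hxy => ?_⟩
  have h3 : Nat.card (Subgroup.closure ({x, y} : Set G)) ≤ 3 := by
    rw [← hxy, Set.pair_eq_singleton, ← Subgroup.zpowers_eq_closure, Nat.card_zpowers]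
    exact Nat.le_of_dvd (by omega) (orderOf_dvd_of_pow_eq_one h.hx)
  exact le_trans hle (le_trans (Nat.mul_le_mul h3 ha2) (by norm_num))

theorem gen_card_ge {G : Type*} [Group G] [Finite G] {a x y : G} (h : Rels a x y) (ha1 : a ≠ 1) :
    (x ≠ 1 → 6 ≤ Nat.card ↥(gen a x y)) ∧ (x * y ≠ y * x → 54 ≤ Nat.card ↥(gen a x y)) := by
  haveI : Fact (Nat.Prime 3) := ⟨Nat.prime_three⟩
  haveI : Fact (Nat.Prime 2) := ⟨Nat.prime_two⟩
  have h2 : 2 ∣ Nat.card ↥(gen a x y) := by
    rw [← show Nat.card (Subgroup.zpowers a) = 2 by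
      rw [Nat.card_zpowers]; exact orderOf_eq_prime (by rw [pow_two, h.ha]) ha1]
    exact Subgroup.card_dvd_of_le le_sup_right
  obtain ⟨hM, hM27⟩ := cubes_core x y h.hx h.hy h.h1 h.h2
  have hd : Nat.card (Subgroup.closure ({x, y} : Set G)) ∣ Nat.card ↥(gen a x y) := Subgroup.card_dvd_of_le le_sup_left
  refine ⟨fun hx1 => Nat.le_of_dvd Nat.card_pos ?_, fun hxy => Nat.le_of_dvd Nat.card_pos ?_⟩
  · have h3 : 3 ∣ Nat.card ↥(gen a x y) := by
      rw [← orderOf_eq_prime h.hx hx1, ← Nat.card_zpowers]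
      exact Subgroup.card_dvd_of_le (Subgroup.zpowers_le.2 (Subgroup.mem_sup_left (Subgroup.subset_closure (by simp))))
    omega
  · obtain ⟨n, hn⟩ := IsPGroup.iff_card.1 hM
    have hn3 : 3 ≤ n := by
      by_contra hlt
      refine hxy ?_
      set M := Subgroup.closure ({x, y} : Set G) with hMdef
      have hc : ∀ p q : M, p * q = q * p := by
        interval_cases n
        · have : Subsingleton M := (Nat.card_eq_one_iff_unique.1 (by simpa using hn)).1
          exact fun p q => Subsingleton.elim _ _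
        · haveI := isCyclic_of_prime_card (α := M) (p := 3) (by simpa using hn)
          exact IsCyclic.commGroup.mul_comm
        · exact fun p q => (IsPGroup.commGroupOfCardEqPrimeSq (p := 3) hn).mul_comm p q
      exact congrArg Subtype.val (hc ⟨x, Subgroup.subset_closure (by simp)⟩ ⟨y, Subgroup.subset_closure (by simp)⟩)
    have hn' : n = 3 := by
      rw [hn] at hM27
      exact le_antisymm ((Nat.pow_le_pow_iff_right (by norm_num : 1 < 3)).1 (le_trans hM27 (by norm_num))) hn3
    rw [hn, hn'] at hd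
    omega

theorem iso_of {Q R : Type*} [Group Q] [Finite Q] [Group R] [Finite R] {a x y : Q} {a' x' y' : R}
    (h : Rels a x y) (h' : Rels a' x' y') (hQ : gen a x y = ⊤) (hR : gen a' x' y' = ⊤)
    (hle : ∀ L : Nat, L = Nat.card ↥(gen (a, a') (x, x') (y, y')) → L ≤ Nat.card Q ∧ L ≤ Nat.card R) :
    Nonempty (Q ≃* R) := by
  set L := gen (a, a') (x, x') (y, y') with hL
  obtain ⟨h1, h2⟩ := hle _ rfl
  have hs1 : L.map (MonoidHom.fst Q R) = ⊤ := by
    rw [hL, gen, Subgroup.map_sup, MonoidHom.map_closure, MonoidHom.map_zpowers, ← hQ, gen, Set.image_pair]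
    rfl
  have hs2 : L.map (MonoidHom.snd Q R) = ⊤ := by
    rw [hL, gen, Subgroup.map_sup, MonoidHom.map_closure, MonoidHom.map_zpowers, ← hR, gen, Set.image_pair]
    rfl
  have b1 : Function.Bijective ((MonoidHom.fst Q R).comp L.subtype) := by
    have hs : Function.Surjective ((MonoidHom.fst Q R).comp L.subtype) := fun q => by
      obtain ⟨p, hp, hpq⟩ := hs1.ge (Subgroup.mem_top q)
      exact ⟨⟨p, hp⟩, hpq⟩
    exact (Nat.bijective_iff_surjective_and_card _).2 ⟨hs, le_antisymm h1 (Nat.card_le_card_of_surjective _ hs)⟩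
  have b2 : Function.Bijective ((MonoidHom.snd Q R).comp L.subtype) := by
    have hs : Function.Surjective ((MonoidHom.snd Q R).comp L.subtype) := fun q => by
      obtain ⟨p, hp, hpq⟩ := hs2.ge (Subgroup.mem_top q)
      exact ⟨⟨p, hp⟩, hpq⟩
    exact (Nat.bijective_iff_surjective_and_card _).2 ⟨hs, le_antisymm h2 (Nat.card_le_card_of_surjective _ hs)⟩
  exact ⟨(MulEquiv.ofBijective _ b1).symm.trans (MulEquiv.ofBijective _ b2)⟩

theorem rels_prod {Q R : Type*} [Group Q] [Group R] {a x y : Q} {a' x' y' : R} (h : Rels a x y) (h' : Rels a' x' y') :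
    Rels (a, a') (x, x') (y, y') :=
  ⟨Prod.ext h.ha h'.ha, Prod.ext h.hax h'.hax, Prod.ext h.hay h'.hay, Prod.ext h.hx h'.hx, Prod.ext h.hy h'.hy,
    Prod.ext h.h1 h'.h1, Prod.ext h.h2 h'.h2⟩

variable {H Q : Type*} [Group H] [Finite H] [Group Q] [Finite Q]

theorem identify (S : Setup H Q) (f₀ f₁ : Q) (hf₀ : orderOf f₀ = 2) (hf₁ : orderOf f₁ = 2) (hne : f₀ ≠ f₁) :
    Nonempty (Q ≃* Equiv.Perm (Fin 3)) ∨ ∀ (F : Type) [Field F] [Fintype F], Fintype.card F = 4 →
      Nonempty (Q ≃* ↥(commutator ↥(Cfsg.SU 3 F 2))) := by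
  classical
  have hfi : ∀ {f : Q}, orderOf f = 2 → f⁻¹ = f := fun h => inv_eq_of_mul_eq_one_left (sq_of h)
  set a := f₀ with hadef
  have haa : a * a = 1 := sq_of hf₀
  have ha1 : a ≠ 1 := fun h => by rw [h, orderOf_one] at hf₀; omega
  have hinvert : ∀ b : Q, orderOf b = 2 → a * (a * b) * a = (a * b)⁻¹ := fun b hb => by
    rw [mul_inv_rev, hfi hb, hfi hf₀, ← mul_assoc, haa, one_mul]
  have hcube : ∀ b c : Q, orderOf b = 2 → orderOf c = 2 → (b * c) ^ 3 = 1 := fun b c hb hc =>
    congrArg Subtype.val (cube S hb (x := ⟨b * c, S.hin b c hb hc⟩)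
      (show b * (b * c) * b = (b * c)⁻¹ by rw [mul_inv_rev, hfi hb, hfi hc, ← mul_assoc, sq_of hb, one_mul]))
  have hord : ∀ (b : Q) (g : Q), orderOf b = 2 → orderOf (g * b * g⁻¹) = 2 := fun b g hb => by
    rw [← MulAut.conj_apply, MulEquiv.orderOf_eq, hb]
  have hrels : ∀ b c : Q, orderOf b = 2 → orderOf c = 2 → Rels a (a * b) (a * c) := by
    intro b c hb hc
    refine ⟨haa, hinvert b hb, hinvert c hc, hcube a b hf₀ hb, hcube a c hf₀ hc, ?_, ?_⟩
    · have habaO : orderOf (a * b * a) = 2 := by have := hord b a hb; rwa [hfi hf₀] at this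
      rw [← mul_assoc]; exact hcube _ c habaO hc
    · rw [mul_inv_rev, hfi hc, hfi hf₀, show a * b * (c * a) = a * (b * c) * a⁻¹ by
        rw [hfi hf₀]; simp only [mul_assoc], ← MulAut.conj_apply, ← map_pow, hcube b c hb hc, map_one]
  have htop : ∀ K : Subgroup Q, (∀ g : Q, orderOf g = 2 → g ∈ K) → K = ⊤ := fun K hK => by
    rw [eq_top_iff, ← S.hgen, Subgroup.closure_le]; exact hK
  have hmem : ∀ b c : Q, a ∈ gen a (a * b) (a * c) ∧ b ∈ gen a (a * b) (a * c) ∧ c ∈ gen a (a * b) (a * c) := by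
    intro b c
    have h0 : a ∈ gen a (a * b) (a * c) := Subgroup.mem_sup_right (Subgroup.mem_zpowers a)
    have hb : a * b ∈ gen a (a * b) (a * c) := Subgroup.mem_sup_left (Subgroup.subset_closure (by simp))
    have hc : a * c ∈ gen a (a * b) (a * c) := Subgroup.mem_sup_left (Subgroup.subset_closure (by simp))
    refine ⟨h0, ?_, ?_⟩
    · have := mul_mem h0 hb; rwa [← mul_assoc, haa, one_mul] at this
    · have := mul_mem h0 hc; rwa [← mul_assoc, haa, one_mul] at this
  set x := a * f₁ with hxdef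
  have hx1 : x ≠ 1 := fun h => hne (by
    have := eq_inv_of_mul_eq_one_left h; rw [hfi hf₁] at this; exact this)
  have hr := hrels f₁ f₁ hf₁ hf₁
  by_cases hc : ∀ g : Q, orderOf g = 2 → g ∈ gen a x x
  · left
    have hQ := htop _ hc
    have h6Q : 6 ≤ Nat.card Q := le_trans ((gen_card_ge hr ha1).1 hx1) (Subgroup.card_le_card_group _)
    let a' : Equiv.Perm (Fin 3) := Equiv.swap 0 1
    let x' : Equiv.Perm (Fin 3) := Equiv.swap 0 1 * Equiv.swap 1 2
    have hr' : Rels a' x' x' := ⟨by decide, by decide, by decide, by decide, by decide, by decide, by decide⟩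
    have hcP : Nat.card (Equiv.Perm (Fin 3)) = 6 := by
      rw [Nat.card_eq_fintype_card, Fintype.card_perm, Fintype.card_fin]; rfl
    have hR : gen a' x' x' = ⊤ := Subgroup.eq_top_of_le_card _ (by
      rw [hcP]; exact (gen_card_ge hr' (by decide)).1 (by decide))
    refine iso_of hr hr' hQ hR fun L hL => ?_
    have h6 := (gen_card_le (rels_prod hr hr')).2 rfl
    rw [hcP]
    omega
  · right
    intro F _ _ hF
    push Not at hc
    obtain ⟨c, hcO, hcK⟩ := hc
    have hK := hrels f₁ c hf₁ hcO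
    rw [← hxdef] at hK
    set y := a * c with hydef
    have hxy : x * y ≠ y * x := by
      intro hcomm
      have hy := inverted_comm S hf₀ (x := ⟨x, S.hin a f₁ hf₀ hf₁⟩) (y := ⟨y, S.hin a c hf₀ hcO⟩)
        (fun h => hx1 (congrArg Subtype.val h)) (hinvert f₁ hf₁) (hinvert c hcO) (Subtype.ext hcomm)
      obtain ⟨n, hn⟩ := hy
      refine hcK ?_
      have hyg : y ∈ gen a x x := by
        have : x ^ n = y := congrArg Subtype.val hn
        rw [← this]
        exact zpow_mem (Subgroup.mem_sup_left (Subgroup.subset_closure (by simp))) n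
      have := mul_mem (Subgroup.mem_sup_right (Subgroup.mem_zpowers a) : a ∈ gen a x x) hyg
      rwa [hydef, ← mul_assoc, haa, one_mul] at this
    set M := Subgroup.closure ({x, y} : Set Q) with hMdef
    have hM : IsPGroup 3 M := (cubes_core x y hK.hx hK.hy hK.h1 hK.h2).1
    have hQ : gen a x y = ⊤ := by
      refine htop _ fun d hd => ?_
      letI : MulAction ↥M Q := MulAction.compHom Q (MulAut.conj.comp M.subtype)
      have hact : ∀ (m : M) (q : Q), m • q = (m : Q) * q * (m : Q)⁻¹ := fun m q => rfl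
      have hbr : ∀ e : Q, orderOf e = 2 → (a * e) * a * (a * e)⁻¹ = e := by
        intro e he
        have h := hcube a e hf₀ he
        rw [pow_succ, pow_two] at h
        have h' : a * e * a * e * a = e⁻¹ := eq_inv_of_mul_eq_one_left (by simpa only [mul_assoc] using h)
        rw [hfi he] at h'
        rw [mul_inv_rev, hfi he, hfi hf₀]
        simpa only [mul_assoc] using h'
      have hxM : x ∈ M := Subgroup.subset_closure (by simp)
      have hyM : y ∈ M := Subgroup.subset_closure (by simp)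
      have hsub : ({a, f₁, a * f₁ * a, c} : Set Q) ⊆ MulAction.orbit ↥M a := by
        refine Set.insert_subset ?_ (Set.insert_subset ?_ (Set.insert_subset ?_ (Set.singleton_subset_iff.2 ?_)))
        · exact MulAction.mem_orbit_self _
        · exact ⟨⟨x, hxM⟩, hbr f₁ hf₁⟩
        · refine ⟨⟨x⁻¹, inv_mem hxM⟩, ?_⟩
          show x⁻¹ * a * x⁻¹⁻¹ = _
          have h := hbr f₁ hf₁
          rw [inv_inv, hxdef, mul_inv_rev, hfi hf₀, hfi hf₁,
            show f₁ * a * a * (a * f₁) = f₁ * (a * a) * (a * f₁) by simp only [mul_assoc], haa, mul_one]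
          have h3 := hcube a f₁ hf₀ hf₁
          rw [pow_succ, pow_two] at h3
          have h' : a * f₁ * a = (f₁ * a * f₁)⁻¹ := eq_inv_of_mul_eq_one_left (by simpa only [mul_assoc] using h3)
          rw [h', mul_inv_rev, mul_inv_rev, hfi hf₀, hfi hf₁]
        · exact ⟨⟨y, hyM⟩, hbr c hcO⟩
      have hg0 : a ∈ gen a x x := (hmem f₁ f₁).1
      have hg1 : f₁ ∈ gen a x x := (hmem f₁ f₁).2.1
      have h4 : ({a, f₁, a * f₁ * a, c} : Set Q).ncard = 4 := by
        have hca : a * f₁ * a ≠ c := fun h => hcK (h ▸ mul_mem (mul_mem hg0 hg1) hg0)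
        have hcb : f₁ ≠ c := fun h => hcK (h ▸ hg1)
        have hc0 : a ≠ c := fun h => hcK (h ▸ hg0)
        have e1 : a ≠ a * f₁ * a := fun h => hne (by
          have h' : a * f₁ = 1 := by
            have := congrArg (fun t => t * a) h
            simpa [mul_assoc, haa] using this.symm
          rw [eq_inv_of_mul_eq_one_left h', hfi hf₁])
        have e2 : f₁ ≠ a * f₁ * a := fun h => by
          have hcm : f₁ * a = a * f₁ := by
            conv_lhs => rw [h, mul_assoc, haa, mul_one]
          have h3 := hcube a f₁ hf₀ hf₁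
          rw [pow_succ, pow_two] at h3
          have : a * f₁ * (a * f₁) = 1 := by
            rw [← mul_assoc, mul_assoc a f₁ a, hcm, ← mul_assoc, haa, one_mul, sq_of hf₁]
          rw [this, one_mul] at h3
          exact hx1 h3
        rw [Set.ncard_insert_of_notMem, Set.ncard_insert_of_notMem, Set.ncard_pair hca]
        · rintro (h | h)
          · exact e2 h
          · exact hcb h
        · rintro (h | h | h)
          · exact hne h
          · exact e1 h
          · exact hc0 h
      obtain ⟨n, hn⟩ := (haveI : Fact (Nat.Prime 3) := ⟨Nat.prime_three⟩; hM.card_orbit a)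
      have hge : 4 ≤ Nat.card (MulAction.orbit ↥M a) := by
        rw [← h4, Nat.card_coe_set_eq]; exact Set.ncard_le_ncard hsub (Set.toFinite _)
      have hge9 : 9 ≤ Nat.card (MulAction.orbit ↥M a) := by
        rw [hn] at hge ⊢
        match n with
        | 0 => simp at hge
        | 1 => simp at hge
        | n + 2 => rw [pow_add]; exact Nat.le_mul_of_pos_left _ (pow_pos (by omega) _)
      have heq : MulAction.orbit ↥M a = {q : Q | orderOf q = 2} := by
        refine Set.eq_of_subset_of_ncard_le ?_ ?_ (Set.toFinite _)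
        · rintro q ⟨m, rfl⟩
          exact hord a _ hf₀
        · rw [← Nat.card_coe_set_eq, ← Nat.card_coe_set_eq]
          exact le_trans (nine_le S) hge9
      obtain ⟨m, hm⟩ : d ∈ MulAction.orbit ↥M a := by rw [heq]; exact hd
      rw [← hm]
      show (m : Q) * a * (m : Q)⁻¹ ∈ gen a x y
      exact mul_mem (mul_mem (Subgroup.mem_sup_left m.2) (Subgroup.mem_sup_right (Subgroup.mem_zpowers a)))
        (inv_mem (Subgroup.mem_sup_left m.2))
    obtain ⟨hR54, a', x', y', h1, h2, h3, h4, h5, h6, h7, h8, h9⟩ := CfsgLib.Spor.SUThreeLift.derived_gens hF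
    haveI : Finite ↥(commutator ↥(Cfsg.SU 3 F 2)) := inferInstance
    have hr' : Rels a' x' y' := ⟨h1, h3, h4, h5, h6, h7, h8⟩
    have h54 := (gen_card_ge hr' h2).2 h9
    have hR : gen a' x' y' = ⊤ := Subgroup.eq_top_of_le_card _ (le_trans hR54 h54)
    refine iso_of hK hr' hQ hR fun L hL => ?_
    have hP := (gen_card_le (rels_prod hK hr')).1
    have hA := le_trans ((gen_card_ge hK ha1).2 hxy) (Subgroup.card_le_card_group _)
    have hB := le_trans h54 (Subgroup.card_le_card_group _)
    omega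

end CfsgLib.Spor.TwoThreeTwo
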