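import Cfsg.Agent.Spor.Fischer.ExtraPairing
import Cfsg.Agent.Solv.Basic
import Mathlib

/-!
Groups generated by the extraspecial 2-cores attached to the involutions of a singular subgroup.
-/

set_option autoImplicit false
set_option linter.unusedSectionVars false

namespace CfsgLib.Fischer.Singular

variable {G : Type*} [Group G] [Finite G]

/-- the 2-core of an involution centraliser -/
def core (x : G) : Subgroup G :=
  (Cfsg.pCore 2 ↥(Subgroup.centralizer ({x} : Set G))).map (Subgroup.centralizer ({x} : Set G)).subtype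

theorem core_conj (g x : G) {q : G} (hq : q ∈ core x) : g * q * g⁻¹ ∈ core (g * x * g⁻¹) := by
  obtain ⟨p, hp, rfl⟩ := hq
  have hmem : ∀ y : G, y ∈ Subgroup.centralizer ({x} : Set G) ↔
      g * y * g⁻¹ ∈ Subgroup.centralizer ({g * x * g⁻¹} : Set G) := by
    intro y
    rw [Subgroup.mem_centralizer_singleton_iff, Subgroup.mem_centralizer_singleton_iff]
    constructor
    · intro h
      calc g * y * g⁻¹ * (g * x * g⁻¹) = g * (y * x) * g⁻¹ := by group
        _ = _ := by rw [h]; group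
    · intro h
      calc y * x = g⁻¹ * (g * y * g⁻¹ * (g * x * g⁻¹)) * g := by group
        _ = _ := by rw [h]; group
  let e : Subgroup.centralizer ({x} : Set G) ≃* Subgroup.centralizer ({g * x * g⁻¹} : Set G) :=
    { toFun := fun y => ⟨g * y * g⁻¹, (hmem y).1 y.2⟩
      invFun := fun y => ⟨g⁻¹ * y * g, (hmem _).2 (by simpa [mul_assoc] using y.2)⟩
      left_inv := fun y => Subtype.ext (by simp [mul_assoc])
      right_inv := fun y => Subtype.ext (by simp [mul_assoc])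
      map_mul' := fun y w => Subtype.ext (by simp [mul_assoc]) }
  exact ⟨e p, by rw [← CfsgLib.Solv.map_pCore_equiv (p := 2) e]; exact ⟨p, hp, rfl⟩, rfl⟩

theorem core_commute {x q : G} (hq : q ∈ core x) : Commute q x := by
  obtain ⟨p, -, rfl⟩ := hq
  exact Subgroup.mem_centralizer_singleton_iff.1 p.2

theorem self_mem_core {x : G} (hx : x * x = 1) : x ∈ core x := by
  have hxC : x ∈ Subgroup.centralizer ({x} : Set G) := Subgroup.mem_centralizer_singleton_iff.2 rfl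
  haveI : (Subgroup.zpowers (⟨x, hxC⟩ : Subgroup.centralizer ({x} : Set G))).Normal := by
    refine ⟨fun y hy g => ?_⟩
    obtain ⟨i, rfl⟩ := Subgroup.mem_zpowers_iff.1 hy
    have hg : g * (⟨x, hxC⟩ : Subgroup.centralizer ({x} : Set G)) * g⁻¹ = ⟨x, hxC⟩ := by
      rw [mul_inv_eq_iff_eq_mul]
      exact Subtype.ext (Subgroup.mem_centralizer_singleton_iff.1 g.2)
    rw [← conj_zpow, hg]
    exact ⟨i, rfl⟩
  refine ⟨⟨x, hxC⟩, CfsgLib.Solv.le_pCore (p := 2) ?_ (Subgroup.mem_zpowers _), rfl⟩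
  rintro ⟨y, i, rfl⟩
  refine ⟨1, Subtype.ext ?_⟩
  show ((⟨x, hxC⟩ : Subgroup.centralizer ({x} : Set G)) ^ i) ^ 2 ^ 1 = 1
  rw [← zpow_natCast, zpow_comm, zpow_natCast, pow_one, pow_two,
    show (⟨x, hxC⟩ : Subgroup.centralizer ({x} : Set G)) * ⟨x, hxC⟩ = 1 from Subtype.ext hx, one_zpow]

variable {z : G} (hz : orderOf z = 2) (hE : Cfsg.IsExtraspecial 2 ↥(core z))
include hz hE

theorem sq_z : z * z = 1 := by rw [← pow_two, ← hz]; exact pow_orderOf_eq_one z

theorem center_core {c : core z} (hc : c ∈ Subgroup.center (core z)) : (c : G) = 1 ∨ (c : G) = z := by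
  have hzc : (⟨z, self_mem_core (sq_z hz hE)⟩ : core z) ∈ Subgroup.center (core z) :=
    Subgroup.mem_center_iff.2 fun q => Subtype.ext (core_commute q.2).eq
  by_cases h1 : c = 1
  · exact Or.inl (congrArg Subtype.val h1)
  · refine Or.inr (congrArg (fun w : Subgroup.center (core z) => ((w : core z) : G))
      (Extra.center_cases hE ⟨c, hc⟩ ⟨_, hzc⟩ (fun k => h1 (congrArg Subtype.val k)) fun k => ?_))
    have : z = 1 := congrArg (fun w : Subgroup.center (core z) => ((w : core z) : G)) k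
    rw [this, orderOf_one] at hz
    omega

/-- two elements of one core commute up to the central involution -/
theorem conj_cases {u a x : G} (hu : ∃ g : G, g * z * g⁻¹ = u) (ha : a ∈ core u) (hx : x ∈ core u) :
    a * x * a⁻¹ = x ∨ a * x * a⁻¹ = x * u := by
  obtain ⟨g, rfl⟩ := hu
  have pull : ∀ y ∈ core (g * z * g⁻¹), g⁻¹ * y * g ∈ core z := fun y hy => by
    have := core_conj g⁻¹ _ hy
    simpa [mul_assoc] using this
  set a0 : core z := ⟨_, pull a ha⟩
  set x0 : core z := ⟨_, pull x hx⟩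
  have hc : x0⁻¹ * (a0 * x0 * a0⁻¹) ∈ Subgroup.center (core z) := by
    have h1 := Extra.comm_mem hE x0⁻¹ a0
    rw [commutatorElement_def, inv_inv] at h1
    rwa [show x0⁻¹ * (a0 * x0 * a0⁻¹) = x0⁻¹ * a0 * x0 * a0⁻¹ by group]
  rcases center_core hz hE hc with k | k
  · left
    simp only [Subgroup.coe_mul, Subgroup.coe_inv, a0, x0] at k
    rw [inv_mul_eq_one] at k
    calc a * x * a⁻¹ = g * (g⁻¹ * a * g * (g⁻¹ * x * g) * (g⁻¹ * a * g)⁻¹) * g⁻¹ := by group
      _ = x := by rw [← k]; group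
  · right
    simp only [Subgroup.coe_mul, Subgroup.coe_inv, a0, x0] at k
    rw [inv_mul_eq_iff_eq_mul] at k
    calc a * x * a⁻¹ = g * (g⁻¹ * a * g * (g⁻¹ * x * g) * (g⁻¹ * a * g)⁻¹) * g⁻¹ := by group
      _ = _ := by rw [k]; group

/-- an element of the core of `u` moving `x` to `x * u` and fixing `B` -/
theorem exists_move {u x : G} (hu : ∃ g : G, g * z * g⁻¹ = u) (B : Subgroup G) (hB : B ≤ core u)
    (hx : x ∈ core u) (hxB : ∀ b ∈ B, x ≠ b ∧ x ≠ b * u) :
    ∃ a ∈ core u, (∀ b ∈ B, Commute a b) ∧ a * x * a⁻¹ = x * u := by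
  obtain ⟨g, hg⟩ := hu
  have pull : ∀ y ∈ core u, g⁻¹ * y * g ∈ core z := fun y hy => by
    have := core_conj g⁻¹ _ hy
    rw [← hg] at this
    simpa [mul_assoc] using this
  set B0 : Subgroup (core z) := (B.map (MulAut.conj g⁻¹).toMonoidHom).subgroupOf (core z)
  have hx0 : (⟨_, pull x hx⟩ : core z) ∉ B0 ⊔ Subgroup.center (core z) := by
    intro k
    have k' : (⟨_, pull x hx⟩ : core z) ∈ ((B0 ⊔ Subgroup.center (core z) : Subgroup (core z)) : Set (core z)) := k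
    rw [Subgroup.mul_normal] at k'
    obtain ⟨b0, hb0, c, hc, he⟩ := Set.mem_mul.1 k'
    obtain ⟨b, hb, hbe⟩ := (show (b0 : G) ∈ B.map (MulAut.conj g⁻¹).toMonoidHom from hb0)
    have he' : (b0 : G) * c = g⁻¹ * x * g := congrArg Subtype.val he
    have hb1 : (b0 : G) = g⁻¹ * b * g := by rw [← hbe]; simp [MulAut.conj_apply]
    rcases center_core hz hE hc with k1 | k1 <;> rw [k1, hb1] at he'
    · refine (hxB b hb).1 ?_
      calc x = g * (g⁻¹ * x * g) * g⁻¹ := by group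
        _ = b := by rw [← he']; group
    · refine (hxB b hb).2 ?_
      calc x = g * (g⁻¹ * x * g) * g⁻¹ := by group
        _ = b * u := by rw [← he', ← hg]; group
  obtain ⟨a0, hcom, hmove⟩ := Extra.exists_separate hE B0 hx0
  have ha : g * a0 * g⁻¹ ∈ core u := hg ▸ core_conj g z a0.2
  refine ⟨_, ha, fun b hb => ?_, ?_⟩
  · have hb0 : (⟨_, pull b (hB hb)⟩ : core z) ∈ B0 :=
      ⟨b, hb, by simp [MulAut.conj_apply]⟩
    have := congrArg Subtype.val (hcom _ hb0).eq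
    simp only [Subgroup.coe_mul] at this
    calc g * a0 * g⁻¹ * b = g * ((a0 : G) * (g⁻¹ * b * g)) * g⁻¹ := by group
      _ = b * (g * a0 * g⁻¹) := by rw [this]; group
  · rcases conj_cases hz hE ⟨g, hg⟩ ha hx with k | k
    · exfalso
      apply hmove
      rw [mul_inv_eq_iff_eq_mul] at k
      refine Subtype.ext ?_
      show (a0 : G) * (g⁻¹ * x * g) = g⁻¹ * x * g * a0
      calc (a0 : G) * (g⁻¹ * x * g) = g⁻¹ * (g * a0 * g⁻¹ * x) * g := by group
        _ = _ := by rw [k]; group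
    · exact k

section Setup

variable {Q : G → Subgroup G}
    (hQ : ∀ x : G, Q x = (Cfsg.pCore 2 ↥(Subgroup.centralizer ({x} : Set G))).map (Subgroup.centralizer ({x} : Set G)).subtype)
    {U : Subgroup G} (hU2 : ∀ u ∈ U, u * u = 1)
    (hS : ∀ u ∈ U, u ≠ 1 → ∃ g : G, g * z * g⁻¹ = u)
    (hO : ∀ u ∈ U, ∀ v ∈ U, u ≠ 1 → v ≠ 1 → v ∈ Q u)
    {QU LU : Subgroup G} (hQU : QU = ⨅ u ∈ ((U : Set G) \ {1}), Q u) (hLU : LU = ⨆ u ∈ ((U : Set G) \ {1}), Q u)

include hQ hU2 hS hO hQU hLU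

theorem mem_QU {x : G} : x ∈ QU ↔ ∀ u ∈ U, u ≠ 1 → x ∈ core u := by
  simp only [hQU, Subgroup.mem_iInf, Set.mem_sdiff, SetLike.mem_coe, Set.mem_singleton_iff, and_imp, hQ]
  exact Iff.rfl

theorem core_le_LU {u : G} (hu : u ∈ U) (h1 : u ≠ 1) : core u ≤ LU := by
  rw [hLU]
  exact le_trans (hQ u).ge (le_iSup₂ (f := fun v _ => Q v) u ⟨hu, h1⟩)

theorem LU_induction {p : G → Prop} (one : p 1)
    (step : ∀ g a : G, p g → (∃ u ∈ U, u ≠ 1 ∧ a ∈ core u) → p (g * a)) : ∀ g ∈ LU, p g := by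
  have hle : LU ≤ Subgroup.closure {a | ∃ u ∈ U, u ≠ 1 ∧ a ∈ core u} := by
    rw [hLU]
    refine iSup₂_le fun u hu => fun a ha => Subgroup.subset_closure ⟨u, hu.1, hu.2, ?_⟩
    rwa [hQ] at ha
  intro g hg
  have hg' := hle hg
  clear hg
  induction hg' using Subgroup.closure_induction_right with
  | one => exact one
  | mul_right g' _ a ha ih => exact step g' a ih ha
  | mul_inv_cancel g' _ a ha ih =>
    obtain ⟨u, hu, h1, ha⟩ := ha
    exact step g' _ ih ⟨u, hu, h1, inv_mem ha⟩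

theorem U_le_core {u v : G} (hu : u ∈ U) (hu1 : u ≠ 1) (hv : v ∈ U) : v ∈ core u := by
  by_cases hv1 : v = 1
  · rw [hv1]; exact one_mem _
  · have := hO u hu v hv hu1 hv1
    rwa [hQ] at this

theorem U_le_QU : U ≤ QU := fun v hv => (mem_QU hz hE hQ hU2 hS hO hQU hLU).2 fun _ hu hu1 =>
  U_le_core hz hE hQ hU2 hS hO hQU hLU hu hu1 hv

theorem LU_conj_mem {g : G} (hg : g ∈ LU) : ∀ v ∈ U, g * v * g⁻¹ ∈ U := by
  refine LU_induction hz hE hQ hU2 hS hO hQU hLU (p := fun g => ∀ v ∈ U, g * v * g⁻¹ ∈ U)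
    (fun v hv => by simpa using hv) (fun g a ih ⟨u, hu, hu1, ha⟩ v hv => ?_) g hg
  rw [show g * a * v * (g * a)⁻¹ = g * (a * v * a⁻¹) * g⁻¹ by group]
  refine ih _ ?_
  rcases conj_cases hz hE (hS u hu hu1) ha (U_le_core hz hE hQ hU2 hS hO hQU hLU hu hu1 hv) with k | k <;>
    rw [k]
  exacts [hv, mul_mem hv hu]

theorem joint_core_eq (T : Set G) (hT : Subgroup.closure T = U) (hT1 : (1 : G) ∉ T) :
    QU = ⨅ t ∈ T, Q t := by
  have hTU : T ⊆ U := hT ▸ Subgroup.subset_closure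
  apply le_antisymm
  · refine le_iInf₂ fun t ht => hQU.le.trans (iInf₂_le t ?_)
    exact ⟨hTU ht, fun k => hT1 (Set.mem_singleton_iff.1 k ▸ ht)⟩
  intro x hx
  simp only [Subgroup.mem_iInf, hQ] at hx
  refine (mem_QU hz hE hQ hU2 hS hO hQU hLU).2 fun u hu hu1 => ?_
  have key : ∀ y ∈ U, ∀ t ∈ T, (y ≠ 1 → x ∈ core y) → y * t ≠ 1 → x ∈ core (y * t) := by
    intro y hy t ht ih hne
    have htU : t ∈ U := hTU ht
    have ht1 : t ≠ 1 := fun k => hT1 (k ▸ ht)
    by_cases hy1 : y = 1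
    · rw [hy1, one_mul]; exact hx t ht
    by_cases hyt : y = t
    · exact absurd (by rw [hyt, hU2 t htU]) hne
    have htt : t⁻¹ = t := inv_eq_of_mul_eq_one_right (hU2 t htU)
    obtain ⟨a, ha, -, hay⟩ := exists_move hz hE (hS t htU ht1) ⊥ bot_le
      (U_le_core hz hE hQ hU2 hS hO hQU hLU htU ht1 hy) fun b hb => by
        rw [Subgroup.mem_bot] at hb
        rw [hb, one_mul]
        exact ⟨hy1, hyt⟩
    have h1 : a * x * a⁻¹ ∈ core (y * t) := hay ▸ core_conj a y (ih hy1)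
    rcases conj_cases hz hE (hS t htU ht1) ha (hx t ht) with k | k <;> rw [k] at h1
    · exact h1
    · have h2 := mul_mem h1 (inv_mem (U_le_core hz hE hQ hU2 hS hO hQU hLU (mul_mem hy htU) hne htU))
      simpa using h2
  rw [← hT] at hu
  have hfin : ∀ y ∈ Subgroup.closure T, y ∈ U ∧ (y ≠ 1 → x ∈ core y) := by
    intro y hy
    induction hy using Subgroup.closure_induction_right with
    | one => exact ⟨one_mem _, fun h => absurd rfl h⟩
    | mul_right y _ t ht ih =>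
      exact ⟨mul_mem ih.1 (hTU ht), key y ih.1 t ht ih.2⟩
    | mul_inv_cancel y _ t ht ih =>
      rw [inv_eq_of_mul_eq_one_right (hU2 t (hTU ht))]
      exact ⟨mul_mem ih.1 (hTU ht), key y ih.1 t ht ih.2⟩
  exact (hfin u hu).2 hu1

theorem commutator_mem {g : G} (hg : g ∈ LU) : ∀ x ∈ QU, g * x * g⁻¹ * x⁻¹ ∈ U := by
  have hconj := fun {g : G} (hg : g ∈ LU) => LU_conj_mem hz hE hQ hU2 hS hO hQU hLU hg
  refine (LU_induction hz hE hQ hU2 hS hO hQU hLU
    (p := fun g => g ∈ LU ∧ ∀ x ∈ QU, g * x * g⁻¹ * x⁻¹ ∈ U)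
    ⟨one_mem _, fun x _ => by simp⟩ (fun g a ih ⟨u, hu, hu1, ha⟩ => ?_) g hg).2
  refine ⟨mul_mem ih.1 (core_le_LU hz hE hQ hU2 hS hO hQU hLU hu hu1 ha), fun x hx => ?_⟩
  rw [show g * a * x * (g * a)⁻¹ * x⁻¹ = (g * (a * x * a⁻¹ * x⁻¹) * g⁻¹) * (g * x * g⁻¹ * x⁻¹) by group]
  refine mul_mem (hconj ih.1 _ ?_) (ih.2 x hx)
  rcases conj_cases hz hE (hS u hu hu1) ha ((mem_QU hz hE hQ hU2 hS hO hQU hLU).1 hx u hu hu1) with k | k <;>
    rw [k]
  · rw [mul_inv_cancel]; exact one_mem _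
  · rw [(core_commute ((mem_QU hz hE hQ hU2 hS hO hQU hLU).1 hx u hu hu1)).eq, mul_inv_cancel_right]
    exact hu

theorem radical_action (hU : U ≠ ⊥) :
    (∀ g ∈ LU, ∀ x ∈ QU, g * x * g⁻¹ * x⁻¹ ∈ U) ∧
      ∀ x ∈ QU, x ∉ U → ∀ u ∈ U, ∃ g ∈ LU ⊓ Subgroup.centralizer (U : Set G), g * x * g⁻¹ = x * u := by
  refine ⟨fun g hg => commutator_mem hz hE hQ hU2 hS hO hQU hLU hg, fun x hx hxU u hu => ?_⟩
  by_cases hu1 : u = 1
  · exact ⟨1, one_mem _, by simp [hu1]⟩
  obtain ⟨a, ha, hcom, hmove⟩ := exists_move hz hE (hS u hu hu1) U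
    (fun v hv => U_le_core hz hE hQ hU2 hS hO hQU hLU hu hu1 hv)
    ((mem_QU hz hE hQ hU2 hS hO hQU hLU).1 hx u hu hu1)
    fun b hb => ⟨fun k => hxU (k ▸ hb), fun k => hxU (k ▸ mul_mem hb hu)⟩
  exact ⟨a, ⟨core_le_LU hz hE hQ hU2 hS hO hQU hLU hu hu1 ha, fun v hv => (hcom v hv).eq.symm⟩, hmove⟩

theorem full_linear (φ : ↥U ≃* ↥U) : ∃ g ∈ LU, ∀ u : ↥U, g * (u : G) * g⁻¹ = ((φ u : ↥U) : G) := by
  classical
  haveI : Fintype U := Fintype.ofFinite _
  suffices h : ∀ S : Finset U, ∃ g ∈ LU, ∀ u ∈ S, g * (u : G) * g⁻¹ = ((φ u : ↥U) : G) by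
    obtain ⟨g, hg, hgs⟩ := h Finset.univ
    exact ⟨g, hg, fun u => hgs u (Finset.mem_univ u)⟩
  intro S
  induction S using Finset.induction_on with
  | empty => exact ⟨1, one_mem _, by simp⟩
  | @insert v S hv ih =>
    obtain ⟨g, hg, hgs⟩ := ih
    set W := Subgroup.closure (S : Set U)
    have hgW : ∀ w ∈ W, g * (w : G) * g⁻¹ = ((φ w : ↥U) : G) := by
      intro w hw
      induction hw using Subgroup.closure_induction with
      | mem a ha => exact hgs a ha
      | one => simp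
      | mul a b _ _ ha hb =>
        rw [map_mul, Subgroup.coe_mul, Subgroup.coe_mul, ← ha, ← hb]; group
      | inv a _ ha => rw [map_inv, Subgroup.coe_inv, Subgroup.coe_inv, ← ha]; group
    have hconj := LU_conj_mem hz hE hQ hU2 hS hO hQU hLU (inv_mem hg) _ (φ v).2
    set v' : U := ⟨_, hconj⟩
    have hv' : g * (v' : G) * g⁻¹ = ((φ v : ↥U) : G) := by simp only [v']; group
    by_cases hvW : v ∈ W
    · refine ⟨g, hg, fun u hu => ?_⟩
      rcases Finset.mem_insert.1 hu with rfl | hu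
      exacts [hgW _ hvW, hgs u hu]
    by_cases hvv : v = v'
    · refine ⟨g, hg, fun u hu => ?_⟩
      rcases Finset.mem_insert.1 hu with rfl | hu
      · conv_lhs => rw [hvv]
        exact hv'
      · exact hgs u hu
    have hvi : v⁻¹ = v := inv_eq_of_mul_eq_one_right (Subtype.ext (hU2 v v.2))
    have hu1 : ((v * v' : U) : G) ≠ 1 := fun k => hvv (by
      have : v * v' = 1 := Subtype.ext k
      rw [mul_eq_one_iff_inv_eq, hvi] at this
      exact this)
    have hW' : v' ∉ W := fun k => hvW (by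
      have : φ v = φ v' := Subtype.ext (hv'.symm.trans (hgW v' k))
      rwa [φ.injective this])
    obtain ⟨a, ha, hcom, hmove⟩ := exists_move hz hE (hS _ (v * v').2 hu1) (W.map U.subtype)
      (by rintro _ ⟨w, -, rfl⟩; exact U_le_core hz hE hQ hU2 hS hO hQU hLU (v * v').2 hu1 w.2)
      (U_le_core hz hE hQ hU2 hS hO hQU hLU (v * v').2 hu1 v.2) (by
        rintro _ ⟨w, hw, rfl⟩
        refine ⟨fun k => hvW ((Subtype.ext k : v = w) ▸ hw), fun k => hW' ?_⟩
        have k' : v = w * (v * v') := Subtype.ext k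
        have e : v' = v * w⁻¹ * v := by
          calc v' = v⁻¹ * w⁻¹ * (w * (v * v')) := by group
            _ = _ := by rw [← k', hvi]
        have hvcomm : v * w⁻¹ = w⁻¹ * v := by
          have sq : ∀ a : U, a⁻¹ = a := fun a => inv_eq_of_mul_eq_one_right (Subtype.ext (hU2 a a.2))
          calc v * w⁻¹ = (v * w⁻¹)⁻¹ := (sq _).symm
            _ = w⁻¹ * v := by rw [_root_.mul_inv_rev, inv_inv, sq v, sq w]
        rw [e, hvcomm, mul_assoc, show v * v = 1 from Subtype.ext (hU2 v v.2), mul_one]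
        exact inv_mem hw)
    refine ⟨g * a, mul_mem hg (core_le_LU hz hE hQ hU2 hS hO hQU hLU (v * v').2 hu1 ha), fun u hu => ?_⟩
    rcases Finset.mem_insert.1 hu with rfl | hu
    · rw [show g * a * (u : G) * (g * a)⁻¹ = g * (a * u * a⁻¹) * g⁻¹ by group, hmove, ← hv',
        Subgroup.coe_mul, ← mul_assoc (u : G), hU2 u u.2, one_mul]
    · rw [show g * a * (u : G) * (g * a)⁻¹ = g * (a * u * a⁻¹) * g⁻¹ by group,
        (hcom u ⟨u, Subgroup.subset_closure hu, rfl⟩).eq, mul_inv_cancel_right]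
      exact hgs u hu

theorem singular_structure {n : ℕ} (hn : 2 ≤ n) (hcard : Nat.card ↥U = 2 ^ n) :
    U ≤ QU ∧ QU ≤ LU ∧ LU ≤ Subgroup.normalizer (U : Set G) ∧
      ∀ φ : ↥U ≃* ↥U, ∃ g ∈ LU, ∀ u : ↥U, g * (u : G) * g⁻¹ = ((φ u : ↥U) : G) := by
  refine ⟨U_le_QU hz hE hQ hU2 hS hO hQU hLU, fun x hx => ?_, fun g hg => ?_,
    full_linear hz hE hQ hU2 hS hO hQU hLU⟩
  · have h1 : 1 < Nat.card U := by rw [hcard]; exact Nat.one_lt_two_pow (by omega)
    haveI : Nontrivial U := Finite.one_lt_card_iff_nontrivial.1 h1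
    obtain ⟨⟨u, hu⟩, hne⟩ := exists_ne (1 : U)
    have hu1 : u ≠ 1 := fun k => hne (Subtype.ext k)
    exact core_le_LU hz hE hQ hU2 hS hO hQU hLU hu hu1
      ((mem_QU hz hE hQ hU2 hS hO hQU hLU).1 hx u hu hu1)
  · rw [Subgroup.mem_normalizer_iff]
    intro v
    refine ⟨fun hv => LU_conj_mem hz hE hQ hU2 hS hO hQU hLU hg v hv, fun hv => ?_⟩
    have := LU_conj_mem hz hE hQ hU2 hS hO hQU hLU (inv_mem hg) _ hv
    simpa [mul_assoc] using this

end Setup

end CfsgLib.Fischer.Singular
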