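import Cfsg.Agent.Spor.Fischer.Rank

/-!
Invariant partitions of a class of 3-transpositions: two members of the same part act in the same
way on the parts.
-/

set_option autoImplicit false

namespace CfsgLib.Fischer

open Cfsg

variable {G : Type*} [Group G] {D : Set G}

theorem class_conj_closed (hD : IsThreeTranspositionClass D) :
    ∀ g : G, ∀ x ∈ D, g * x * g⁻¹ ∈ D := by
  obtain ⟨d, -, hDd⟩ := hD.2.1
  intro g x hx
  rw [hDd] at hx ⊢
  exact IsConj.trans (show IsConj d x from hx) (isConj_iff.2 ⟨g, rfl⟩)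

theorem class_group (hD : IsThreeTranspositionClass D) : IsThreeTranspositionGroup D :=
  ⟨hD.1, class_conj_closed hD, hD.2.2⟩

theorem class_transitive (hD : IsThreeTranspositionClass D) :
    ∀ a ∈ D, ∀ b ∈ D, ∃ g : G, g * a * g⁻¹ = b := by
  obtain ⟨d, -, hDd⟩ := hD.2.1
  intro a ha b hb
  rw [hDd] at ha hb
  exact isConj_iff.1 ((show IsConj d a from ha).symm.trans (show IsConj d b from hb))

/-- an invariant partition, as an equivalence -/
structure Part (D : Set G) (R : G → G → Prop) : Prop where
  refl : ∀ a, R a a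
  symm : ∀ a b, R a b → R b a
  trans : ∀ a b c, R a b → R b c → R a c
  conj : ∀ g a b, R a b → R (g * a * g⁻¹) (g * b * g⁻¹)

/-- Two members of one part move every member into one part. -/
theorem Part.action {R : G → G → Prop} (hR : Part D R) (h : IsThreeTranspositionSet D) {a b c : G}
    (ha : a ∈ D) (hb : b ∈ D) (hc : c ∈ D) (hab : R a b) :
    R (a * c * a) (b * c * b) := by
  have hsmall : ∀ a ∈ D, ∀ b ∈ D, R a b → ¬ Commute c a → Commute c b →
      R (a * c * a) (b * c * b) := by
    intro a ha b hb hab hca hcb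
    have e1 : a * c * a = c * a * c := (braid h hc ha hca).symm
    have e2 : c * b * c = b := (commute_iff_conj h hc b).1 hcb
    have h1 : R (c * a * c) (c * b * c) := by
      have := hR.conj c a b hab; rwa [inv_eq h hc] at this
    rw [e2] at h1
    have h2 : R (a * c * a) a := by rw [e1]; exact hR.trans _ _ _ h1 (hR.symm _ _ hab)
    have h3 : R c a := by
      have := hR.conj a _ _ h2
      rw [inv_eq h ha] at this
      simpa only [mul_assoc, mul_cancel h ha, mul_self h ha, mul_one, one_mul] using this
    rw [(commute_iff_conj h hb c).1 hcb.symm]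
    exact hR.trans _ _ _ h2 (hR.symm _ _ h3)
  by_cases hca : Commute c a
  · by_cases hcb : Commute c b
    · rw [(commute_iff_conj h ha c).1 hca.symm, (commute_iff_conj h hb c).1 hcb.symm]
      exact hR.refl c
    · exact hR.symm _ _ (hsmall b hb a ha (hR.symm _ _ hab) hcb hca)
  · by_cases hcb : Commute c b
    · exact hsmall a ha b hb hab hca hcb
    · rw [← braid h hc ha hca, ← braid h hc hb hcb]
      have := hR.conj c a b hab
      rwa [inv_eq h hc] at this

/-- the elements fixing every part -/
def partKernel (D : Set G) (R : G → G → Prop) (hR : Part D R)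
    (hc : ∀ g : G, ∀ x ∈ D, g * x * g⁻¹ ∈ D) : Subgroup G where
  carrier := {g | ∀ x ∈ D, R (g * x * g⁻¹) x}
  one_mem' := fun x _ => by rw [one_mul, inv_one, mul_one]; exact hR.refl x
  mul_mem' := fun {g g'} hg hg' x hx => by
    have h1 := hR.conj g _ _ (hg' x hx)
    rw [show g * g' * x * (g * g')⁻¹ = g * (g' * x * g'⁻¹) * g⁻¹ by group]
    exact hR.trans _ _ _ h1 (hg x hx)
  inv_mem' := fun {g} hg x hx => by
    have h1 := hR.conj g⁻¹ _ _ (hg x hx)
    rw [show g⁻¹ * (g * x * g⁻¹) * g⁻¹⁻¹ = x by group] at h1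
    exact hR.symm _ _ h1

theorem mem_partKernel {R : G → G → Prop} {hR : Part D R} {hc : ∀ g : G, ∀ x ∈ D, g * x * g⁻¹ ∈ D}
    {g : G} : g ∈ partKernel D R hR hc ↔ ∀ x ∈ D, R (g * x * g⁻¹) x := Iff.rfl

theorem partKernel_normal {R : G → G → Prop} (hR : Part D R)
    (hc : ∀ g : G, ∀ x ∈ D, g * x * g⁻¹ ∈ D) : (partKernel D R hR hc).Normal := by
  refine ⟨fun n hn g x hx => ?_⟩
  have h1 := hR.conj g _ _ (hn (g⁻¹ * x * g) (by simpa using hc g⁻¹ x hx))
  rw [show g * n * g⁻¹ * x * (g * n * g⁻¹)⁻¹ = g * (n * (g⁻¹ * x * g) * n⁻¹) * g⁻¹ by group]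
  rw [show g * (g⁻¹ * x * g) * g⁻¹ = x by group] at h1
  exact h1

theorem mul_mem_partKernel {R : G → G → Prop} (hR : Part D R) (h : IsThreeTranspositionSet D)
    (hc : ∀ g : G, ∀ x ∈ D, g * x * g⁻¹ ∈ D) {a b : G} (ha : a ∈ D) (hb : b ∈ D) (hab : R a b) :
    a * b ∈ partKernel D R hR hc := by
  intro x hx
  have h1 := hR.action h ha hb (conj_mem h hc hb hx) hab
  rw [mul_inv_rev, inv_eq h ha, inv_eq h hb]
  simp only [mul_assoc] at h1 ⊢
  rwa [mul_cancel h hb, mul_self h hb, mul_one] at h1

/-- If the kernel of a partition contains the commutator subgroup, there is only one part. -/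
theorem total_of_commutator_le {R : G → G → Prop} (hR : Part D R) (hD : IsThreeTranspositionClass D)
    (hle : commutator G ≤ partKernel D R hR (class_conj_closed hD)) :
    ∀ a ∈ D, ∀ b ∈ D, R a b := by
  intro a ha b hb
  have h := hD.1
  set N := partKernel D R hR (class_conj_closed hD)
  haveI : N.Normal := partKernel_normal hR (class_conj_closed hD)
  have hGN : ∀ g : G, g ∈ N ∨ a * g ∈ N := by
    intro g
    have hgen : g ∈ Subgroup.closure D := hD.2.2 ▸ Subgroup.mem_top g
    have hax : ∀ x ∈ D, a * x ∈ N := by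
      intro x hx
      obtain ⟨u, rfl⟩ := class_transitive hD a ha x hx
      refine hle ?_
      have : a * (u * a * u⁻¹) = a * u * a⁻¹ * u⁻¹ := by rw [inv_eq h ha]; group
      rw [this]
      exact Subgroup.commutator_mem_commutator (Subgroup.mem_top a) (Subgroup.mem_top u)
    induction hgen using Subgroup.closure_induction_right with
    | one => exact Or.inl (one_mem N)
    | mul_right s _ x hx ih =>
      rcases ih with ih | ih
      · refine Or.inr ?_
        have := ‹N.Normal›.conj_mem s ih a
        rw [inv_eq h ha] at this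
        rw [show a * (s * x) = (a * s * a) * (a * x) by
          simp only [mul_assoc, mul_cancel h ha]]
        exact mul_mem this (hax x hx)
      · refine Or.inl ?_
        rw [show s * x = a * (a * s) * a * (a * x) by
          simp only [mul_assoc, mul_cancel h ha]]
        have := ‹N.Normal›.conj_mem (a * s) ih a
        rw [inv_eq h ha] at this
        exact mul_mem this (hax x hx)
    | mul_inv_cancel s _ x hx ih =>
      rw [inv_eq h hx]
      rcases ih with ih | ih
      · refine Or.inr ?_
        have := ‹N.Normal›.conj_mem s ih a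
        rw [inv_eq h ha] at this
        rw [show a * (s * x) = (a * s * a) * (a * x) by
          simp only [mul_assoc, mul_cancel h ha]]
        exact mul_mem this (hax x hx)
      · refine Or.inl ?_
        rw [show s * x = a * (a * s) * a * (a * x) by
          simp only [mul_assoc, mul_cancel h ha]]
        have := ‹N.Normal›.conj_mem (a * s) ih a
        rw [inv_eq h ha] at this
        exact mul_mem this (hax x hx)
  obtain ⟨g, rfl⟩ := class_transitive hD a ha b hb
  rcases hGN g with hg | hg
  · exact hR.symm _ _ (hg a ha)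
  · have h1 := hg a ha
    have h2 := hR.conj a _ _ h1
    rw [inv_eq h ha, mul_inv_rev, inv_eq h ha] at h2
    simp only [mul_assoc, mul_cancel h ha, mul_self h ha, mul_one, one_mul] at h2
    rw [mul_assoc g a g⁻¹]
    exact hR.symm _ _ h2

/-- To prove primitivity it is enough to treat invariant partitions. -/
theorem primitive_of_part (hD : IsThreeTranspositionClass D) (h2 : ∃ a ∈ D, ∃ b ∈ D, a ≠ b)
    (hpart : ∀ R : G → G → Prop, ∀ hR : Part D R, ∀ a ∈ D, ∀ b ∈ D, R a b → a ≠ b →
      commutator G ≤ partKernel D R hR (class_conj_closed hD)) : IsPrimitiveUnderConj D := by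
  refine ⟨class_transitive hD, h2, fun B hB hblk => ?_⟩
  by_cases hsub : B.Subsingleton
  · exact Or.inl hsub
  refine Or.inr (hB.antisymm ?_)
  rw [Set.not_subsingleton_iff] at hsub
  obtain ⟨a, ha, b, hb, hab⟩ := hsub
  let R : G → G → Prop := fun x y => x = y ∨ ∃ g : G, g⁻¹ * x * g ∈ B ∧ g⁻¹ * y * g ∈ B
  have hR : Part D R := by
    refine ⟨fun x => Or.inl rfl, fun x y hxy => ?_, fun x y w hxy hyw => ?_, fun u x y hxy => ?_⟩
    · rcases hxy with rfl | ⟨g, h1, h2⟩
      · exact Or.inl rfl
      · exact Or.inr ⟨g, h2, h1⟩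
    · rcases hxy with rfl | ⟨g, h1, h2⟩
      · exact hyw
      rcases hyw with rfl | ⟨g', h3, h4⟩
      · exact Or.inr ⟨g, h1, h2⟩
      refine Or.inr ⟨g, h1, ?_⟩
      rcases hblk (g⁻¹ * g') with he | hd
      · rw [← he]
        exact ⟨g'⁻¹ * w * g', h4, by group⟩
      · exact absurd h2 (Set.disjoint_left.1 hd ⟨g'⁻¹ * y * g', h3, by group⟩)
    · rcases hxy with rfl | ⟨g, h1, h2⟩
      · exact Or.inl rfl
      · refine Or.inr ⟨u * g, ?_, ?_⟩
        · convert h1 using 1; group
        · convert h2 using 1; group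
  have htot := total_of_commutator_le hR hD
    (hpart R hR a (hB ha) b (hB hb) (Or.inr ⟨1, by simpa using ha, by simpa using hb⟩) hab)
  intro x hx
  rcases htot a (hB ha) x hx with rfl | ⟨g, h1, h2⟩
  · exact ha
  · rcases hblk g with he | hd
    · rw [← he]; exact ⟨g⁻¹ * x * g, h2, by group⟩
    · exact absurd ha (Set.disjoint_left.1 hd ⟨g⁻¹ * a * g, h1, by group⟩)

theorem mul_mem_commutator (hD : IsThreeTranspositionClass D) {a b : G} (ha : a ∈ D) (hb : b ∈ D) :
    a * b ∈ commutator G := by
  obtain ⟨u, rfl⟩ := class_transitive hD a ha b hb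
  have : a * (u * a * u⁻¹) = a * u * a⁻¹ * u⁻¹ := by rw [inv_eq hD.1 ha]; group
  rw [this]
  exact Subgroup.commutator_mem_commutator (Subgroup.mem_top a) (Subgroup.mem_top u)

/-- A class with simple non-abelian derived subgroup is primitive. -/
theorem primitive_of_simple (hD : IsThreeTranspositionClass D) (h2 : ∃ a ∈ D, ∃ b ∈ D, a ≠ b)
    (hs : IsSimpleGroup (commutator G)) : IsPrimitiveUnderConj D := by
  refine primitive_of_part hD h2 fun R hR a ha b hb hab hne => ?_
  set N := partKernel D R hR (class_conj_closed hD)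
  haveI : N.Normal := partKernel_normal hR (class_conj_closed hD)
  rcases hs.eq_bot_or_eq_top_of_normal (N.subgroupOf (commutator G)) inferInstance with h0 | h0
  · exfalso
    apply hne
    have hmem : (⟨a * b, mul_mem_commutator hD ha hb⟩ : commutator G) ∈ N.subgroupOf (commutator G) :=
      mul_mem_partKernel hR hD.1 (class_conj_closed hD) ha hb hab
    rw [h0, Subgroup.mem_bot] at hmem
    have h1 : a * b = 1 := congrArg Subtype.val hmem
    rw [← inv_eq hD.1 ha]
    exact inv_eq_of_mul_eq_one_right h1
  · exact Subgroup.subgroupOf_eq_top.1 h0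

end CfsgLib.Fischer
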