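import Cfsg.Agent.Spor.Fischer.SUThreeLift

set_option autoImplicit false
set_option maxRecDepth 4000

namespace CfsgLib.Spor.SUThreeLift

open CfsgLib.Lie.SUThreeTwo

def MT : Matrix (Fin 3) (Fin 3) E := !![1, 0, 0; 0, 0, 1; 0, 1, 0]
def T : Cfsg.SU 3 E 2 := mk MT (by rw [Matrix.det_fin_three]; decide +kernel) (by decide +kernel)
theorem vT : T.1.1 = MT := rfl
theorem mT : MT * MT = 1 ∧ MT * MX * MT = MX * MX ∧ MT * MY * MT = MY * MY ∧ MT ≠ 1 ∧ MX * MY ≠ MY * MX ∧
    MX * MY * (MX * MY) * (MX * MY) = 1 ∧ MX * (MY * MY) * (MX * (MY * MY)) * (MX * (MY * MY)) = 1 := by decide +kernel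
theorem mT' : ∃ i j k : Fin 3, MT = MZ ^ i.val * MX ^ j.val * MY ^ k.val * (MA * MA) := by decide +kernel

variable {F : Type*} [Field F] [Fintype F]

theorem derived_gens (hF : Fintype.card F = 4) :
    Nat.card ↥(commutator (Cfsg.SU 3 F 2)) ≤ 54 ∧ ∃ a x y : ↥(commutator (Cfsg.SU 3 F 2)),
      a * a = 1 ∧ a ≠ 1 ∧ a * x * a = x⁻¹ ∧ a * y * a = y⁻¹ ∧ x ^ 3 = 1 ∧ y ^ 3 = 1 ∧ (x * y) ^ 3 = 1 ∧
      (x * y⁻¹) ^ 3 = 1 ∧ x * y ≠ y * x := by
  classical
  refine ⟨?_, ?_⟩
  · obtain ⟨N, hNn, hN9, -, ⟨e⟩⟩ := structure_thm hF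
    haveI := hNn
    let ψ : ↥(commutator (Cfsg.SU 3 F 2)) →* Cfsg.PSU 3 F 2 :=
      (QuotientGroup.mk' _).comp (commutator (Cfsg.SU 3 F 2)).subtype
    let f : Cfsg.PSU 3 F 2 →* QuaternionGroup 2 := e.toMonoidHom.comp (QuotientGroup.mk' N)
    have hq : ∀ a b : QuaternionGroup 2, a * b * a⁻¹ * b⁻¹ = 1 ∨ a * b * a⁻¹ * b⁻¹ = QuaternionGroup.a 2 := by
      decide
    have hr : (f.comp ψ).range ≤ Subgroup.zpowers (QuaternionGroup.a 2 : QuaternionGroup 2) := by
      rintro _ ⟨g, rfl⟩
      have hle : commutator (Cfsg.SU 3 F 2) ≤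
          (Subgroup.zpowers (QuaternionGroup.a 2 : QuaternionGroup 2)).comap (f.comp (QuotientGroup.mk' _)) := by
        rw [commutator_def, Subgroup.commutator_le]
        intro a _ b _
        rw [Subgroup.mem_comap, map_commutatorElement, commutatorElement_def]
        rcases hq (f.comp (QuotientGroup.mk' _) a) (f.comp (QuotientGroup.mk' _) b) with h | h
        · rw [h]; exact one_mem _
        · rw [h]; exact Subgroup.mem_zpowers _
      exact hle g.2
    have h2 : Nat.card (f.comp ψ).range ≤ 2 := by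
      refine le_trans (Nat.le_of_dvd Nat.card_pos (Subgroup.card_dvd_of_le hr)) (le_of_eq ?_)
      rw [Nat.card_zpowers]
      exact orderOf_eq_prime (by decide) (by decide)
    have h3 : Nat.card (Subgroup.center (Cfsg.SU 3 F 2)) = 3 := by
      rw [CfsgLib.Lie.Unitary.card_center_SU (show Fintype.card F = 2 ^ 2 from hF) (by omega)]
      rfl
    let K := (f.comp ψ).ker
    have hK1 : Nat.card (ψ.comp K.subtype).range ≤ 9 := by
      rw [← hN9]
      haveI : Finite N := Nat.finite_of_card_ne_zero (by omega)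
      refine Nat.le_of_dvd Nat.card_pos (Subgroup.card_dvd_of_le ?_)
      rintro _ ⟨g, rfl⟩
      exact (QuotientGroup.eq_one_iff (N := N) _).1 (e.map_eq_one_iff.1 g.2)
    have hK2 : Nat.card (ψ.comp K.subtype).ker ≤ 3 := by
      haveI : Finite (Subgroup.center (Cfsg.SU 3 F 2)) := Nat.finite_of_card_ne_zero (by omega)
      refine le_trans ?_ (le_of_eq h3)
      exact Nat.card_le_card_of_injective (fun g => ⟨(g.1.1 : Cfsg.SU 3 F 2), (QuotientGroup.eq_one_iff _).1 g.2⟩)
        fun g h hgh => Subtype.ext (Subtype.ext (Subtype.ext (by simpa using congrArg Subtype.val hgh)))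
    have hK : Nat.card K ≤ 27 := by
      rw [← Subgroup.card_mul_index (ψ.comp K.subtype).ker, Subgroup.index_ker]
      exact le_trans (Nat.mul_le_mul hK2 hK1) (by norm_num)
    rw [← Subgroup.card_mul_index (f.comp ψ).ker, Subgroup.index_ker]
    exact le_trans (Nat.mul_le_mul hK h2) (by norm_num)
  · have hE : Fintype.card E = Fintype.card F := by
      rw [hF, Fintype.card_congr (QuadraticAlgebra.equivProd (1 : ZMod 2) 1), Fintype.card_prod, ZMod.card]
    let r := FiniteField.ringEquivOfCardEq hE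
    obtain ⟨tT, tX, tY, tne, t1, t6, t7⟩ := mT
    obtain ⟨rX, rY, ⟨k1, r1⟩, ⟨k2, r2⟩, ⟨k3, r3⟩, -, -, rA, -, ⟨k7, r7⟩⟩ := rels
    let C := commutator (Cfsg.SU 3 E 2)
    have hcm : ∀ g h : Cfsg.SU 3 E 2, g * h * g⁻¹ * h⁻¹ ∈ C := fun g h => by
      rw [← commutatorElement_def]; exact Subgroup.commutator_mem_commutator (Subgroup.mem_top _) (Subgroup.mem_top _)
    have hZc : ∀ g, Z * g = g * Z := fun g => by
      refine eq_of ?_
      rw [val_mul, val_mul, vZ]
      have : MZ = Matrix.scalar (Fin 3) w := by decide +kernel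
      rw [this]
      exact (Matrix.scalar_commute w (fun s => Commute.all _ s) g.1.1).eq
    have hZ : Z ∈ C := by
      have h : Z ^ k1.val ∈ C := by
        have e : X * Y * X⁻¹ * Y⁻¹ = Z ^ k1.val := by rw [r1]; group
        rw [← e]; exact hcm X Y
      have hZ3 : Z ^ 3 = 1 := eq_of (by rw [val_pow, vZ, val_one]; decide +kernel)
      fin_cases k1
      · exfalso
        apply t1
        have := congrArg (fun g : Cfsg.SU 3 E 2 => g.1.1) r1
        simpa [val_mul, val_pow, vX, vY] using this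
      · simpa using h
      · have := pow_mem h 2
        rw [← pow_mul] at this
        simpa [pow_succ, hZ3, show Z * Z * Z = 1 by rw [← hZ3, pow_succ, pow_two]] using this
    have h2' : Y * X⁻¹ ∈ C := by
      have e : A * X * A⁻¹ * X⁻¹ = Z ^ k2.val * (Y * X⁻¹) := by rw [r2]; group
      have := hcm A X
      rw [e] at this
      exact (C.mul_mem_cancel_left (pow_mem hZ _)).1 this
    have h3' : X * X * Y⁻¹ ∈ C := by
      have e : A * Y * A⁻¹ * Y⁻¹ = Z ^ k3.val * (X * X * Y⁻¹) := by rw [r3]; group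
      have := hcm A Y
      rw [e] at this
      exact (C.mul_mem_cancel_left (pow_mem hZ _)).1 this
    have hX : X ∈ C := by
      have := mul_mem h3' h2'
      simpa [mul_assoc] using this
    have hY : Y ∈ C := by
      have := mul_mem h2' hX
      rwa [inv_mul_cancel_right] at this
    have hA2 : A * A ∈ C := by
      have e : B * A * B⁻¹ * A⁻¹ = Z ^ k7.val * (Y * (A * A)) := by rw [r7]; group
      have := hcm B A
      rw [e] at this
      exact (C.mul_mem_cancel_left hY).1 ((C.mul_mem_cancel_left (pow_mem hZ _)).1 this)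
    have hT : T ∈ C := by
      obtain ⟨i, j, k, h⟩ := mT'
      have e : T = Z ^ i.val * X ^ j.val * Y ^ k.val * (A * A) :=
        eq_of (by simp only [val_mul, val_pow, vT, vX, vY, vZ, vA]; exact h)
      rw [e]
      exact mul_mem (mul_mem (mul_mem (pow_mem hZ _) (pow_mem hX _)) (pow_mem hY _)) hA2
    have hmap : ∀ g ∈ C, tr r g ∈ commutator (Cfsg.SU 3 F 2) := by
      intro g hg
      have : C.map (tr r) ≤ commutator (Cfsg.SU 3 F 2) := by
        rw [show C = commutator (Cfsg.SU 3 E 2) from rfl, commutator_def, commutator_def, Subgroup.map_commutator]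
        exact Subgroup.commutator_mono le_top le_top
      exact this ⟨g, hg, rfl⟩
    have hXi : X⁻¹ = X * X := inv_eq_of_mul_eq_one_left (by rw [← rX, pow_succ, pow_two])
    have hYi : Y⁻¹ = Y * Y := inv_eq_of_mul_eq_one_left (by rw [← rY, pow_succ, pow_two])
    have lift : ∀ {u v : Cfsg.SU 3 E 2}, u.1.1 = v.1.1 → tr r u = tr r v := fun h => congrArg _ (eq_of h)
    refine ⟨⟨tr r T, hmap _ hT⟩, ⟨tr r X, hmap _ hX⟩, ⟨tr r Y, hmap _ hY⟩, ?_, ?_, ?_, ?_, ?_, ?_, ?_, ?_, ?_⟩
    · refine Subtype.ext ?_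
      show tr r T * tr r T = 1
      rw [← map_mul, ← map_one (tr r)]
      exact lift (by rw [val_mul, vT, val_one]; exact tT)
    · intro h
      have h' : tr r T = 1 := congrArg Subtype.val h
      apply tne
      have := congrArg (fun g : Cfsg.SU 3 E 2 => g.1.1) (tr_injective r (h'.trans (map_one _).symm))
      simpa [vT, val_one] using this
    · refine Subtype.ext ?_
      show tr r T * tr r X * tr r T = (tr r X)⁻¹
      rw [← map_mul, ← map_mul, ← map_inv, hXi]
      exact lift (by simp only [val_mul, vT, vX]; exact tX)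
    · refine Subtype.ext ?_
      show tr r T * tr r Y * tr r T = (tr r Y)⁻¹
      rw [← map_mul, ← map_mul, ← map_inv, hYi]
      exact lift (by simp only [val_mul, vT, vY]; exact tY)
    · exact Subtype.ext (show tr r X ^ 3 = 1 by rw [← map_pow, rX, map_one])
    · exact Subtype.ext (show tr r Y ^ 3 = 1 by rw [← map_pow, rY, map_one])
    · refine Subtype.ext ?_
      show (tr r X * tr r Y) ^ 3 = 1
      rw [← map_mul, ← map_pow, ← map_one (tr r)]
      exact lift (by rw [val_pow, val_mul, val_one, vX, vY, pow_succ, pow_two]; exact t6)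
    · refine Subtype.ext ?_
      show (tr r X * (tr r Y)⁻¹) ^ 3 = 1
      rw [← map_inv, hYi, ← map_mul, ← map_pow, ← map_one (tr r)]
      exact lift (by simp only [val_pow, val_mul, val_one, vX, vY, pow_succ, pow_zero, one_mul]; exact t7)
    · intro h
      have h' : tr r X * tr r Y = tr r Y * tr r X := congrArg Subtype.val h
      rw [← map_mul, ← map_mul] at h'
      exact t1 (by simpa [val_mul, vX, vY] using congrArg (fun g : Cfsg.SU 3 E 2 => g.1.1) (tr_injective r h'))

end CfsgLib.Spor.SUThreeLift
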