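import Cfsg.Agent.Spor.Fischer.Local
import Cfsg.Agent.Spor.Fischer.Blocks
import Cfsg.Agent.Solv.Basic
import Mathlib

/-!
Members with one commuting set, local sets inside local sets, and central quotients of their groups.
-/

set_option autoImplicit false
set_option linter.unusedSectionVars false

namespace CfsgLib.Fischer

open Cfsg

variable {G : Type*} [Group G]

/-- closed under conjugation by its members -/
def SelfClosed (S : Set G) : Prop := ∀ a ∈ S, ∀ b ∈ S, a * b * a ∈ S

/-- the group generated by the set is transitive on it -/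
def Trans (S : Set G) : Prop := ∀ u ∈ S, ∀ v ∈ S, ∃ g ∈ Subgroup.closure S, g * u * g⁻¹ = v

/-- members are determined by their commuting sets -/
def Red (S : Set G) : Prop :=
  ∀ u ∈ S, ∀ v ∈ S, (∀ e ∈ S, Commute e u ↔ Commute e v) → u = v

def NoCentral (S : Set G) : Prop := ∀ u ∈ S, ∃ e ∈ S, ¬ Commute e u

/-- the group of `S` modulo its centre is `P` -/
def Sec (S : Set G) (P : Type*) [Group P] : Prop :=
  ∃ φ : Subgroup.closure S →* P, Function.Surjective φ ∧ φ.ker = Subgroup.center _

theorem Sec.of_equiv {S : Set G} {P : Type*} [Group P]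
    (e : (Subgroup.closure S) ⧸ Subgroup.center (Subgroup.closure S) ≃* P) : Sec S P :=
  ⟨e.toMonoidHom.comp (QuotientGroup.mk' _), e.surjective.comp (QuotientGroup.mk'_surjective _), by
    rw [← MonoidHom.comap_ker, (MonoidHom.ker_eq_bot_iff _).2 e.injective, MonoidHom.comap_bot,
      QuotientGroup.ker_mk']⟩

theorem three_mono {D S : Set G} (h : IsThreeTranspositionSet D) (hS : S ⊆ D) :
    IsThreeTranspositionSet S :=
  ⟨fun x hx => h.1 x (hS hx), fun x hx y hy => h.2 x (hS hx) y (hS hy)⟩

theorem dd_subset (S : Set G) (w : G) : Dd S w ⊆ S := fun _ hx => hx.1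

theorem selfClosed_dd {S : Set G} (h : IsThreeTranspositionSet S) (hS : SelfClosed S) (w : G) :
    SelfClosed (Dd S w) := by
  intro a ha b hb
  refine ⟨hS a ha.1 b hb.1, fun e => hb.2.1 ?_, (ha.2.2.mul_right hb.2.2).mul_right ha.2.2⟩
  have e1 : a * w * a = w := (commute_iff_conj h ha.1 w).1 ha.2.2.symm
  calc b = a * (a * b * a) * a := by
        simp only [mul_assoc, mul_cancel h ha.1]; rw [mul_self h ha.1, mul_one]
    _ = w := by rw [e, e1]

theorem selfClosed_of_conj {D : Set G} (h : IsThreeTranspositionSet D)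
    (hc : ∀ g : G, ∀ d ∈ D, g * d * g⁻¹ ∈ D) : SelfClosed D :=
  fun a ha b hb => by have := hc a b hb; rwa [inv_eq h ha] at this

theorem conj_mem_closure {S : Set G} (h : IsThreeTranspositionSet S) (hS : SelfClosed S) {g : G}
    (hg : g ∈ Subgroup.closure S) : ∀ u ∈ S, g * u * g⁻¹ ∈ S := by
  induction hg using Subgroup.closure_induction_right with
  | one => simp
  | mul_right s _ x hx ih =>
    intro u hu
    have := ih _ (hS x hx u hu)
    rwa [show s * x * u * (s * x)⁻¹ = s * (x * u * x) * s⁻¹ by rw [mul_inv_rev, inv_eq h hx]; group]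
  | mul_inv_cancel s _ x hx ih =>
    intro u hu
    have := ih _ (hS x hx u hu)
    rwa [show s * x⁻¹ * u * (s * x⁻¹)⁻¹ = s * (x * u * x) * s⁻¹ by
      rw [inv_eq h hx, mul_inv_rev, inv_eq h hx]; group]

/-- equal numbers of commuting members -/
theorem eq_commuting_of_subset [Finite G] {S : Set G} (h : IsThreeTranspositionSet S)
    (hS : SelfClosed S) (ht : Trans S) {u v : G} (hu : u ∈ S) (hv : v ∈ S)
    (hsub : ∀ e ∈ S, Commute e u → Commute e v) : ∀ e ∈ S, Commute e u ↔ Commute e v := by
  obtain ⟨g, hg, rfl⟩ := ht u hu v hv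
  set A := {e | e ∈ S ∧ Commute e u}
  set B := {e | e ∈ S ∧ Commute e (g * u * g⁻¹)}
  have himg : B ⊆ (fun e => g * e * g⁻¹) '' A := by
    rintro e ⟨he, hce⟩
    refine ⟨g⁻¹ * e * g, ⟨?_, ?_⟩, by group⟩
    · simpa using conj_mem_closure h hS (inv_mem hg) e he
    · have := (commute_conj_iff g⁻¹).2 hce
      simpa [mul_assoc] using this
  have heq : A = B := Set.eq_of_subset_of_ncard_le (fun e he => ⟨he.1, hsub e he.1 he.2⟩)
    ((Set.ncard_le_ncard himg).trans (Set.ncard_image_le (Set.toFinite A)))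
  exact fun e he => ⟨hsub e he, fun k => (show e ∈ A from heq ▸ ⟨he, k⟩).2⟩

/-- in a transitive reduced set no local set has a central member -/
theorem noCentral_dd [Finite G] {S : Set G} (h : IsThreeTranspositionSet S) (hS : SelfClosed S)
    (ht : Trans S) (hr : Red S) {w : G} (hw : w ∈ S) : NoCentral (Dd S w) := by
  intro u hu
  by_contra hcon
  push Not at hcon
  apply hu.2.1
  refine (hr w hw u hu.1 (eq_commuting_of_subset h hS ht hw hu.1 fun e he hew => ?_)).symm
  by_cases e1 : e = w
  · rw [e1]; exact hu.2.2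
  · exact hcon e ⟨he, e1, hew.symm⟩

/-- four commuting members whose product centralises the set have one commuting set -/
theorem same_of_four {S : Set G} (h : IsThreeTranspositionSet S) {c x y z : G} (hc : c ∈ S) (hx : x ∈ S)
    (hy : y ∈ S) (hz : z ∈ S) (hcx : Commute c x) (ncy : c ≠ y) (ncz : c ≠ z) (hcy : Commute c y)
    (hcz : Commute c z) (nxy : x ≠ y) (nxz : x ≠ z) (hxy : Commute x y) (hxz : Commute x z)
    (nyz : y ≠ z) (hyz : Commute y z) (hp : ∀ e ∈ S, Commute e (c * x * y * z)) :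
    ∀ e ∈ S, Commute e c ↔ Commute e x := by
  intro e he
  constructor <;> intro k
  · have k2 : Commute e (x * y * z) := by
      have := k.inv_right.mul_right (hp e he)
      rwa [show c⁻¹ * (c * x * y * z) = x * y * z by group] at this
    exact ((commute_prod_three h hx hy hz he nxy nxz nyz hxy hxz hyz).1 k2).1
  · have k2 : Commute e (c * y * z) := by
      have := k.inv_right.mul_right (hp e he)
      rwa [show x⁻¹ * (c * x * y * z) = x⁻¹ * (c * x) * (y * z) by group, hcx.eq,
        show x⁻¹ * (x * c) * (y * z) = c * y * z by group] at this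
    exact ((commute_prod_three h hc hy hz he ncy ncz nyz hcy hcz hyz).1 k2).1

/-- five commuting members whose product centralises a transitive reduced set do not exist when the
local set of one member is reduced -/
theorem no_five [Finite G] {X : Set G} (h : IsThreeTranspositionSet X) (hX : SelfClosed X) (ht : Trans X)
    {w : G} (hw : w ∈ X) (hr : Red (Dd X w)) {b c x y z : G} (hb : b ∈ X) (hc : c ∈ X) (hx : x ∈ X)
    (hy : y ∈ X) (hz : z ∈ X) (hnd : [b, c, x, y, z].Nodup)
    (hcomm : ∀ p ∈ [b, c, x, y, z], ∀ q ∈ [b, c, x, y, z], Commute p q)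
    (hp : ∀ e ∈ X, Commute e (b * c * x * y * z)) : False := by
  obtain ⟨g, hg, rfl⟩ := ht b hb w hw
  simp only [List.nodup_cons, List.mem_cons, List.not_mem_nil, or_false, not_or] at hnd
  obtain ⟨⟨bc, bx, b_y, bz⟩, ⟨cx, cy, cz⟩, ⟨xy, xz⟩, yz, -⟩ := hnd
  have C : ∀ p ∈ [b, c, x, y, z], ∀ q ∈ [b, c, x, y, z], Commute (g * p * g⁻¹) (g * q * g⁻¹) :=
    fun p hp q hq => (commute_conj_iff g).2 (hcomm p hp q hq)
  have inj : ∀ p q : G, p ≠ q → g * p * g⁻¹ ≠ g * q * g⁻¹ := fun p q hpq k => hpq (by simpa using k)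
  have memS : ∀ p, p ∈ [b, c, x, y, z] → p ∈ X → p ≠ b → g * p * g⁻¹ ∈ Dd X (g * b * g⁻¹) :=
    fun p hp hpX hpb => ⟨conj_mem_closure h hX hg p hpX, inj p b hpb, C b (by simp) p hp⟩
  have hS := three_mono h (dd_subset X (g * b * g⁻¹))
  refine inj c x cx (hr _ (memS c (by simp) hc (Ne.symm bc)) _ (memS x (by simp) hx (Ne.symm bx))
    (same_of_four hS (memS c (by simp) hc (Ne.symm bc)) (memS x (by simp) hx (Ne.symm bx))
      (memS y (by simp) hy (Ne.symm b_y)) (memS z (by simp) hz (Ne.symm bz))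
      (C c (by simp) x (by simp)) (inj _ _ cy) (inj _ _ cz) (C c (by simp) y (by simp))
      (C c (by simp) z (by simp)) (inj _ _ xy) (inj _ _ xz) (C x (by simp) y (by simp))
      (C x (by simp) z (by simp)) (inj _ _ yz) (C y (by simp) z (by simp)) fun e he => ?_))
  have h1 : Commute e (g * (b * c * x * y * z) * g⁻¹) := by
    have := (commute_conj_iff g).2 (hp (g⁻¹ * e * g)
      (by simpa using conj_mem_closure h hX (inv_mem hg) e he.1))
    simpa [mul_assoc] using this
  have h2 := (he.2.2.symm.inv_right).mul_right h1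
  rwa [show (g * b * g⁻¹)⁻¹ * (g * (b * c * x * y * z) * g⁻¹)
    = g * c * g⁻¹ * (g * x * g⁻¹) * (g * y * g⁻¹) * (g * z * g⁻¹) by group] at h2

/-- members with one commuting set differ by an element of the largest normal 2-subgroup -/
theorem mul_mem_pCore [Finite G] {E : Set G} (h : IsThreeTranspositionSet E)
    (hc : ∀ g : G, ∀ d ∈ E, g * d * g⁻¹ ∈ E) {u v : G} (hu : u ∈ E) (hv : v ∈ E)
    (hsame : ∀ e ∈ E, Commute e u ↔ Commute e v) : u * v ∈ pCore 2 G := by
  classical
  haveI : Fact (Nat.Prime 2) := ⟨Nat.prime_two⟩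
  set R := fun a b => ∀ e ∈ E, Commute e a ↔ Commute e b with hR0
  have hR : Part E R := by
    refine ⟨fun a e _ => Iff.rfl, fun a b k e he => (k e he).symm,
      fun a b c k k' e he => (k e he).trans (k' e he), fun g a b k e he => ?_⟩
    have := k (g⁻¹ * e * g) (by simpa using hc g⁻¹ e he)
    rw [← commute_conj_iff g (y := a), ← commute_conj_iff g (y := b)] at this
    simpa [mul_assoc] using this
  set V := fun a => Subgroup.closure {g : G | ∃ p ∈ E, ∃ q ∈ E, R a p ∧ R a q ∧ g = p * q} with hV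
  set M := Subgroup.closure {g : G | ∃ p ∈ E, ∃ q ∈ E, R p q ∧ g = p * q} with hM
  have hMN : M ≤ partKernel E R hR hc := by
    rw [hM, Subgroup.closure_le]
    rintro _ ⟨p, hp, q, hq, hpq, rfl⟩
    exact mul_mem_partKernel hR h hc hp hq hpq
  haveI hMn : M.Normal := by
    refine ⟨fun k hk g => ?_⟩
    induction hk using Subgroup.closure_induction with
    | mem z hz =>
      obtain ⟨p, hp, q, hq, hpq, rfl⟩ := hz
      exact Subgroup.subset_closure ⟨_, hc g p hp, _, hc g q hq, hR.conj g p q hpq, by group⟩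
    | one => simp
    | mul z w _ _ hz hw =>
      rw [show g * (z * w) * g⁻¹ = (g * z * g⁻¹) * (g * w * g⁻¹) by group]; exact mul_mem hz hw
    | inv z _ hz => rw [show g * z⁻¹ * g⁻¹ = (g * z * g⁻¹)⁻¹ by group]; exact inv_mem hz
  -- the products from one class
  have hVM : ∀ a ∈ E, V a ≤ M := fun a _ => by
    rw [hV, Subgroup.closure_le]
    rintro _ ⟨p, hp, q, hq, h1, h2, rfl⟩
    exact Subgroup.subset_closure ⟨p, hp, q, hq, hR.trans _ _ _ (hR.symm _ _ h1) h2, rfl⟩
  have hVn : ∀ a ∈ E, ((V a).subgroupOf M).Normal := by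
    intro a ha
    refine ⟨fun z hz m => ?_⟩
    obtain ⟨z, hzM⟩ := z
    show (m : G) * z * (m : G)⁻¹ ∈ V a
    have hma : R ((m : G) * a * (m : G)⁻¹) a := hMN m.2 a ha
    have hz' : z ∈ V a := hz
    clear hz hzM
    induction hz' using Subgroup.closure_induction with
    | mem y hy =>
      obtain ⟨p, hp, q, hq, h1, h2, rfl⟩ := hy
      exact Subgroup.subset_closure ⟨_, hc m p hp, _, hc m q hq,
        hR.trans _ _ _ (hR.symm _ _ hma) (hR.conj m _ _ h1),
        hR.trans _ _ _ (hR.symm _ _ hma) (hR.conj m _ _ h2), by group⟩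
    | one => simp
    | mul y w _ _ hy hw =>
      rw [show (m : G) * (y * w) * (m : G)⁻¹ = ((m : G) * y * (m : G)⁻¹) * (m * w * (m : G)⁻¹) by group]
      exact mul_mem hy hw
    | inv y _ hy =>
      rw [show (m : G) * y⁻¹ * (m : G)⁻¹ = ((m : G) * y * (m : G)⁻¹)⁻¹ by group]; exact inv_mem hy
  have hclass : ∀ {a p q : G}, p ∈ E → R a p → R a q → Commute p q := fun {a p q} hp h1 h2 =>
    ((hR.trans _ _ _ (hR.symm _ _ h1) h2) p hp).1 (Commute.refl p)
  have hV2 : ∀ a ∈ E, IsPGroup 2 (V a) := by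
    intro a ha
    have key : ∀ x ∈ V a, ∀ y ∈ V a, Commute x y := by
      intro x hx y hy
      refine Subgroup.closure_induction (p := fun x _ => Commute x y) (fun x hx0 => ?_)
        (Commute.one_left _) (fun _ _ _ _ h1 h2 => h1.mul_left h2) (fun _ _ h1 => h1.inv_left) hx
      obtain ⟨p, hp, q, hq, h1, h2, rfl⟩ := hx0
      refine Subgroup.closure_induction (p := fun y _ => Commute (p * q) y) (fun y hy0 => ?_)
        (Commute.one_right _) (fun _ _ _ _ h1 h2 => h1.mul_right h2) (fun _ _ h1 => h1.inv_right) hy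
      obtain ⟨p', hp', q', hq', h1', h2', rfl⟩ := hy0
      exact ((hclass hp h1 h1').mul_left (hclass hq h2 h1')).mul_right
        ((hclass hp h1 h2').mul_left (hclass hq h2 h2'))
    have sq : ∀ x ∈ V a, x ^ 2 = 1 := by
      intro x hx
      induction hx using Subgroup.closure_induction with
      | mem y hy =>
        obtain ⟨p, hp, q, hq, h1, h2, rfl⟩ := hy
        rw [pow_two]; exact sq_pair h hp hq (hclass hp h1 h2)
      | one => simp
      | mul y w hy hw h1 h2 => rw [(key y hy w hw).mul_pow, h1, h2, one_mul]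
      | inv y _ h1 => rw [inv_pow, h1, inv_one]
    exact fun x => ⟨1, Subtype.ext (by simpa using sq x x.2)⟩
  have hM2 : IsPGroup 2 M := by
    have htop : (pCore 2 M) = ⊤ := by
      rw [eq_top_iff]
      rintro ⟨x, hx⟩ -
      have hle : M ≤ (pCore 2 M).map M.subtype := by
        conv_lhs => rw [hM]
        rw [Subgroup.closure_le]
        rintro _ ⟨p, hp, q, hq, hpq, rfl⟩
        have hmem : p * q ∈ M := Subgroup.subset_closure ⟨p, hp, q, hq, hpq, rfl⟩
        haveI := hVn p hp
        have hle := CfsgLib.Solv.le_pCore (p := 2) (N := (V p).subgroupOf M)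
          ((hV2 p hp).comap_of_injective _ M.subtype_injective)
        exact ⟨⟨p * q, hmem⟩, hle (show p * q ∈ V p from
          Subgroup.subset_closure ⟨p, hp, q, hq, hR.refl p, hpq, rfl⟩), rfl⟩
      obtain ⟨y, hy, hyx⟩ := hle hx
      rwa [show (⟨x, hx⟩ : M) = y from Subtype.ext hyx.symm]
    have := (CfsgLib.Solv.pCore_isPGroup (G := M) (p := 2))
    rw [htop] at this
    exact this.of_equiv Subgroup.topEquiv
  exact CfsgLib.Solv.le_pCore hM2 (Subgroup.subset_closure ⟨u, hu, v, hv, hsame, rfl⟩)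

/-- members with one commuting set, in the group generated by the set -/
theorem mul_mem_pCore_closure [Finite G] {S : Set G} (h : IsThreeTranspositionSet S) (hS : SelfClosed S)
    {u v : G} (hu : u ∈ S) (hv : v ∈ S) (hsame : ∀ e ∈ S, Commute e u ↔ Commute e v) :
    (⟨u * v, mul_mem (Subgroup.subset_closure hu) (Subgroup.subset_closure hv)⟩ : Subgroup.closure S)
      ∈ pCore 2 (Subgroup.closure S) := by
  have hh : IsThreeTranspositionSet ({x : Subgroup.closure S | (x : G) ∈ S}) := by
    refine ⟨fun x hx => ?_, fun x hx y hy => ?_⟩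
    · rw [← Subgroup.orderOf_coe]; exact h.1 _ hx
    · rcases h.2 _ hx _ hy with k | k
      · exact Or.inl (Subtype.ext (by simpa using k))
      · exact Or.inr (Subtype.ext (by simpa using k))
  refine mul_mem_pCore hh (fun g d hd => conj_mem_closure h hS g.2 _ hd)
    (u := ⟨u, Subgroup.subset_closure hu⟩) (v := ⟨v, Subgroup.subset_closure hv⟩) hu hv fun e he => ?_
  constructor <;> intro k
  · exact Subtype.ext ((hsame e he).1 (congrArg Subtype.val k.eq)).eq
  · exact Subtype.ext ((hsame e he).2 (congrArg Subtype.val k.eq)).eq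

theorem central_of_mul [Finite G] {S : Set G} (h : IsThreeTranspositionSet S) (hS : SelfClosed S) {u v : G}
    (hu : u ∈ S) (hv : v ∈ S) (hne : u ≠ v) (hsame : ∀ e ∈ S, Commute e u ↔ Commute e v)
    (hz : pCore 2 (Subgroup.closure S) ≤ Subgroup.center _) : ∀ e ∈ S, Commute e u := by
  intro e he
  have := Subgroup.mem_center_iff.1 (hz (mul_mem_pCore_closure h hS hu hv hsame))
    ⟨e, Subgroup.subset_closure he⟩
  exact ((commute_prod_two h hu hv he hne ((hsame u hu).1 (Commute.refl u))).1
    (congrArg Subtype.val this)).1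

theorem red_of_core [Finite G] {S : Set G} (h : IsThreeTranspositionSet S) (hS : SelfClosed S)
    (hn : NoCentral S) (hz : pCore 2 (Subgroup.closure S) ≤ Subgroup.center _) : Red S := by
  intro u hu v hv hsame
  by_contra hne
  obtain ⟨e, he, hnc⟩ := hn u hu
  exact hnc (central_of_mul h hS hu hv hne hsame hz e he)

theorem core_le_of_sec [Finite G] {S : Set G} {P : Type*} [Group P] (hs : Sec S P)
    (hP : ∀ M : Subgroup P, M.Normal → IsPGroup 2 M → M = ⊥) :
    pCore 2 (Subgroup.closure S) ≤ Subgroup.center _ := by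
  obtain ⟨φ, hφ, hk⟩ := hs
  intro x hx
  haveI := CfsgLib.Solv.pCore_normal (G := Subgroup.closure S) (p := 2)
  have hb := hP _ ((inferInstance : (pCore 2 (Subgroup.closure S)).Normal).map φ hφ)
    ((CfsgLib.Solv.pCore_isPGroup (G := Subgroup.closure S) (p := 2)).map φ)
  rw [← hk, MonoidHom.mem_ker, ← Subgroup.mem_bot, ← hb]
  exact ⟨x, hx, rfl⟩

/-- a transitive set with a member whose local group has no normal 2-subgroup modulo its centre is reduced -/
theorem red_up [Finite G] {S : Set G} (h : IsThreeTranspositionSet S) (hS : SelfClosed S) (ht : Trans S)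
    {t : G} (htS : t ∈ S) (hz : pCore 2 (Subgroup.closure (Dd S t)) ≤ Subgroup.center _)
    (hnc : ∃ p ∈ Dd S t, ∃ q ∈ Dd S t, ¬ Commute p q) : Red S := by
  intro u hu v hv hsame
  by_contra hne
  obtain ⟨p, hp, q, hq, hpq⟩ := hnc
  obtain ⟨r, hr, hrt⟩ : ∃ r ∈ Dd S t, ¬ ∀ e ∈ S, Commute e r ↔ Commute e t := by
    by_contra hcon
    push Not at hcon
    exact hpq ((hcon q hq p hp.1).2 hp.2.2.symm)
  -- the class of `r` has another member
  obtain ⟨g, hg, hgr⟩ := ht u hu r hr.1
  have hsame' : ∀ e ∈ S, Commute e r ↔ Commute e (g * v * g⁻¹) := by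
    intro e he
    have := hsame (g⁻¹ * e * g) (by simpa using conj_mem_closure h hS (inv_mem hg) e he)
    rw [← commute_conj_iff g (y := u), ← commute_conj_iff g (y := v), hgr] at this
    simpa [mul_assoc] using this
  have hr' : g * v * g⁻¹ ∈ Dd S t :=
    ⟨conj_mem_closure h hS hg v hv, fun k => hrt (k ▸ hsame'), ((hsame' t htS).1 hr.2.2)⟩
  have hcent := central_of_mul (three_mono h (dd_subset S t)) (selfClosed_dd h hS t) hr hr'
    (fun k => hne (by rw [← hgr] at k; simpa using k)) (fun e he => hsame' e he.1) hz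
  apply hrt
  intro e he
  refine (eq_commuting_of_subset h hS ht htS hr.1 (fun e he het => ?_) e he).symm
  by_cases e1 : e = t
  · rw [e1]; exact hr.2.2
  · exact hcent e ⟨he, e1, het.symm⟩

/-- the images in the central quotient -/
def img (S U : Set G) : Set (Subgroup.closure S ⧸ Subgroup.center (Subgroup.closure S)) :=
  (QuotientGroup.mk : Subgroup.closure S → _) '' {x | (x : G) ∈ U}

section Lift

variable {S : Set G}

theorem mem_img {U : Set G} (hU : U ⊆ S) {q} :
    q ∈ img S U ↔ ∃ u, ∃ hu : u ∈ U, QuotientGroup.mk (⟨u, Subgroup.subset_closure (hU hu)⟩ :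
      Subgroup.closure S) = q :=
  ⟨fun ⟨⟨u, _⟩, hu, hq⟩ => ⟨u, hu, hq⟩, fun ⟨u, hu, hq⟩ => ⟨⟨u, _⟩, hu, hq⟩⟩

theorem img_inj (h : IsThreeTranspositionSet S) (hn : NoCentral S) {u v : Subgroup.closure S}
    (hu : (u : G) ∈ S) (hv : (v : G) ∈ S)
    (he : (u : Subgroup.closure S ⧸ Subgroup.center (Subgroup.closure S)) = v) : u = v := by
  have hz : (u : G) * v ∈ Subgroup.centralizer S := by
    have h1 := QuotientGroup.eq.1 he
    intro e hec
    have h2 := congrArg Subtype.val (Subgroup.mem_center_iff.1 h1 ⟨e, Subgroup.subset_closure hec⟩)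
    simpa [inv_eq h hu] using h2
  have hz' : ∀ e ∈ S, Commute e ((u : G) * v) := fun e he => hz e he
  have huv : Commute (u : G) v := by
    have k := (hz' u hu).eq
    rw [mul_cancel h hu, mul_assoc] at k
    exact (commute_iff_conj h hu _).2 (by rw [mul_assoc]; exact k.symm)
  by_contra hne
  obtain ⟨e, he, hnc⟩ := hn u hu
  exact hnc ((commute_prod_two h hu hv he (fun k => hne (Subtype.ext k)) huv).1 (hz' e he)).1

theorem img_commute (h : IsThreeTranspositionSet S) (hS : SelfClosed S) (hn : NoCentral S)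
    {u v : Subgroup.closure S} (hu : (u : G) ∈ S) (hv : (v : G) ∈ S)
    (he : Commute (u : Subgroup.closure S ⧸ Subgroup.center (Subgroup.closure S)) v) :
    Commute (u : G) v := by
  have h1 : (((u * v * u⁻¹ : Subgroup.closure S)) : Subgroup.closure S ⧸ Subgroup.center _) = v := by
    rw [QuotientGroup.mk_mul, QuotientGroup.mk_mul, QuotientGroup.mk_inv, he.eq]; group
  have h2 := img_inj h hn (u := u * v * u⁻¹) (conj_mem_closure h hS u.2 _ hv) hv h1
  have h3 := congrArg Subtype.val h2
  simp only [Subgroup.coe_mul, Subgroup.coe_inv] at h3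
  exact (mul_inv_eq_iff_eq_mul.1 h3)

theorem img_three (h : IsThreeTranspositionSet S) (hn : NoCentral S) :
    IsThreeTranspositionSet (img S S) := by
  refine ⟨?_, ?_⟩
  · rintro _ ⟨u, hu, rfl⟩
    refine orderOf_eq_prime ?_ fun k => ?_
    · rw [← QuotientGroup.mk_pow, pow_two, show u * u = 1 from Subtype.ext (mul_self h hu)]; rfl
    · obtain ⟨e, he, hnc⟩ := hn u hu
      exact hnc (congrArg Subtype.val
        (Subgroup.mem_center_iff.1 ((QuotientGroup.eq_one_iff u).1 k) ⟨e, Subgroup.subset_closure he⟩))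
  · rintro _ ⟨u, hu, rfl⟩ _ ⟨v, hv, rfl⟩
    rcases h.2 _ hu _ hv with k | k
    · exact Or.inl (by rw [← QuotientGroup.mk_mul, ← QuotientGroup.mk_pow,
        show (u * v) ^ 2 = 1 from Subtype.ext (by simpa using k)]; rfl)
    · exact Or.inr (by rw [← QuotientGroup.mk_mul, ← QuotientGroup.mk_pow,
        show (u * v) ^ 3 = 1 from Subtype.ext (by simpa using k)]; rfl)

theorem img_selfClosed (hS : SelfClosed S) : SelfClosed (img S S) := by
  rintro _ ⟨u, hu, rfl⟩ _ ⟨v, hv, rfl⟩
  exact ⟨u * v * u, hS _ hu _ hv, rfl⟩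

theorem img_noCentral (h : IsThreeTranspositionSet S) (hS : SelfClosed S) (hn : NoCentral S)
    {U : Set G} (hU : U ⊆ S) (hnU : NoCentral U) : NoCentral (img S U) := by
  rintro _ ⟨u, hu, rfl⟩
  obtain ⟨e, he, hnc⟩ := hnU u hu
  exact ⟨_, ⟨⟨e, Subgroup.subset_closure (hU he)⟩, he, rfl⟩,
    fun k => hnc (img_commute h hS hn (hU he) (hU hu) k)⟩

theorem dd_img (h : IsThreeTranspositionSet S) (hS : SelfClosed S) (hn : NoCentral S) {U : Set G}
    (hU : U ⊆ S) (w : Subgroup.closure S) (hw : (w : G) ∈ S) :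
    Dd (img S U) (w : Subgroup.closure S ⧸ Subgroup.center (Subgroup.closure S)) =
      img S (Dd U (w : G)) := by
  ext q
  constructor
  · rintro ⟨⟨u, hu, rfl⟩, hne, hc⟩
    exact ⟨u, ⟨hu, fun k => hne (by rw [show u = w from Subtype.ext k]),
      img_commute h hS hn hw (hU hu) hc⟩, rfl⟩
  · rintro ⟨u, ⟨hu, hne, hc⟩, rfl⟩
    refine ⟨⟨u, hu, rfl⟩, fun k => hne (congrArg Subtype.val (img_inj h hn (hU hu) hw k)), ?_⟩
    exact Commute.map (Subtype.ext hc.eq : Commute w u) (QuotientGroup.mk' _)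

theorem inter_img (h : IsThreeTranspositionSet S) (hn : NoCentral S) {U V : Set G}
    (hU : U ⊆ S) (hV : V ⊆ S) : img S U ∩ img S V = img S (U ∩ V) := by
  ext q
  constructor
  · rintro ⟨⟨u, hu, rfl⟩, v, hv, huv⟩
    obtain rfl := img_inj h hn (hV hv) (hU hu) huv
    exact ⟨v, ⟨hu, hv⟩, rfl⟩
  · rintro ⟨u, ⟨h1, h2⟩, rfl⟩
    exact ⟨⟨u, h1, rfl⟩, u, h2, rfl⟩

/-- a section of a central quotient is a section -/
theorem Sec.lift (h : IsThreeTranspositionSet S) (hS : SelfClosed S) (hn : NoCentral S) {U : Set G}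
    (hU : U ⊆ S) {P : Type*} [Group P] (hsec : Sec (img S U) P) : Sec U P := by
  obtain ⟨φ, hφ, hk⟩ := hsec
  have hle : Subgroup.closure U ≤ Subgroup.closure S := Subgroup.closure_mono hU
  let f : Subgroup.closure U →* (Subgroup.closure S ⧸ Subgroup.center (Subgroup.closure S)) :=
    (QuotientGroup.mk' _).comp (Subgroup.inclusion hle)
  have hrange : f.range = Subgroup.closure (img S U) := by
    rw [MonoidHom.range_eq_map, ← Subgroup.closure_closure_coe_preimage (k := U),
      MonoidHom.map_closure]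
    congr 1
    ext q
    constructor
    · rintro ⟨x, hx, rfl⟩
      exact ⟨Subgroup.inclusion hle x, hx, rfl⟩
    · rintro ⟨x, hx, rfl⟩
      exact ⟨⟨x, Subgroup.subset_closure hx⟩, hx, rfl⟩
  let g : Subgroup.closure U →* Subgroup.closure (img S U) :=
    f.codRestrict _ fun x => hrange ▸ ⟨x, rfl⟩
  have hg : Function.Surjective g := by
    rintro ⟨y, hy⟩
    rw [← hrange] at hy
    obtain ⟨x, rfl⟩ := hy
    exact ⟨x, rfl⟩
  refine ⟨φ.comp g, hφ.comp hg, ?_⟩
  ext x
  rw [MonoidHom.mem_ker, MonoidHom.comp_apply, ← MonoidHom.mem_ker, hk]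
  constructor
  · intro hx
    have key : ∀ y ∈ Subgroup.closure U, Commute y (x : G) := by
      intro y hy
      induction hy using Subgroup.closure_induction with
      | mem e he =>
        have h1 := congrArg Subtype.val
          (Subgroup.mem_center_iff.1 hx (g ⟨e, Subgroup.subset_closure he⟩))
        set X := Subgroup.inclusion hle x
        set E : Subgroup.closure S := ⟨e, Subgroup.subset_closure (hU he)⟩
        have h2 : (((X * E * X⁻¹ : Subgroup.closure S)) : Subgroup.closure S ⧸ Subgroup.center _) = E := by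
          have h1' : (E : Subgroup.closure S ⧸ Subgroup.center _) * X = X * E := h1
          rw [QuotientGroup.mk_mul, QuotientGroup.mk_mul, QuotientGroup.mk_inv, ← h1']; group
        have h3 := congrArg Subtype.val
          (img_inj h hn (u := X * E * X⁻¹) (conj_mem_closure h hS X.2 _ (hU he)) (hU he) h2)
        simp only [Subgroup.coe_mul, Subgroup.coe_inv] at h3
        exact (mul_inv_eq_iff_eq_mul.1 h3).symm
      | one => exact Commute.one_left _
      | mul a b _ _ ha hb => exact ha.mul_left hb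
      | inv a _ ha => exact ha.inv_left
    exact Subgroup.mem_center_iff.2 fun y => Subtype.ext (key y y.2).eq
  · intro hx
    refine Subgroup.mem_center_iff.2 fun q => ?_
    obtain ⟨y, rfl⟩ := hg q
    rw [← map_mul, ← map_mul, Subgroup.mem_center_iff.1 hx y]

end Lift

end CfsgLib.Fischer
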